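import Mathlib

set_option autoImplicit false

namespace Cfsg.Agent.Lib.helper62

/-- The action of automorphisms of an elementary abelian `p`-group `A` on the
`ZMod p`-vector space `Additive A`. -/
def autToEnd (p : ℕ) (A : Type*) [CommGroup A] [Module (ZMod p) (Additive A)] :
    MulAut A →* Module.End (ZMod p) (Additive A) where
  toFun c := (MonoidHom.toAdditive c.toMonoidHom).toZModLinearMap p
  map_one' := LinearMap.ext fun _ => rfl
  map_mul' _ _ := LinearMap.ext fun _ => rfl

theorem autToEnd_apply (p : ℕ) (A : Type*) [CommGroup A] [Module (ZMod p) (Additive A)]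
    (c : MulAut A) (a : A) : autToEnd p A c (Additive.ofMul a) = Additive.ofMul (c a) := rfl

open scoped IsMulCommutative in
/-- Auxiliary form of `exists_hom_GL_ker_centralizer`, with the module structure given. -/
theorem exists_hom_GL_aux {H : Type*} [Group H] (A : Subgroup H) [A.Normal] [Finite A]
    [IsMulCommutative A] (p e : ℕ) [Fact p.Prime] [Module (ZMod p) (Additive A)]
    (hcard : Nat.card A = p ^ e) :
    ∃ φ : H →* GL (Fin e) (ZMod p), φ.ker = Subgroup.centralizer (A : Set H) := by
  have : Finite (Additive A) := inferInstanceAs (Finite A)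
  have : Module.Finite (ZMod p) (Additive A) := Module.Finite.of_finite
  have hfr : Module.finrank (ZMod p) (Additive A) = e := by
    have h := Module.natCard_eq_pow_finrank (K := ZMod p) (V := Additive A)
    rw [Nat.card_zmod] at h
    have h2 : Nat.card (Additive A) = Nat.card A := rfl
    rw [h2, hcard] at h
    exact (Nat.pow_right_injective (Fact.out : p.Prime).two_le h).symm
  let b : Module.Basis (Fin e) (ZMod p) (Additive A) := Module.finBasisOfFinrankEq _ _ hfr
  let ψ : H →* Module.End (ZMod p) (Additive A) := (autToEnd p A).comp MulAut.conjNormal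
  let E : (Module.End (ZMod p) (Additive A))ˣ ≃* GL (Fin e) (ZMod p) :=
    Units.mapEquiv (LinearMap.toMatrixAlgEquiv b).toMulEquiv
  refine ⟨E.toMonoidHom.comp ψ.toHomUnits, ?_⟩
  ext h
  rw [MonoidHom.mem_ker, Subgroup.mem_centralizer_iff]
  constructor
  · intro hh a ha
    have h1 : ψ.toHomUnits h = 1 := by
      apply E.injective
      rw [map_one]
      exact hh
    have h2 : ψ h = 1 := by
      have := congrArg Units.val h1
      simpa using this
    have h3 : ψ h (Additive.ofMul (⟨a, ha⟩ : A)) = Additive.ofMul (⟨a, ha⟩ : A) := by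
      rw [h2]; rfl
    have h4 : (MulAut.conjNormal h : MulAut A) ⟨a, ha⟩ = ⟨a, ha⟩ := h3
    have h5 := congrArg Subtype.val h4
    rw [MulAut.conjNormal_apply] at h5
    have h6 : h * a = a * h := by
      have : h * a = (h * a * h⁻¹) * h := by group
      rw [this, h5]
    exact h6.symm
  · intro hh
    have h2 : ψ h = 1 := by
      apply LinearMap.ext
      intro v
      have h4 : (MulAut.conjNormal h : MulAut A) v.toMul = v.toMul := by
        apply Subtype.ext
        rw [MulAut.conjNormal_apply]
        have := hh v.toMul v.toMul.2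
        rw [← this, mul_inv_cancel_right]
      exact congrArg Additive.ofMul h4
    have h1 : ψ.toHomUnits h = 1 := by
      apply Units.ext
      simpa using h2
    change E (ψ.toHomUnits h) = 1
    rw [h1, map_one]

open scoped IsMulCommutative in
/-- If `A` is an elementary abelian normal subgroup of order `p ^ e` of `H`, conjugation gives
a homomorphism `H →* GL (Fin e) (ZMod p)` whose kernel is the centralizer of `A`. -/
theorem exists_hom_GL_ker_centralizer {H : Type*} [Group H] (A : Subgroup H) [A.Normal]
    [Finite A] [IsMulCommutative A] (p e : ℕ) [Fact p.Prime] (hexp : ∀ x ∈ A, x ^ p = 1)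
    (hcard : Nat.card A = p ^ e) :
    ∃ φ : H →* GL (Fin e) (ZMod p), φ.ker = Subgroup.centralizer (A : Set H) :=
  @exists_hom_GL_aux H _ A _ _ _ p e _
    (AddCommGroup.zmodModule (n := p)
      (fun x => congrArg Additive.ofMul (Subtype.ext (hexp x.toMul x.toMul.2))))
    hcard

end Cfsg.Agent.Lib.helper62
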