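import Mathlib

set_option autoImplicit false

namespace Cfsg.Agent.Lib.helper62.FpfLift

open scoped MonoidAlgebra

universe u v w

/-- Trace-zero property of a module for a group: for every element `a` of prime order, the sum of
the `a ^ i • x` over a period vanishes.  (Equivalent to fixed-point-freeness in coprime
characteristic.) -/
def TZ (A : Type*) [Group A] (M : Type*) [AddCommGroup M] [DistribMulAction A M] : Prop :=
  ∀ a : A, (orderOf a).Prime → ∀ x : M, ∑ i ∈ Finset.range (orderOf a), a ^ i • x = 0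

section Basic

variable (k : Type*) [CommRing k] {A : Type*} [Group A]

/-- The trace element `1 + c + ... + c^(o(c)-1)` of the group algebra. -/
noncomputable def tr (c : A) : MonoidAlgebra k A :=
  ∑ i ∈ Finset.range (orderOf c), MonoidAlgebra.of k A (c ^ i)

/-- Generators of the trace ideal. -/
def gens (A : Type*) [Group A] : Set (MonoidAlgebra k A) :=
  {x | ∃ c y : A, (orderOf c).Prime ∧ x = tr k c * MonoidAlgebra.of k A y}

/-- The trace ideal: the left (in fact two-sided) ideal generated by the trace elements of the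
elements of prime order. -/
noncomputable def IL (A : Type*) [Group A] : Ideal (MonoidAlgebra k A) := Ideal.span (gens k A)

theorem tr_mul_mem (c : A) (hc : (orderOf c).Prime) (x : MonoidAlgebra k A) :
    tr k c * x ∈ IL k A := by
  induction x using MonoidAlgebra.induction_on with
  | of g => exact Ideal.subset_span ⟨c, g, hc, rfl⟩
  | add x y hx hy => rw [mul_add]; exact Ideal.add_mem _ hx hy
  | smul r x hx =>
    rw [mul_smul_comm, Algebra.smul_def]
    exact Ideal.mul_mem_left _ _ hx

theorem of_mul_tr (c : A) (_hc : 0 < orderOf c) : MonoidAlgebra.of k A c * tr k c = tr k c := by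
  unfold tr
  rw [Finset.mul_sum]
  have h1 : ∀ i ∈ Finset.range (orderOf c),
      MonoidAlgebra.of k A c * MonoidAlgebra.of k A (c ^ i) = MonoidAlgebra.of k A (c ^ (i + 1)) := by
    intro i _
    rw [← map_mul, pow_succ']
  rw [Finset.sum_congr rfl h1]
  have h2 := Finset.sum_range_succ (fun i => MonoidAlgebra.of k A (c ^ i)) (orderOf c)
  have h3 := Finset.sum_range_succ' (fun i => MonoidAlgebra.of k A (c ^ i)) (orderOf c)
  rw [h3] at h2
  simp only [pow_orderOf_eq_one, pow_zero] at h2
  exact add_right_cancel h2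

theorem of_pow_mul_tr (c : A) (hc : 0 < orderOf c) (i : ℕ) :
    MonoidAlgebra.of k A (c ^ i) * tr k c = tr k c := by
  induction i with
  | zero => rw [pow_zero, map_one, one_mul]
  | succ n ih => rw [pow_succ, map_mul, mul_assoc, of_mul_tr k c hc, ih]

theorem tr_mul_tr (c : A) (hc : 0 < orderOf c) :
    tr k c * tr k c = (orderOf c : k) • tr k c := by
  show (∑ i ∈ Finset.range (orderOf c), MonoidAlgebra.of k A (c ^ i)) * tr k c = _
  rw [Finset.sum_mul, Finset.sum_congr rfl (fun i _ => of_pow_mul_tr k c hc i), Finset.sum_const,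
    Finset.card_range, Nat.cast_smul_eq_nsmul]

end Basic

section Action

variable (k : Type*) [CommRing k] {A : Type*} [Group A] {M : Type*} [AddCommGroup M] [Module k M]
  [DistribMulAction A M] [SMulCommClass A k M]

theorem IL_le_ker (hM : TZ A M) :
    IL k A ≤ RingHom.ker ((Representation.ofDistribMulAction k A M).asAlgebraHom :
      MonoidAlgebra k A →+* Module.End k M) := by
  apply Ideal.span_le.mpr
  rintro x ⟨c, y, hc, rfl⟩
  rw [SetLike.mem_coe, RingHom.mem_ker]
  ext m
  have h := hM c hc (y • m)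
  simp only [tr, map_mul, map_sum, RingHom.coe_coe, Representation.asAlgebraHom_of,
    Module.End.mul_apply, LinearMap.sum_apply, Representation.ofDistribMulAction_apply_apply,
    LinearMap.zero_apply]
  exact h

end Action

section Maschke

variable {A : Type u} [Group A] [Finite A] (p : ℕ) [Fact p.Prime]

theorem exists_idem (hp : ¬ p ∣ Nat.card A)
    (h1 : (1 : MonoidAlgebra (ZMod p) A) ∉ IL (ZMod p) A) :
    ∃ ε : MonoidAlgebra (ZMod p) A, ε ≠ 0 ∧ IsIdempotentElem ε ∧
      ∀ j ∈ IL (ZMod p) A, j * ε = 0 := by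
  have : NeZero (Nat.card A : ZMod p) := ⟨fun h => hp ((ZMod.natCast_eq_zero_iff _ _).mp h)⟩
  obtain ⟨q, hq⟩ := MonoidAlgebra.Submodule.exists_isCompl (IL (ZMod p) A)
  have htop : (1 : MonoidAlgebra (ZMod p) A) ∈ IL (ZMod p) A ⊔ q := by
    rw [hq.sup_eq_top]; trivial
  obtain ⟨i, hi, ε, hε, hsum⟩ := Submodule.mem_sup.mp htop
  have hinf : ∀ x, x ∈ IL (ZMod p) A → x ∈ q → x = 0 := fun x hx hxq => by
    have : x ∈ IL (ZMod p) A ⊓ q := ⟨hx, hxq⟩
    rw [hq.inf_eq_bot] at this
    exact (Submodule.mem_bot _).mp this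
  have hεi : ε * i = 0 := by
    apply hinf
    · exact Ideal.mul_mem_left _ _ hi
    · have : ε * i = ε - ε * ε := by
        have := congrArg (fun t => ε * t) hsum
        simp only [mul_add, mul_one] at this
        exact eq_sub_of_add_eq this
      rw [this]
      exact q.sub_mem hε (q.smul_mem ε hε)
  refine ⟨ε, ?_, ?_, ?_⟩
  · rintro rfl
    rw [add_zero] at hsum
    exact h1 (hsum ▸ hi)
  · have := congrArg (fun t => ε * t) hsum
    simp only [mul_add, mul_one, hεi, zero_add] at this
    exact this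
  · intro j hj
    apply hinf
    · have : j * ε = j - j * i := by
        have := congrArg (fun t => j * t) hsum
        simp only [mul_add, mul_one] at this
        exact eq_sub_of_add_eq' this
      rw [this]
      exact Submodule.sub_mem _ hj (Ideal.mul_mem_left _ _ hi)
    · exact q.smul_mem j hε

end Maschke

section MapRing

variable {S T : Type*} [CommRing S] [CommRing T] (f : S →+* T) {A : Type*} [Group A]

theorem map_of (g : A) :
    MonoidAlgebra.mapRingHom A f (MonoidAlgebra.of S A g) = MonoidAlgebra.of T A g := by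
  simp [MonoidAlgebra.of]

theorem map_tr (c : A) : MonoidAlgebra.mapRingHom A f (tr S c) = tr T c := by
  simp only [tr, map_sum, map_of]

theorem map_IL : Ideal.map (MonoidAlgebra.mapRingHom A f) (IL S A) = IL T A := by
  unfold IL
  rw [Ideal.map_span]
  congr 1
  ext x
  constructor
  · rintro ⟨_, ⟨c, y, hc, rfl⟩, rfl⟩
    exact ⟨c, y, hc, by rw [map_mul, map_tr, map_of]⟩
  · rintro ⟨c, y, hc, rfl⟩
    exact ⟨tr S c * MonoidAlgebra.of S A y, ⟨c, y, hc, rfl⟩, by rw [map_mul, map_tr, map_of]⟩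

theorem map_mem_IL {x : MonoidAlgebra S A} (hx : x ∈ IL S A) :
    MonoidAlgebra.mapRingHom A f x ∈ IL T A := by
  rw [← map_IL f]
  exact Ideal.mem_map_of_mem _ hx

end MapRing

section PK

variable {A : Type u} [Group A] (p : ℕ) [Fact p.Prime] (k : ℕ)

/-- Reduction modulo `p` from `ZMod (p ^ (k + 1))`. -/
noncomputable def red : ZMod (p ^ (k + 1)) →+* ZMod p :=
  ZMod.castHom (dvd_pow_self p (Nat.succ_ne_zero k)) (ZMod p)

instance neZeroPow : NeZero (p ^ (k + 1)) := ⟨pow_ne_zero _ (Fact.out : p.Prime).ne_zero⟩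

theorem red_eq_zero (c : ZMod (p ^ (k + 1))) (hc : red p k c = 0) :
    c = (p : ZMod (p ^ (k + 1))) * ((c.val / p : ℕ) : ZMod (p ^ (k + 1))) := by
  have h1 : ((c.val : ℕ) : ZMod p) = 0 := by
    rw [ZMod.natCast_val]; rw [red, ZMod.castHom_apply] at hc; exact hc
  have h2 : p ∣ c.val := (ZMod.natCast_eq_zero_iff _ _).mp h1
  conv_lhs => rw [← ZMod.natCast_zmod_val c, ← Nat.mul_div_cancel' h2]
  push_cast; rfl

theorem isUnit_of_red_ne_zero (c : ZMod (p ^ (k + 1))) (hc : red p k c ≠ 0) : IsUnit c := by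
  rw [← ZMod.natCast_zmod_val c, ZMod.isUnit_iff_coprime]
  apply Nat.Coprime.pow_right
  rw [Nat.coprime_comm, Nat.Prime.coprime_iff_not_dvd Fact.out]
  intro hd
  apply hc
  rw [red, ZMod.castHom_apply, ← ZMod.natCast_val]
  exact (ZMod.natCast_eq_zero_iff _ _).mpr hd

theorem ker_red (x : MonoidAlgebra (ZMod (p ^ (k + 1))) A)
    (hx : MonoidAlgebra.mapRingHom A (red p k) x = 0) :
    ∃ y : MonoidAlgebra (ZMod (p ^ (k + 1))) A, x = (p : ZMod (p ^ (k + 1))) • y := by
  refine ⟨MonoidAlgebra.ofCoeff (x.coeff.mapRange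
    (fun c => ((c.val / p : ℕ) : ZMod (p ^ (k + 1)))) (by simp)), ?_⟩
  apply MonoidAlgebra.coeff_injective
  ext g
  have h := congrArg (fun t => t.coeff g) hx
  simp only [MonoidAlgebra.coeff_mapRingHom] at h
  have h' : red p k (x.coeff g) = 0 := h
  simp only [MonoidAlgebra.coeff_smul, Finsupp.smul_apply, Finsupp.mapRange_apply, smul_eq_mul]
  exact red_eq_zero p k _ h'

theorem ker_red_nilpotent (x : MonoidAlgebra (ZMod (p ^ (k + 1))) A)
    (hx : x ∈ RingHom.ker (MonoidAlgebra.mapRingHom A (red p k))) : IsNilpotent x := by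
  obtain ⟨y, rfl⟩ := ker_red p k x (RingHom.mem_ker.mp hx)
  refine ⟨k + 1, ?_⟩
  rw [smul_pow, ← Nat.cast_pow, ZMod.natCast_self, zero_smul]

theorem red_map_surjective :
    Function.Surjective (MonoidAlgebra.mapRingHom A (red p k)) := by
  intro y
  refine ⟨MonoidAlgebra.ofCoeff (y.coeff.mapRange
    (fun c => ((c.val : ℕ) : ZMod (p ^ (k + 1)))) (by simp)), ?_⟩
  apply MonoidAlgebra.coeff_injective
  ext g
  simp only [MonoidAlgebra.coeff_mapRingHom, Finsupp.mapRange_apply, map_natCast,
    ZMod.natCast_zmod_val]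

theorem mul_idem_eq_zero [Finite A] (hp : ¬ p ∣ Nat.card A)
    (ε : MonoidAlgebra (ZMod p) A) (hε : ∀ j ∈ IL (ZMod p) A, j * ε = 0)
    (e : MonoidAlgebra (ZMod (p ^ (k + 1))) A) (he : IsIdempotentElem e)
    (hred : MonoidAlgebra.mapRingHom A (red p k) e = ε) :
    ∀ z ∈ IL (ZMod (p ^ (k + 1))) A, z * e = 0 := by
  have step : ∀ z ∈ IL (ZMod (p ^ (k + 1))) A, ∃ z' ∈ IL (ZMod (p ^ (k + 1))) A,
      z * e = (p : ZMod (p ^ (k + 1))) • (z' * e) := by
    intro z hz
    unfold IL at hz
    induction hz using Submodule.span_induction with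
    | mem x hx =>
      obtain ⟨c, y, hc, rfl⟩ := hx
      have hℓpos : 0 < orderOf c := hc.pos
      have hℓ : orderOf c ∣ Nat.card A := orderOf_dvd_natCard c
      have hcop : Nat.Coprime (orderOf c) (p ^ (k + 1)) := by
        apply Nat.Coprime.pow_right
        rw [Nat.coprime_comm, Nat.Prime.coprime_iff_not_dvd Fact.out]
        exact fun h => hp (h.trans hℓ)
      obtain ⟨u, hu⟩ := (ZMod.isUnit_iff_coprime (orderOf c) (p ^ (k + 1))).mpr hcop
      have ht : MonoidAlgebra.mapRingHom A (red p k)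
          (tr (ZMod (p ^ (k + 1))) c * (MonoidAlgebra.of (ZMod (p ^ (k + 1))) A y * e)) = 0 := by
        rw [map_mul, map_mul, map_tr, map_of, hred, ← mul_assoc]
        exact hε _ (Ideal.subset_span ⟨c, y, hc, rfl⟩)
      obtain ⟨z0, hz0⟩ := ker_red p k _ ht
      refine ⟨((↑u⁻¹ : ZMod (p ^ (k + 1)))) • (tr (ZMod (p ^ (k + 1))) c * z0), ?_, ?_⟩
      · rw [Algebra.smul_def]
        exact Ideal.mul_mem_left _ _ (tr_mul_mem _ c hc z0)
      · have h1 : tr (ZMod (p ^ (k + 1))) c * (MonoidAlgebra.of (ZMod (p ^ (k + 1))) A y * e) =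
            (↑u⁻¹ : ZMod (p ^ (k + 1))) • (tr (ZMod (p ^ (k + 1))) c *
              (tr (ZMod (p ^ (k + 1))) c * (MonoidAlgebra.of (ZMod (p ^ (k + 1))) A y * e))) := by
          rw [← mul_assoc (tr (ZMod (p ^ (k + 1))) c) (tr (ZMod (p ^ (k + 1))) c),
            tr_mul_tr _ c hℓpos, smul_mul_assoc, smul_smul, ← hu, Units.inv_mul, one_smul]
        have h2 : MonoidAlgebra.of (ZMod (p ^ (k + 1))) A y * e * e =
            MonoidAlgebra.of (ZMod (p ^ (k + 1))) A y * e := by rw [mul_assoc, he.eq]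
        calc tr (ZMod (p ^ (k + 1))) c * MonoidAlgebra.of (ZMod (p ^ (k + 1))) A y * e
            = tr (ZMod (p ^ (k + 1))) c * (MonoidAlgebra.of (ZMod (p ^ (k + 1))) A y * e) * e := by
              rw [mul_assoc, mul_assoc, mul_assoc, he.eq]
          _ = ((↑u⁻¹ : ZMod (p ^ (k + 1))) • (tr (ZMod (p ^ (k + 1))) c *
              ((p : ZMod (p ^ (k + 1))) • z0))) * e := by rw [← hz0, ← h1]
          _ = (p : ZMod (p ^ (k + 1))) • (((↑u⁻¹ : ZMod (p ^ (k + 1))) •
              (tr (ZMod (p ^ (k + 1))) c * z0)) * e) := by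
              rw [mul_smul_comm, smul_comm, smul_mul_assoc]
    | zero => exact ⟨0, Submodule.zero_mem _, by simp⟩
    | add a b _ _ iha ihb =>
      obtain ⟨a', ha', ha⟩ := iha
      obtain ⟨b', hb', hb⟩ := ihb
      exact ⟨a' + b', Submodule.add_mem _ ha' hb', by rw [add_mul, add_mul, ha, hb, smul_add]⟩
    | smul r a _ iha =>
      obtain ⟨a', ha', ha⟩ := iha
      refine ⟨r * a', Ideal.mul_mem_left _ _ ha', ?_⟩
      rw [smul_eq_mul, mul_assoc, ha, mul_smul_comm, mul_assoc]
  have iter : ∀ n : ℕ, ∀ z ∈ IL (ZMod (p ^ (k + 1))) A, ∃ z' ∈ IL (ZMod (p ^ (k + 1))) A,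
      z * e = ((p : ZMod (p ^ (k + 1))) ^ n) • (z' * e) := by
    intro n
    induction n with
    | zero => intro z hz; exact ⟨z, hz, by simp⟩
    | succ n ih =>
      intro z hz
      obtain ⟨z1, hz1, h1⟩ := ih z hz
      obtain ⟨z2, hz2, h2⟩ := step z1 hz1
      exact ⟨z2, hz2, by rw [h1, h2, smul_smul, ← pow_succ]⟩
  intro z hz
  obtain ⟨z', _, h⟩ := iter (k + 1) z hz
  rw [h, ← Nat.cast_pow, ZMod.natCast_self, zero_smul]

end PK

section Lift

variable {A : Type u} [Group A] [Finite A]

/-- **Lifting**: if the trace ideal of `(ZMod p)[A]` is proper for a prime `p` not dividing `|A|`,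
then the trace ideal of `ℤ[A]` contains no nonzero integer. -/
theorem int_eq_zero_of_mem (p : ℕ) [Fact p.Prime] (hp : ¬ p ∣ Nat.card A)
    (h1 : (1 : MonoidAlgebra (ZMod p) A) ∉ IL (ZMod p) A) (r : ℤ)
    (hr : (r : MonoidAlgebra ℤ A) ∈ IL ℤ A) : r = 0 := by
  obtain ⟨ε, hε0, hεi, hεI⟩ := exists_idem p hp h1
  have key : ∀ k : ℕ, ((p ^ (k + 1) : ℕ) : ℤ) ∣ r := by
    intro k
    obtain ⟨e, he, hred⟩ := exists_isIdempotentElem_eq_of_ker_isNilpotent
      (MonoidAlgebra.mapRingHom A (red p k)) (ker_red_nilpotent p k) ε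
      (RingHom.mem_range.mpr (red_map_surjective p k ε)) hεi
    have hz := mul_idem_eq_zero p k hp ε hεI e he hred
    have hrk : ((r : ℤ) : MonoidAlgebra (ZMod (p ^ (k + 1))) A) ∈
        IL (ZMod (p ^ (k + 1))) A := by
      have := map_mem_IL (Int.castRingHom (ZMod (p ^ (k + 1)))) hr
      simpa using this
    have h0 := hz _ hrk
    have hex : ∃ g, red p k (e.coeff g) ≠ 0 := by
      by_contra hcon
      push Not at hcon
      apply hε0
      rw [← hred]
      apply MonoidAlgebra.coeff_injective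
      ext g
      simp [MonoidAlgebra.coeff_mapRingHom, hcon g]
    obtain ⟨g, hg⟩ := hex
    have hu := isUnit_of_red_ne_zero p k _ hg
    have hc : ((r : ℤ) : ZMod (p ^ (k + 1))) * e.coeff g = 0 := by
      have := congrArg (fun t => t.coeff g) h0
      simpa [MonoidAlgebra.intCast_def, MonoidAlgebra.coeff_single_one_mul] using this
    have hr0 : ((r : ℤ) : ZMod (p ^ (k + 1))) = 0 := (hu.mul_left_eq_zero).mp hc
    exact (ZMod.intCast_zmod_eq_zero_iff_dvd r _).mp hr0
  have h2 := key r.natAbs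
  have h3 : r.natAbs < p ^ (r.natAbs + 1) :=
    lt_of_lt_of_le (Nat.lt_pow_self (Fact.out : p.Prime).one_lt)
      (Nat.pow_le_pow_right (Fact.out : p.Prime).pos (Nat.le_succ _))
  apply Int.eq_zero_of_abs_lt_dvd h2
  rw [Int.abs_eq_natAbs]
  exact_mod_cast h3

end Lift

section Modules

theorem one_not_mem_of_module' (k : Type*) [CommRing k] {A : Type*} [Group A] {M : Type*}
    [AddCommGroup M] [Module k M] [DistribMulAction A M] [SMulCommClass A k M] [Nontrivial M]
    (hM : TZ A M) : (1 : MonoidAlgebra k A) ∉ IL k A := by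
  intro h
  have h2 : ((Representation.ofDistribMulAction k A M).asAlgebraHom :
      MonoidAlgebra k A →+* Module.End k M) 1 = 0 :=
    RingHom.mem_ker.mp (IL_le_ker k hM h)
  rw [map_one] at h2
  obtain ⟨v, hv⟩ := exists_ne (0 : M)
  have h3 : (1 : Module.End k M) v = (0 : Module.End k M) v := by rw [h2]
  exact hv h3

/-- A nontrivial trace-zero module of exponent `p` shows that the trace ideal of `(ZMod p)[A]` is
proper. -/
theorem one_not_mem_of_module {A : Type*} [Group A] (p : ℕ) [Fact p.Prime] {V : Type*}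
    [AddCommGroup V] [DistribMulAction A V] [Nontrivial V] (hpV : ∀ v : V, p • v = 0)
    (hV : TZ A V) : (1 : MonoidAlgebra (ZMod p) A) ∉ IL (ZMod p) A := by
  let _ : Module (ZMod p) V := AddCommGroup.zmodModule hpV
  have hcomm : SMulCommClass A (ZMod p) V := ⟨fun a c v => by
    rw [← ZMod.natCast_zmod_val c, Nat.cast_smul_eq_nsmul, Nat.cast_smul_eq_nsmul]
    exact map_nsmul (DistribSMul.toAddMonoidHom V a) _ _⟩
  exact one_not_mem_of_module' (ZMod p) hV

variable (k : Type*) [CommRing k] (A : Type*) [Group A]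

/-- The action of `A` by left multiplication on a quotient of the group algebra by a left ideal. -/
@[reducible] noncomputable def quotAction (J : Ideal (MonoidAlgebra k A)) :
    DistribMulAction A (MonoidAlgebra k A ⧸ J) :=
  DistribMulAction.compHom _ (MonoidAlgebra.of k A)

theorem quot_TZ (J : Ideal (MonoidAlgebra k A)) (hJ : IL k A ≤ J) :
    @TZ A _ (MonoidAlgebra k A ⧸ J) _ (quotAction k A J) := by
  let _ := quotAction k A J
  intro a ha x
  obtain ⟨x, rfl⟩ := Submodule.Quotient.mk_surjective J x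
  have h : ∀ i : ℕ, a ^ i • (Submodule.Quotient.mk x : MonoidAlgebra k A ⧸ J) =
      J.mkQ (MonoidAlgebra.of k A (a ^ i) * x) := fun i => rfl
  simp only [h]
  rw [← map_sum, ← Finset.sum_mul, Submodule.mkQ_apply, Submodule.Quotient.mk_eq_zero]
  exact hJ (tr_mul_mem k a ha x)

end Modules

section Descend

variable {A : Type u} [Group A] [Finite A]

omit [Finite A] in
theorem int_map_surjective (s : ℕ) [NeZero s] :
    Function.Surjective (MonoidAlgebra.mapRingHom A (Int.castRingHom (ZMod s))) := by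
  intro y
  refine ⟨MonoidAlgebra.ofCoeff (y.coeff.mapRange (fun c => ((c.val : ℕ) : ℤ)) (by simp)), ?_⟩
  apply MonoidAlgebra.coeff_injective
  ext g
  simp only [MonoidAlgebra.coeff_mapRingHom, Finsupp.mapRange_apply, eq_intCast,
    Int.cast_natCast, ZMod.natCast_zmod_val]

omit [Finite A] in
theorem int_ker (s : ℕ) (x : MonoidAlgebra ℤ A)
    (hx : MonoidAlgebra.mapRingHom A (Int.castRingHom (ZMod s)) x = 0) :
    ∃ y : MonoidAlgebra ℤ A, x = (s : ℤ) • y := by
  refine ⟨MonoidAlgebra.ofCoeff (x.coeff.mapRange (fun c => c / (s : ℤ)) (by simp)), ?_⟩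
  apply MonoidAlgebra.coeff_injective
  ext g
  have h := congrArg (fun t => t.coeff g) hx
  simp only [MonoidAlgebra.coeff_mapRingHom] at h
  have h' : ((x.coeff g : ℤ) : ZMod s) = 0 := h
  have hd : (s : ℤ) ∣ x.coeff g := (ZMod.intCast_zmod_eq_zero_iff_dvd _ _).mp h'
  simp only [MonoidAlgebra.coeff_smul, Finsupp.smul_apply, Finsupp.mapRange_apply, smul_eq_mul]
  exact (Int.mul_ediv_cancel' hd).symm

/-- **Descent** (Nakayama): if the trace ideal of `ℤ[A]` contains no nonzero integer, then the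
trace ideal of `(ZMod s)[A]` is proper for every prime `s`. -/
theorem one_not_mem_of_int (s : ℕ) [Fact s.Prime]
    (hZ : ∀ r : ℤ, (r : MonoidAlgebra ℤ A) ∈ IL ℤ A → r = 0) :
    (1 : MonoidAlgebra (ZMod s) A) ∉ IL (ZMod s) A := by
  intro h
  rw [← map_IL (Int.castRingHom (ZMod s))] at h
  obtain ⟨u, hu, hu1⟩ := (Ideal.mem_map_iff_of_surjective
    (MonoidAlgebra.mapRingHom A (Int.castRingHom (ZMod s))) (int_map_surjective s)).mp h
  obtain ⟨w, hw⟩ := int_ker s (1 - u) (by rw [map_sub, map_one, hu1, sub_self])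
  have hfg : (⊤ : Submodule ℤ (MonoidAlgebra ℤ A ⧸ IL ℤ A)).FG := Module.Finite.fg_top
  have hle : (⊤ : Submodule ℤ (MonoidAlgebra ℤ A ⧸ IL ℤ A)) ≤
      (Ideal.span {(s : ℤ)}) • (⊤ : Submodule ℤ (MonoidAlgebra ℤ A ⧸ IL ℤ A)) := by
    intro x _
    obtain ⟨y, rfl⟩ := Submodule.Quotient.mk_surjective _ x
    have hy : (Submodule.Quotient.mk y : MonoidAlgebra ℤ A ⧸ IL ℤ A) =
        (s : ℤ) • (Submodule.Quotient.mk (y * w) : MonoidAlgebra ℤ A ⧸ IL ℤ A) := by
      rw [← Submodule.Quotient.mk_smul, Submodule.Quotient.eq]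
      have : y - (s : ℤ) • (y * w) = y * u := by
        rw [← mul_smul_comm, ← hw, mul_sub, mul_one, sub_sub_cancel]
      rw [this]
      exact Ideal.mul_mem_left _ _ hu
    rw [hy]
    exact Submodule.smul_mem_smul (Ideal.mem_span_singleton_self _) Submodule.mem_top
  obtain ⟨r, hr1, hr2⟩ :=
    Submodule.exists_sub_one_mem_and_smul_eq_zero_of_fg_of_le_smul _ _ hfg hle
  have hr0 : r = 0 := hZ r (by
    have h3 := hr2 (Submodule.Quotient.mk 1) Submodule.mem_top
    rw [← Submodule.Quotient.mk_smul, Submodule.Quotient.mk_eq_zero] at h3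
    simpa [zsmul_eq_mul] using h3)
  rw [hr0, zero_sub, Ideal.mem_span_singleton] at hr1
  have h1 : (s : ℤ) ∣ 1 := (dvd_neg).mp hr1
  have hs := (Fact.out : s.Prime).one_lt
  have h2 := Int.eq_one_of_dvd_one (by positivity) h1
  omega

/-- **Change of characteristic for fixed-point-free modules.**  If the finite group `A` has a
nontrivial trace-zero module of prime exponent `p` not dividing `|A|`, then it has a finite
nontrivial trace-zero module of exponent `s` for every prime `s`. -/
theorem exists_tz_module (p : ℕ) [Fact p.Prime] (hp : ¬ p ∣ Nat.card A) {V : Type*}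
    [AddCommGroup V] [DistribMulAction A V] [Nontrivial V] (hpV : ∀ v : V, p • v = 0)
    (hV : TZ A V) (s : ℕ) [Fact s.Prime] :
    ∃ (M : Type u) (_ : AddCommGroup M) (_ : DistribMulAction A M),
      Finite M ∧ Nontrivial M ∧ (∀ x : M, s • x = 0) ∧ TZ A M := by
  have h1 := one_not_mem_of_module p hpV hV
  have hZ := int_eq_zero_of_mem p hp h1
  have hs := one_not_mem_of_int s hZ
  refine ⟨MonoidAlgebra (ZMod s) A ⧸ IL (ZMod s) A, inferInstance, quotAction (ZMod s) A _,
    ?_, ?_, ?_, quot_TZ (ZMod s) A _ le_rfl⟩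
  · have : Finite (MonoidAlgebra (ZMod s) A) := Module.finite_of_finite (ZMod s)
    exact Finite.of_surjective _ (Submodule.Quotient.mk_surjective (IL (ZMod s) A))
  · exact Submodule.Quotient.nontrivial_iff.mpr ((Ideal.ne_top_iff_one _).mpr hs)
  · intro x
    obtain ⟨x, rfl⟩ := Submodule.Quotient.mk_surjective _ x
    have h2 : s • x = 0 := by
      rw [← Nat.cast_smul_eq_nsmul (ZMod s), ZMod.natCast_self, zero_smul]
    have h3 := map_nsmul (Submodule.mkQ (IL (ZMod s) A)) s x
    rw [h2, map_zero] at h3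
    exact h3.symm

end Descend

section Conv

/-- A fixed-point-free action on an abelian group is trace-zero. -/
theorem TZ_of_fpf {A : Type*} [Group A] {M : Type*} [AddCommGroup M] [DistribMulAction A M]
    (h : ∀ a : A, a ≠ 1 → ∀ x : M, a • x = x → x = 0) : TZ A M := by
  intro a ha x
  have ha1 : a ≠ 1 := by
    rintro rfl
    rw [orderOf_one] at ha
    exact Nat.not_prime_one ha
  apply h a ha1
  rw [Finset.smul_sum]
  have h1 : ∀ i ∈ Finset.range (orderOf a), a • a ^ i • x = a ^ (i + 1) • x := fun i _ => by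
    rw [smul_smul, ← pow_succ']
  rw [Finset.sum_congr rfl h1]
  have h2 := Finset.sum_range_succ (fun i => a ^ i • x) (orderOf a)
  have h3 := Finset.sum_range_succ' (fun i => a ^ i • x) (orderOf a)
  rw [h3] at h2
  simp only [pow_orderOf_eq_one, pow_zero] at h2
  exact add_right_cancel h2

/-- A trace-zero module of exponent coprime to the group order is fixed-point-free. -/
theorem fpf_of_TZ {A : Type*} [Group A] [Finite A] {M : Type*} [AddCommGroup M]
    [DistribMulAction A M] (s : ℕ) (hs : s.Coprime (Nat.card A)) (hsM : ∀ x : M, s • x = 0)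
    (hM : TZ A M) (a : A) (ha : a ≠ 1) (x : M) (hx : a • x = x) : x = 0 := by
  have ho : orderOf a ≠ 1 := fun h => ha (orderOf_eq_one_iff.mp h)
  obtain ⟨ℓ, hℓ, hdvd⟩ := Nat.exists_prime_and_dvd ho
  have hoc : orderOf (a ^ (orderOf a / ℓ)) = ℓ :=
    orderOf_pow_orderOf_div (orderOf_pos a).ne' hdvd
  have hax : ∀ n : ℕ, a ^ n • x = x := fun n => by
    induction n with
    | zero => simp
    | succ n ih => rw [pow_succ, mul_smul, hx, ih]
  have hcx : ∀ i : ℕ, (a ^ (orderOf a / ℓ)) ^ i • x = x := fun i => by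
    rw [← pow_mul]; exact hax _
  have h1 := hM (a ^ (orderOf a / ℓ)) (by rw [hoc]; exact hℓ) x
  rw [Finset.sum_congr rfl (fun i _ => hcx i), Finset.sum_const, Finset.card_range, hoc] at h1
  have d1 := addOrderOf_dvd_of_nsmul_eq_zero h1
  have d2 := addOrderOf_dvd_of_nsmul_eq_zero (hsM x)
  have d3 : ℓ ∣ Nat.card A := hdvd.trans (orderOf_dvd_natCard a)
  have hcop : Nat.gcd s (Nat.card A) = 1 := hs
  have d4 : addOrderOf x ∣ 1 := by
    rw [← hcop]
    exact Nat.dvd_gcd d2 (d1.trans d3)
  exact AddMonoid.addOrderOf_eq_one_iff.mp (Nat.dvd_one.mp d4)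

end Conv

section Tensor

open TensorProduct

variable {A : Type*} {B : Type*} [Group A] [Group B]
variable (R : Type*) [CommRing R] (M N : Type*) [AddCommGroup M] [AddCommGroup N] [Module R M]
  [Module R N] [DistribMulAction A M] [DistribMulAction B N] [SMulCommClass A R M]
  [SMulCommClass B R N]

/-- The action of `A × B` on a tensor product of an `A`-module and a `B`-module. -/
@[reducible] noncomputable def tensorAction : DistribMulAction (A × B) (M ⊗[R] N) where
  smul g t := TensorProduct.map (DistribMulAction.toModuleEnd R M g.1)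
    (DistribMulAction.toModuleEnd R N g.2) t
  one_smul t := by
    show TensorProduct.map (DistribMulAction.toModuleEnd R M (1 : A × B).1)
      (DistribMulAction.toModuleEnd R N (1 : A × B).2) t = t
    rw [Prod.fst_one, Prod.snd_one, map_one, map_one, TensorProduct.map_one]; rfl
  mul_smul g h t := by
    show TensorProduct.map (DistribMulAction.toModuleEnd R M (g * h).1)
      (DistribMulAction.toModuleEnd R N (g * h).2) t =
      TensorProduct.map (DistribMulAction.toModuleEnd R M g.1)
        (DistribMulAction.toModuleEnd R N g.2)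
        (TensorProduct.map (DistribMulAction.toModuleEnd R M h.1)
          (DistribMulAction.toModuleEnd R N h.2) t)
    rw [Prod.fst_mul, Prod.snd_mul, map_mul, map_mul, TensorProduct.map_mul]; rfl
  smul_zero g := map_zero _
  smul_add g x y := map_add _ x y

theorem tensor_TZ [Finite A] [Finite B] (hcop : (Nat.card A).Coprime (Nat.card B))
    (hM : TZ A M) (hN : TZ B N) : @TZ (A × B) _ (M ⊗[R] N) _ (tensorAction R M N) := by
  let _ := tensorAction (A := A) (B := B) R M N
  rintro ⟨a, b⟩ hg t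
  have hord : orderOf ((a, b) : A × B) = (orderOf a).lcm (orderOf b) := Prod.orderOf _
  have hda : orderOf a ∣ orderOf ((a, b) : A × B) := hord ▸ Nat.dvd_lcm_left _ _
  have hdb : orderOf b ∣ orderOf ((a, b) : A × B) := hord ▸ Nat.dvd_lcm_right _ _
  have hpow : ∀ i : ℕ, ((a, b) : A × B) ^ i = (a ^ i, b ^ i) := fun i => rfl
  have hsm : ∀ (a' : A) (b' : B) (m : M) (n : N),
      ((a', b') : A × B) • (m ⊗ₜ[R] n) = (a' • m) ⊗ₜ[R] (b' • n) := fun _ _ _ _ => rfl
  rcases (Nat.dvd_prime hg).mp hda with ha1 | haℓ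
  · have ha : a = 1 := orderOf_eq_one_iff.mp ha1
    have hb : orderOf b = orderOf ((a, b) : A × B) := by rw [hord, ha1, Nat.lcm_one_left]
    induction t using TensorProduct.induction_on with
    | zero => simp
    | tmul m n =>
      have hgen : ∀ i : ℕ, ((a, b) : A × B) ^ i • (m ⊗ₜ[R] n) = m ⊗ₜ[R] (b ^ i • n) :=
        fun i => by rw [hpow, hsm, ha, one_pow, one_smul]
      rw [Finset.sum_congr rfl (fun i _ => hgen i), ← TensorProduct.tmul_sum, ← hb,
        hN b (by rw [hb]; exact hg) n, TensorProduct.tmul_zero]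
    | add x y hx hy => simp only [smul_add, Finset.sum_add_distrib, hx, hy, add_zero]
  · rcases (Nat.dvd_prime hg).mp hdb with hb1 | hbℓ
    · have hb : b = 1 := orderOf_eq_one_iff.mp hb1
      induction t using TensorProduct.induction_on with
      | zero => simp
      | tmul m n =>
        have hgen : ∀ i : ℕ, ((a, b) : A × B) ^ i • (m ⊗ₜ[R] n) = (a ^ i • m) ⊗ₜ[R] n :=
          fun i => by rw [hpow, hsm, hb, one_pow, one_smul]
        rw [Finset.sum_congr rfl (fun i _ => hgen i), ← TensorProduct.sum_tmul, ← haℓ,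
          hM a (by rw [haℓ]; exact hg) m, TensorProduct.zero_tmul]
      | add x y hx hy => simp only [smul_add, Finset.sum_add_distrib, hx, hy, add_zero]
    · exfalso
      have h1 : orderOf ((a, b) : A × B) ∣ Nat.card A := haℓ ▸ orderOf_dvd_natCard a
      have h2 : orderOf ((a, b) : A × B) ∣ Nat.card B := hbℓ ▸ orderOf_dvd_natCard b
      have hc : Nat.gcd (Nat.card A) (Nat.card B) = 1 := hcop
      exact hg.one_lt.ne' (Nat.dvd_one.mp (hc ▸ Nat.dvd_gcd h1 h2))

end Tensor

section Prod

open TensorProduct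

theorem exists_tz_prod_aux {A : Type*} {B : Type*} [Group A] [Group B] [Finite A] [Finite B]
    (hcop : (Nat.card A).Coprime (Nat.card B)) (s : ℕ) [Fact s.Prime]
    {M : Type v} {N : Type w} [AddCommGroup M] [AddCommGroup N] [Module (ZMod s) M]
    [Module (ZMod s) N] [DistribMulAction A M] [DistribMulAction B N]
    [SMulCommClass A (ZMod s) M] [SMulCommClass B (ZMod s) N]
    [Finite M] [Finite N] [Nontrivial M] [Nontrivial N] (hM : TZ A M) (hN : TZ B N) :
    ∃ (T : Type (max v w)) (_ : AddCommGroup T) (_ : DistribMulAction (A × B) T),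
      Finite T ∧ Nontrivial T ∧ (∀ x : T, s • x = 0) ∧ TZ (A × B) T := by
  have : Module.Finite (ZMod s) M := Module.Finite.of_finite
  have : Module.Finite (ZMod s) N := Module.Finite.of_finite
  have hfin : Finite (M ⊗[ZMod s] N) := Module.finite_of_finite (ZMod s)
  have hnt : Nontrivial (M ⊗[ZMod s] N) := by
    apply Module.nontrivial_of_finrank_pos (R := ZMod s)
    rw [Module.finrank_tensorProduct]
    exact Nat.mul_pos Module.finrank_pos Module.finrank_pos
  have hexp : ∀ x : M ⊗[ZMod s] N, s • x = 0 := by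
    intro x
    have h := Nat.cast_smul_eq_nsmul (ZMod s) s x
    rw [ZMod.natCast_self] at h
    rw [← h]
    exact zero_smul (ZMod s) x
  exact ⟨M ⊗[ZMod s] N, TensorProduct.addCommGroup, tensorAction (ZMod s) M N, hfin, hnt, hexp,
    tensor_TZ (ZMod s) M N hcop hM hN⟩

/-- Trace-zero modules of the same prime exponent for two groups of coprime orders give one for
the direct product. -/
theorem exists_tz_prod {A : Type*} {B : Type*} [Group A] [Group B] [Finite A] [Finite B]
    (hcop : (Nat.card A).Coprime (Nat.card B)) (s : ℕ) [Fact s.Prime]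
    {M : Type v} {N : Type w} [AddCommGroup M] [AddCommGroup N] [DistribMulAction A M]
    [DistribMulAction B N] [Finite M] [Finite N] [Nontrivial M] [Nontrivial N]
    (hsM : ∀ x : M, s • x = 0) (hsN : ∀ x : N, s • x = 0) (hM : TZ A M) (hN : TZ B N) :
    ∃ (T : Type (max v w)) (_ : AddCommGroup T) (_ : DistribMulAction (A × B) T),
      Finite T ∧ Nontrivial T ∧ (∀ x : T, s • x = 0) ∧ TZ (A × B) T := by
  let i1 : Module (ZMod s) M := AddCommGroup.zmodModule hsM
  let i2 : Module (ZMod s) N := AddCommGroup.zmodModule hsN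
  have i3 : SMulCommClass A (ZMod s) M :=
    ⟨fun a c v => ZMod.map_smul (DistribSMul.toAddMonoidHom M a) c v⟩
  have i4 : SMulCommClass B (ZMod s) N :=
    ⟨fun a c v => ZMod.map_smul (DistribSMul.toAddMonoidHom N a) c v⟩
  exact exists_tz_prod_aux hcop s hM hN

end Prod

end Cfsg.Agent.Lib.helper62.FpfLift
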