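import Mathlib
import Cfsg.Prelude.Def_Solvable
import Cfsg.Agent.S0042
import Cfsg.Agent.Lib.helper75.FrobBasic
import Cfsg.Agent.Lib.helper75.FrobComplement
import Cfsg.Agent.Lib.helper75.FpfRank
import Cfsg.Agent.Lib.helper62.FpfLift

/-!
Fixed-point-free modules of Frobenius complements (helper62).

* `HasFpfMod A` : `A` acts fixed-point-freely on a finite nontrivial abelian group of prime
  exponent `p ∤ |A|`.
* `hasFpfMod_of_frob` : a Frobenius complement has such a module.
* `HasFpfMod.comap`, `HasFpfMod.prod`, `HasFpfMod.exists_frob`, `HasFpfMod.coprime_of_prod`.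
-/

set_option autoImplicit false

namespace Cfsg.Agent.Lib.helper62.FrobExtract

open Cfsg.Agent.Lib.helper62.FpfLift

universe u v w

/-- `A` has a fixed-point-free module of prime exponent not dividing `|A|`. -/
def HasFpfMod (A : Type u) [Group A] : Prop :=
  ∃ (p : ℕ) (_ : Fact p.Prime) (V : Type v) (_ : AddCommGroup V) (_ : DistribMulAction A V),
    ¬ p ∣ Nat.card A ∧ Finite V ∧ Nontrivial V ∧ (∀ x : V, p • x = 0) ∧
      ∀ a : A, a ≠ 1 → ∀ x : V, a • x = x → x = 0

/-- The additive action attached to a homomorphism into `MulAut V`. -/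
@[reducible] def addAct (A : Type u) (V : Type v) [Group A] [CommGroup V] (φ : A →* MulAut V) :
    DistribMulAction A (Additive V) where
  smul a x := Additive.ofMul (φ a (Additive.toMul x))
  one_smul x := by
    show Additive.ofMul (φ 1 (Additive.toMul x)) = x
    simp
  mul_smul a b x := by
    show Additive.ofMul (φ (a * b) (Additive.toMul x))
      = Additive.ofMul (φ a (Additive.toMul (Additive.ofMul (φ b (Additive.toMul x)))))
    simp [map_mul]
  smul_zero a := by
    show Additive.ofMul (φ a (Additive.toMul (0 : Additive V))) = 0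
    simp
  smul_add a x y := by
    show Additive.ofMul (φ a (Additive.toMul (x + y)))
      = Additive.ofMul (φ a (Additive.toMul x)) + Additive.ofMul (φ a (Additive.toMul y))
    simp

theorem hasFpfMod_of_mulAut {A : Type u} {V : Type v} [Group A] [CommGroup V] [Finite V]
    [Nontrivial V] (φ : A →* MulAut V) (p : ℕ) [hp : Fact p.Prime] (hpA : ¬ p ∣ Nat.card A)
    (hV : ∀ x : V, x ^ p = 1) (hφ : ∀ a : A, a ≠ 1 → ∀ x : V, φ a x = x → x = 1) :
    HasFpfMod.{u, v} A := by
  refine ⟨p, hp, Additive V, inferInstance, addAct A V φ, hpA, ?_, ?_, ?_, ?_⟩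
  · exact Finite.of_equiv V Additive.ofMul
  · exact Additive.ofMul.injective.nontrivial
  · intro x
    have := hV (Additive.toMul x)
    exact congrArg Additive.ofMul this
  · intro a ha x hx
    have h1 : φ a (Additive.toMul x) = Additive.toMul x := congrArg Additive.toMul hx
    exact congrArg Additive.ofMul (hφ a ha _ h1)

/-- A Frobenius complement acts fixed-point-freely on an elementary abelian group. -/
theorem hasFpfMod_of_frob {L : Type w} [Group L] [Finite L] (H : Subgroup L)
    (hH : Cfsg.IsFrobeniusComplement H) : HasFpfMod.{w, w} H := by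
  obtain ⟨N, hNk, hNn, hNnil⟩ := Cfsg.Agent.S0042.result H hH
  obtain ⟨N', hN'k, hN'n, hc⟩ := Cfsg.Agent.S0035.result H hH
  have hNN' : N' = N := SetLike.coe_injective (hN'k.trans hNk.symm)
  subst hNN'
  have := hNn
  have hcardN : Nat.card N' = H.index := hc.index_eq_card.symm
  have hcop : (Nat.card H).Coprime (Nat.card N') :=
    hcardN ▸ Cfsg.Agent.Lib.helper75.frob_coprime_card_index H hH
  have hN1 : Nat.card N' ≠ 1 := by
    rw [hcardN]
    intro h
    exact hH.2.1 (Subgroup.index_eq_one.mp h)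
  have hNnt : Nontrivial N' := by
    rw [← Finite.one_lt_card_iff_nontrivial]
    have := Nat.card_pos (α := N')
    omega
  have hZ : Subgroup.center N' ≠ ⊥ := Group.IsNilpotent.center_ne_bot N'
  have hZ1 : Nat.card (Subgroup.center N') ≠ 1 := fun h => hZ (Subgroup.card_eq_one.mp h)
  obtain ⟨p, hp, hpZ⟩ := Nat.exists_prime_and_dvd hZ1
  have hpF : Fact p.Prime := ⟨hp⟩
  obtain ⟨z, hz⟩ := exists_prime_orderOf_dvd_card' p hpZ
  let V : Subgroup L :=
    { carrier := {x | x ∈ N' ∧ (∀ n ∈ N', n * x = x * n) ∧ x ^ p = 1}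
      one_mem' := ⟨N'.one_mem, fun n _ => by simp, one_pow p⟩
      mul_mem' := by
        rintro a b ⟨ha, hac, hap⟩ ⟨hb, hbc, hbp⟩
        refine ⟨N'.mul_mem ha hb, fun n hn => ?_, ?_⟩
        · rw [← mul_assoc, hac n hn, mul_assoc, hbc n hn, mul_assoc]
        · have hcm : Commute a b := hbc a ha
          rw [hcm.mul_pow, hap, hbp, one_mul]
      inv_mem' := by
        rintro a ⟨ha, hac, hap⟩
        refine ⟨N'.inv_mem ha, fun n hn => ?_, by rw [inv_pow, hap, inv_one]⟩
        have := hac n hn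
        calc n * a⁻¹ = a⁻¹ * (a * n) * a⁻¹ := by group
          _ = a⁻¹ * (n * a) * a⁻¹ := by rw [this]
          _ = a⁻¹ * n := by group }
  have hVmem : ∀ x : L, x ∈ V ↔ x ∈ N' ∧ (∀ n ∈ N', n * x = x * n) ∧ x ^ p = 1 := fun x => Iff.rfl
  have hVn : V.Normal := by
    refine ⟨fun x hx g => ?_⟩
    obtain ⟨hxN, hxc, hxp⟩ := (hVmem x).mp hx
    refine (hVmem _).mpr ⟨hNn.conj_mem x hxN g, fun n hn => ?_, ?_⟩
    · have hn' : g⁻¹ * n * g ∈ N' := by
        have := hNn.conj_mem n hn g⁻¹
        simpa using this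
      have := hxc _ hn'
      calc n * (g * x * g⁻¹) = g * ((g⁻¹ * n * g) * x) * g⁻¹ := by group
        _ = g * (x * (g⁻¹ * n * g)) * g⁻¹ := by rw [this]
        _ = g * x * g⁻¹ * n := by group
    · rw [conj_pow, hxp]; group
  have hVcomm : ∀ a b : V, a * b = b * a := by
    intro a b
    exact Subtype.ext (((hVmem b).mp b.2).2.1 a ((hVmem a).mp a.2).1)
  let _ : CommGroup V := { (inferInstance : Group V) with mul_comm := hVcomm }
  have hzV : ((z : N') : L) ∈ V := by
    refine (hVmem _).mpr ⟨(z : N').2, fun n hn => ?_, ?_⟩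
    · have := (Subgroup.mem_center_iff.mp z.2) ⟨n, hn⟩
      exact congrArg Subtype.val this
    · have h1 : z ^ p = 1 := by rw [← hz]; exact pow_orderOf_eq_one z
      have h2 := congrArg (fun t : Subgroup.center N' => ((t : N') : L)) h1
      simpa using h2
  have hz1 : ((z : N') : L) ≠ 1 := by
    intro h
    have : z = 1 := Subtype.ext (Subtype.ext h)
    rw [this, orderOf_one] at hz
    exact hp.one_lt.ne hz
  have hVnt : Nontrivial V := ⟨⟨⟨_, hzV⟩, 1, fun h => hz1 (congrArg Subtype.val h)⟩⟩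
  have hpH : ¬ p ∣ Nat.card H := by
    intro hpH
    have h1 : p ∣ Nat.card N' := hpZ.trans (Subgroup.card_subgroup_dvd_card _)
    have h2 : p ∣ Nat.gcd (Nat.card H) (Nat.card N') := Nat.dvd_gcd hpH h1
    rw [hcop] at h2
    exact hp.one_lt.ne' (Nat.dvd_one.mp h2)
  refine hasFpfMod_of_mulAut ((MulAut.conjNormal : L →* MulAut V).comp H.subtype) p hpH ?_ ?_
  · intro x
    exact Subtype.ext ((hVmem x).mp x.2).2.2
  · intro a ha x hx
    have h1 : (a : L) * (x : L) * (a : L)⁻¹ = x := congrArg Subtype.val hx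
    have ha1 : (a : L) ≠ 1 := fun h => ha (Subtype.ext h)
    exact Subtype.ext (Cfsg.Agent.Lib.helper75.frob_fpf H hH N' hc a a.2 ha1 x
      ((hVmem x).mp x.2).1 h1)

theorem HasFpfMod.comap {A : Type u} {G : Type w} [Group A] [Group G] [Finite G] (f : A →* G)
    (hf : Function.Injective f) (h : HasFpfMod.{w, v} G) : HasFpfMod.{u, v} A := by
  obtain ⟨p, hp, V, i1, i2, hpG, hfin, hnt, hpV, hfpf⟩ := h
  refine ⟨p, hp, V, i1, DistribMulAction.compHom V f, ?_, hfin, hnt, hpV, ?_⟩
  · intro hpA
    exact hpG (hpA.trans (Subgroup.card_dvd_of_injective f hf))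
  · intro a ha x hx
    exact hfpf (f a) (by rwa [ne_eq, ← map_one f, hf.eq_iff]) x hx

/-- A group with a fixed-point-free module has one of every prime exponent not dividing its order
(stated for trace-zero modules). -/
theorem HasFpfMod.exists_mod {A : Type u} [Group A] [Finite A] (h : HasFpfMod.{u, v} A) (s : ℕ)
    [Fact s.Prime] :
    ∃ (M : Type u) (_ : AddCommGroup M) (_ : DistribMulAction A M),
      Finite M ∧ Nontrivial M ∧ (∀ x : M, s • x = 0) ∧ TZ A M := by
  obtain ⟨p, hp, V, i1, i2, hpA, hfin, hnt, hpV, hfpf⟩ := h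
  exact exists_tz_module p hpA hpV (TZ_of_fpf hfpf) s

theorem hasFpfMod_of_TZ {A : Type u} [Group A] [Finite A] (s : ℕ) [hs : Fact s.Prime]
    (hsA : ¬ s ∣ Nat.card A) {M : Type v} [AddCommGroup M] [DistribMulAction A M] [Finite M]
    [Nontrivial M] (hsM : ∀ x : M, s • x = 0) (hM : TZ A M) : HasFpfMod.{u, v} A :=
  ⟨s, hs, M, inferInstance, inferInstance, hsA, inferInstance, inferInstance, hsM,
    fpf_of_TZ s ((Nat.Prime.coprime_iff_not_dvd hs.out).mpr hsA) hsM hM⟩

/-- Direct products of groups of coprime orders with fixed-point-free modules have one. -/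
theorem HasFpfMod.prod {A : Type u} {B : Type w} [Group A] [Group B] [Finite A] [Finite B]
    (hA : HasFpfMod.{u, v} A) (hB : HasFpfMod.{w, v} B)
    (hcop : (Nat.card A).Coprime (Nat.card B)) : HasFpfMod.{max u w, max u w} (A × B) := by
  obtain ⟨s, hsl, hs⟩ := Nat.exists_infinite_primes (Nat.card A * Nat.card B + 1)
  have hsF : Fact s.Prime := ⟨hs⟩
  obtain ⟨M, i1, i2, hMf, hMn, hsM, hM⟩ := hA.exists_mod s
  obtain ⟨N, j1, j2, hNf, hNn, hsN, hN⟩ := hB.exists_mod s
  obtain ⟨T, k1, k2, hTf, hTn, hsT, hT⟩ := exists_tz_prod hcop s hsM hsN hM hN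
  have hcard : Nat.card (A × B) = Nat.card A * Nat.card B := Nat.card_prod A B
  have hpos : 0 < Nat.card A * Nat.card B := Nat.mul_pos Nat.card_pos Nat.card_pos
  have hsAB : ¬ s ∣ Nat.card (A × B) := by
    rw [hcard]
    intro h
    have := Nat.le_of_dvd hpos h
    omega
  exact hasFpfMod_of_TZ s hsAB hsT hT

/-- A nontrivial finite group with a fixed-point-free module is a Frobenius complement. -/
theorem HasFpfMod.exists_frob {A : Type u} [Group A] [Finite A] [Nontrivial A]
    (h : HasFpfMod.{u, v} A) :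
    ∃ (L : Type) (_ : Group L) (_ : Finite L) (C : Subgroup L),
      Cfsg.IsFrobeniusComplement C ∧ Nonempty (A ≃* C) := by
  obtain ⟨p, hp, V, i1, i2, hpA, hfin, hnt, hpV, hfpf⟩ := h
  exact Cfsg.Agent.Lib.helper75.exists_frobenius_of_fpf_add hfpf

/-- If `A × B` has a fixed-point-free module then `|A|` and `|B|` are coprime. -/
theorem HasFpfMod.coprime_of_prod {A : Type u} {B : Type w} [Group A] [Group B] [Finite A]
    [Finite B] (h : HasFpfMod.{max u w, v} (A × B)) : (Nat.card A).Coprime (Nat.card B) := by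
  obtain ⟨p, hp, V, i1, i2, hpAB, hfin, hnt, hpV, hfpf⟩ := h
  apply Nat.coprime_of_dvd
  intro ℓ hℓ hℓA hℓB
  have hℓF : Fact ℓ.Prime := ⟨hℓ⟩
  obtain ⟨a, ha⟩ := exists_prime_orderOf_dvd_card' ℓ hℓA
  obtain ⟨b, hb⟩ := exists_prime_orderOf_dvd_card' ℓ hℓB
  have ha1 : a ≠ 1 := by
    rintro rfl
    rw [orderOf_one] at ha
    exact hℓ.one_lt.ne ha
  have hb1 : b ≠ 1 := by
    rintro rfl
    rw [orderOf_one] at hb
    exact hℓ.one_lt.ne hb
  have hcard : Nat.card (A × B) = Nat.card A * Nat.card B := Nat.card_prod A B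
  have hpℓ : p ≠ ℓ := by
    rintro rfl
    exact hpAB (hcard ▸ hℓA.mul_right _)
  have hVcard : (Nat.card (Multiplicative V)).Coprime ℓ := by
    have hpg : IsPGroup p (Multiplicative V) := by
      intro x
      refine ⟨1, ?_⟩
      rw [pow_one]
      exact congrArg Multiplicative.ofAdd (hpV (Multiplicative.toAdd x))
    obtain ⟨n, hn⟩ := IsPGroup.iff_card.mp hpg
    rw [hn]
    exact Nat.Coprime.pow_left n ((Nat.coprime_primes hp.out hℓ).mpr hpℓ)
  have hfin' : Finite (Multiplicative V) := Finite.of_equiv V Multiplicative.ofAdd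
  obtain ⟨x0, hx0⟩ := exists_ne (0 : V)
  have key := Cfsg.Agent.Lib.helper75.avg_fpf (M := Multiplicative V)
    ((MulAutMultiplicative V).symm.toMonoidHom.comp (DistribMulAction.toAddAut (A × B) V)) ℓ hℓ
    hVcard ((a, 1) : A × B) ((1, b) : A × B)
    (by show ((a, 1) : A × B) * (1, b) = (1, b) * (a, 1); simp)
    (by rw [Prod.pow_mk, ← ha, pow_orderOf_eq_one, one_pow]; rfl)
    (by rw [Prod.pow_mk, ← hb, pow_orderOf_eq_one, one_pow]; rfl)
    (by
      intro k hk0 hkℓ m hm
      have h1 : ((a, 1) : A × B) ^ k • Multiplicative.toAdd m = Multiplicative.toAdd m :=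
        congrArg Multiplicative.toAdd hm
      have hne : ((a, 1) : A × B) ^ k ≠ 1 := by
        intro h
        have h2 : a ^ k = 1 := by
          have := congrArg Prod.fst h
          simpa using this
        have := orderOf_dvd_of_pow_eq_one h2
        rw [ha] at this
        exact absurd (Nat.le_of_dvd hk0 this) (not_le.mpr hkℓ)
      exact congrArg Multiplicative.ofAdd (hfpf _ hne _ h1))
    (by
      intro i _ m hm
      have h1 : (((a, 1) : A × B) ^ i * (1, b)) • Multiplicative.toAdd m = Multiplicative.toAdd m :=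
        congrArg Multiplicative.toAdd hm
      have hne : ((a, 1) : A × B) ^ i * (1, b) ≠ 1 := by
        intro h
        have h2 := congrArg Prod.snd h
        simp at h2
        exact hb1 h2
      exact congrArg Multiplicative.ofAdd (hfpf _ hne _ h1))
    (Multiplicative.ofAdd x0)
  exact hx0 (congrArg Multiplicative.toAdd key)

end Cfsg.Agent.Lib.helper62.FrobExtract
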