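import Mathlib
import Cfsg.Agent.Lib.helper1.SZ
import Cfsg.Agent.Lib.helper75.FpfRank
import Cfsg.Agent.Lib.helper62.Derangement
import Cfsg.Agent.Lib.helper62.FrobExtract

/-!
Normal quaternion subgroups of solvable groups with a fixed-point-free module (helper62).

* `fpf_pgroup_cyclic_or_quat` : a `p`-group with a fixed-point-free module is cyclic or
  generalized quaternion.
* `exists_normal_q8` : a finite solvable group with a fixed-point-free module in which a
  maximal normal abelian subgroup `A` is not self-centralizing has a normal subgroup `≅ Q₈`.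
-/

set_option autoImplicit false

namespace Cfsg.Agent.Lib.helper62.LinRegQ8

open Cfsg.Agent.Lib.helper62.FrobExtract
open scoped commutatorElement

universe u v

theorem fpf_pgroup_cyclic_or_quat {P : Type u} [Group P] [Finite P] (h : HasFpfMod.{u, v} P)
    (p : ℕ) [Fact p.Prime] (hP : IsPGroup p P) :
    IsCyclic P ∨ (p = 2 ∧ ∃ n : ℕ, Nonempty (P ≃* QuaternionGroup (2 ^ n))) := by
  rcases subsingleton_or_nontrivial P with hs | hnt
  · left; exact isCyclic_of_subsingleton
  · obtain ⟨L, iL, fL, C, hC, ⟨e⟩⟩ := h.exists_frob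
    have hCp : IsPGroup p C := hP.of_equiv e
    have htop : IsPGroup p (⊤ : Subgroup C) := hCp.of_equiv Subgroup.topEquiv.symm
    obtain ⟨Q, hQ⟩ := htop.exists_le_sylow
    have hQtop : (Q : Subgroup C) = ⊤ := top_le_iff.mp hQ
    let e2 : P ≃* (Q : Subgroup C) :=
      e.trans (Subgroup.topEquiv.symm.trans (MulEquiv.subgroupCongr hQtop.symm))
    rcases Cfsg.Agent.Lib.helper75.frob_sylow_cyclic_or_quat C hC p Q with h1 | ⟨h2, n, ⟨e3⟩⟩
    · left
      exact isCyclic_of_injective e2.toMonoidHom e2.injective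
    · right
      exact ⟨h2, n, ⟨e2.trans e3⟩⟩

theorem comm_of_isCyclic {K : Type*} [Group K] (h : IsCyclic K) (x y : K) : x * y = y * x := by
  obtain ⟨g, hg⟩ := IsCyclic.exists_generator (α := K)
  obtain ⟨i, rfl⟩ := Subgroup.mem_zpowers_iff.mp (hg x)
  obtain ⟨j, rfl⟩ := Subgroup.mem_zpowers_iff.mp (hg y)
  rw [← zpow_add, ← zpow_add, add_comm]

/-- A generalized quaternion group `Q_{4·2^n}` in which commutators are central has `n ≤ 1`. -/
theorem quat_class_two {n : ℕ}
    (h : ∀ u v w : QuaternionGroup (2 ^ n), ⁅u, v⁆ * w = w * ⁅u, v⁆) : n ≤ 1 := by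
  have hc : ⁅(QuaternionGroup.a 1 : QuaternionGroup (2 ^ n)),
      (QuaternionGroup.xa 0 : QuaternionGroup (2 ^ n))⁆ = QuaternionGroup.a 2 := by
    rw [commutatorElement_def, mul_inv_eq_iff_eq_mul, mul_inv_eq_iff_eq_mul]
    simp only [QuaternionGroup.a_mul_xa, QuaternionGroup.xa_mul_a]
    congr 1
    ring
  have h1 := h (QuaternionGroup.a 1) (QuaternionGroup.xa 0) (QuaternionGroup.xa 0)
  rw [hc] at h1
  simp only [QuaternionGroup.a_mul_xa, QuaternionGroup.xa_mul_a] at h1
  have h2 : (0 : ZMod (2 * 2 ^ n)) - 2 = 0 + 2 := QuaternionGroup.xa.inj h1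
  have h3 : ((4 : ℕ) : ZMod (2 * 2 ^ n)) = 0 := by
    have : (4 : ZMod (2 * 2 ^ n)) = (0 + 2) - (0 - 2) := by ring
    rw [← h2] at this
    push_cast
    rw [this]
    ring
  have h4 : 2 * 2 ^ n ∣ 4 := (ZMod.natCast_eq_zero_iff 4 (2 * 2 ^ n)).mp h3
  have h5 : 2 * 2 ^ n ≤ 4 := Nat.le_of_dvd (by norm_num) h4
  by_contra hn
  have h6 : 2 ^ 2 ≤ 2 ^ n := Nat.pow_le_pow_right (by norm_num) (by omega)
  omega

theorem commutatorElement_mul_central_left {G : Type*} [Group G] (a u y : G)
    (h1 : Commute a u) (h2 : Commute a y) : ⁅a * u, y⁆ = ⁅u, y⁆ := by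
  have hc : Commute a (u * y * u⁻¹) := (h1.mul_right h2).mul_right h1.inv_right
  calc ⁅a * u, y⁆ = a * (u * y * u⁻¹) * a⁻¹ * y⁻¹ := by rw [commutatorElement_def]; group
    _ = (u * y * u⁻¹) * a * a⁻¹ * y⁻¹ := by rw [hc.eq]
    _ = ⁅u, y⁆ := by rw [commutatorElement_def]; group

theorem commutatorElement_mul_central {G : Type*} [Group G] (a b u w : G)
    (h1 : Commute a u) (h2 : Commute a b) (h3 : Commute a w) (h4 : Commute b u)
    (h5 : Commute b w) : ⁅a * u, b * w⁆ = ⁅u, w⁆ := by
  rw [commutatorElement_mul_central_left a u (b * w) h1 (h2.mul_right h3)]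
  rw [← commutatorElement_inv, commutatorElement_mul_central_left b w u h5 h4,
    commutatorElement_inv]

theorem exists_normal_q8 {G : Type u} [Group G] [Finite G] [hsol : Group.IsSolvable G]
    (hfpf : HasFpfMod.{u, v} G) (A : Subgroup G) [hAn : A.Normal]
    (hAc : ∀ a ∈ A, ∀ b ∈ A, a * b = b * a)
    (hAmax : ∀ B : Subgroup G, B.Normal → (∀ a ∈ B, ∀ b ∈ B, a * b = b * a) → A ≤ B → B = A)
    (hC : ¬ Subgroup.centralizer (A : Set G) ≤ A) :
    ∃ N : Subgroup G, N.Normal ∧ Nonempty (N ≃* QuaternionGroup 2) := by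
  classical
  have hCn : (Subgroup.centralizer (A : Set G)).Normal := inferInstance
  have hAC : A ≤ Subgroup.centralizer (A : Set G) := by
    intro a ha
    rw [Subgroup.mem_centralizer_iff]
    intro b hb
    exact hAc b hb a ha
  obtain ⟨M, ⟨hMn, hAM, hMC⟩, hMmin⟩ := Cfsg.Agent.Lib.helper62.exists_minimal_subgroup
    (fun M : Subgroup G => M.Normal ∧ A < M ∧ M ≤ Subgroup.centralizer (A : Set G))
    ⟨_, hCn, lt_of_le_not_ge hAC hC, le_refl _⟩
  have hAMc : ∀ a ∈ A, ∀ m ∈ M, a * m = m * a := by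
    intro a ha m hm
    have := hMC hm
    rw [Subgroup.mem_centralizer_iff] at this
    exact this a ha
  have hM' : ⁅M, M⁆ ≤ A := by
    by_contra hnot
    have hM1n : (A ⊔ ⁅M, M⁆).Normal := inferInstance
    have hM1le : A ⊔ ⁅M, M⁆ ≤ M := sup_le hAM.le (Subgroup.commutator_le_left M M)
    have hlt : A < A ⊔ ⁅M, M⁆ :=
      lt_of_le_not_ge le_sup_left (fun h => hnot (le_sup_right.trans h))
    have hM1 : A ⊔ ⁅M, M⁆ = M := hMmin _ ⟨hM1n, hlt, hM1le.trans hMC⟩ hM1le
    have hle : ⁅M, M⁆ ≤ ⁅⁅M, M⁆, ⁅M, M⁆⁆ := by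
      rw [Subgroup.commutator_le]
      intro x hx y hy
      rw [← hM1] at hx hy
      have hnorm : ⁅M, M⁆ ≤ Subgroup.normalizer (A : Set G) := by
        rw [Subgroup.normalizer_eq_top]; exact le_top
      obtain ⟨a, ha, u, hu, rfl⟩ := Cfsg.Agent.Lib.helper1.mem_sup_normal_left hnorm hx
      obtain ⟨b, hb, w, hw, rfl⟩ := Cfsg.Agent.Lib.helper1.mem_sup_normal_left hnorm hy
      have huM : u ∈ M := Subgroup.commutator_le_left M M hu
      have hwM : w ∈ M := Subgroup.commutator_le_left M M hw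
      rw [commutatorElement_mul_central a b u w (hAMc a ha u huM) (hAc a ha b hb)
        (hAMc a ha w hwM) (hAMc b hb u huM) (hAMc b hb w hwM)]
      exact Subgroup.commutator_mem_commutator hu hw
    have hne : ⁅M, M⁆ ≠ ⊥ := by
      intro h
      apply hnot
      rw [h]
      exact bot_le
    exact absurd hle (not_le_of_gt (Group.IsSolvable.commutator_lt_of_ne_bot hne))
  have hMna : ¬ ∀ x ∈ M, ∀ y ∈ M, x * y = y * x :=
    fun h => (ne_of_gt hAM) (hAmax M hMn h hAM.le)
  have hcomm_center : commutator M ≤ Subgroup.center M := by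
    intro x hx
    have hxA : (x : G) ∈ A := by
      apply hM'
      rw [← Subgroup.map_subtype_commutator]
      exact Subgroup.mem_map_of_mem _ hx
    rw [Subgroup.mem_center_iff]
    intro y
    exact Subtype.ext (hAMc x hxA y y.2).symm
  have hnil : Group.IsNilpotent M :=
    Subgroup.isNilpotent_of_ker_le_center Abelianization.of
      (by rw [Abelianization.ker_of]; exact hcomm_center)
  have tfae := Group.isNilpotent_of_finite_tfae (G := M)
  have h4 : ∀ (p : ℕ), Fact (Nat.Prime p) → ∀ (P : Sylow p M), (P : Subgroup M).Normal :=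
    (tfae.out 0 3).mp hnil
  obtain ⟨e⟩ := (tfae.out 0 4).mp hnil
  have hex : ∃ (p : (Nat.card M).primeFactors) (P : Sylow p M),
      ¬ ∀ x y : (P : Subgroup M), x * y = y * x := by
    by_contra hall
    push Not at hall
    apply hMna
    intro x hx y hy
    have h1 : e.symm ⟨x, hx⟩ * e.symm ⟨y, hy⟩ = e.symm ⟨y, hy⟩ * e.symm ⟨x, hx⟩ := by
      funext p P
      exact hall p P _ _
    have h2 := congrArg e h1
    rw [map_mul, map_mul, e.apply_symm_apply, e.apply_symm_apply] at h2
    exact congrArg Subtype.val h2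
  obtain ⟨p, P, hPna⟩ := hex
  have hpP : Fact (p : ℕ).Prime := ⟨Nat.prime_of_mem_primeFactors p.2⟩
  have hfpfP : HasFpfMod.{u, v} (P : Subgroup M) :=
    hfpf.comap (M.subtype.comp (P : Subgroup M).subtype)
      ((Subgroup.subtype_injective _).comp (Subgroup.subtype_injective _))
  have key : ∀ x y z : (P : Subgroup M), ⁅x, y⁆ * z = z * ⁅x, y⁆ := by
    intro x y z
    have h1 : ⁅(x : M), (y : M)⁆ ∈ Subgroup.center M :=
      hcomm_center (Subgroup.commutator_mem_commutator (Subgroup.mem_top _) (Subgroup.mem_top _))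
    apply Subtype.ext
    exact ((Subgroup.mem_center_iff.mp h1) z).symm
  rcases fpf_pgroup_cyclic_or_quat hfpfP (p : ℕ) P.isPGroup' with hcyc | ⟨hp2, n, ⟨eQ⟩⟩
  · exact absurd (comm_of_isCyclic hcyc) hPna
  · have hn : n ≤ 1 := quat_class_two (by
      intro u v w
      have h1 := key (eQ.symm u) (eQ.symm v) (eQ.symm w)
      have h2 := congrArg eQ h1
      simpa [map_commutatorElement] using h2)
    interval_cases n
    · exfalso
      have e1 : (P : Subgroup M) ≃* QuaternionGroup 1 := by simpa using eQ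
      have hcyc : IsCyclic (P : Subgroup M) := by
        have := QuaternionGroup.quaternionGroup_one_isCyclic
        exact isCyclic_of_injective e1.toMonoidHom e1.injective
      exact hPna (comm_of_isCyclic hcyc)
    · have e2 : (P : Subgroup M) ≃* QuaternionGroup 2 := by simpa using eQ
      have hPn : (P : Subgroup M).Normal := h4 p hpP P
      have hPc : (P : Subgroup M).Characteristic := Sylow.characteristic_of_normal P hPn
      refine ⟨(P : Subgroup M).map M.subtype, ConjAct.normal_of_characteristic_of_normal, ⟨?_⟩⟩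
      exact ((P : Subgroup M).equivMapOfInjective M.subtype (Subgroup.subtype_injective _)).symm.trans
        e2

end Cfsg.Agent.Lib.helper62.LinRegQ8
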