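import Mathlib
import Cfsg.Agent.Lib.helper1.Frob2
import Cfsg.Agent.Lib.helper62.FrobExtract

/-!
Consequences of a fixed-point-free module (helper62), used for solvable Frobenius complements.

* `fpf_involution_unique` : a group with a fixed-point-free module has at most one involution.
* `fpf_prime_centralizes` : in such a group, an element `c` with `c^q = 1` (`q` prime) normalizing
  `⟨y⟩` (with `q ∤ |y|`) centralizes `y`.
-/

set_option autoImplicit false

namespace Cfsg.Agent.Lib.helper62.FrobSolv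

open Cfsg.Agent.Lib.helper62.FrobExtract

universe u v

theorem fpf_involution_unique {G : Type u} [Group G] (h : HasFpfMod.{u, v} G) (s t : G)
    (hs : s ≠ 1) (ht : t ≠ 1) (hs2 : s ^ 2 = 1) (ht2 : t ^ 2 = 1) : s = t := by
  obtain ⟨p, hp, V, i1, i2, hpA, hfin, hnt, hpV, hfpf⟩ := h
  have hneg : ∀ g : G, g ≠ 1 → g ^ 2 = 1 → ∀ v : V, g • v = -v := by
    intro g hg hg2 v
    have h1 : g • (v + g • v) = v + g • v := by
      rw [smul_add, smul_smul, ← pow_two, hg2, one_smul, add_comm]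
    have h2 := hfpf g hg _ h1
    exact (neg_eq_of_add_eq_zero_right h2).symm
  by_contra hne
  obtain ⟨v, hv⟩ := exists_ne (0 : V)
  have h3 : (t⁻¹ * s) • v = v := by
    rw [mul_smul, hneg s hs hs2 v, ← hneg t ht ht2 v, inv_smul_smul]
  exact hv (hfpf (t⁻¹ * s) (fun h => hne (inv_mul_eq_one.mp h).symm) v h3)

/-- The multiplicative action attached to an additive one. -/
@[reducible] def mulAct (G : Type u) (V : Type v) [Monoid G] [AddCommGroup V]
    [DistribMulAction G V] : MulDistribMulAction G (Multiplicative V) where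
  smul g w := Multiplicative.ofAdd (g • Multiplicative.toAdd w)
  one_smul w := by
    show Multiplicative.ofAdd ((1 : G) • Multiplicative.toAdd w) = w
    simp
  mul_smul a b w := by
    show Multiplicative.ofAdd ((a * b) • Multiplicative.toAdd w)
      = Multiplicative.ofAdd (a • Multiplicative.toAdd
          (Multiplicative.ofAdd (b • Multiplicative.toAdd w)))
    simp [mul_smul]
  smul_mul a w w' := by
    show Multiplicative.ofAdd (a • Multiplicative.toAdd (w * w'))
      = Multiplicative.ofAdd (a • Multiplicative.toAdd w)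
        * Multiplicative.ofAdd (a • Multiplicative.toAdd w')
    simp
  smul_one a := by
    show Multiplicative.ofAdd (a • Multiplicative.toAdd (1 : Multiplicative V)) = 1
    simp

theorem comm_pow_telescope {G : Type*} [Group G] (a c : G)
    (hcomm : (a⁻¹ * (c⁻¹ * a * c)) * c = c * (a⁻¹ * (c⁻¹ * a * c))) :
    ∀ n : ℕ, (a⁻¹ * (c⁻¹ * a * c)) ^ n = a⁻¹ * ((c⁻¹) ^ n * a * c ^ n) := by
  intro n
  induction n with
  | zero => simp
  | succ n ih =>
    have h1 : Commute (a⁻¹ * (c⁻¹ * a * c)) (c ^ n) :=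
      (show Commute (a⁻¹ * (c⁻¹ * a * c)) c from hcomm).pow_right n
    have h2 : c ^ n * (a⁻¹ * (c⁻¹ * a * c)) = (a⁻¹ * (c⁻¹ * a * c)) * c ^ n := h1.eq.symm
    rw [pow_succ, ih]
    calc a⁻¹ * ((c⁻¹) ^ n * a * c ^ n) * (a⁻¹ * (c⁻¹ * a * c))
        = a⁻¹ * (c⁻¹) ^ n * a * (c ^ n * (a⁻¹ * (c⁻¹ * a * c))) := by group
      _ = a⁻¹ * (c⁻¹) ^ n * a * ((a⁻¹ * (c⁻¹ * a * c)) * c ^ n) := by rw [h2]
      _ = a⁻¹ * ((c⁻¹) ^ (n + 1) * a * c ^ (n + 1)) := by
        rw [pow_succ, pow_succ]; group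

theorem fpf_prime_centralizes {G : Type u} [Group G] [Finite G] (h : HasFpfMod.{u, v} G)
    (y c : G) (q s : ℕ) (hq : q.Prime) (hc : c ^ q = 1) (hrel : c⁻¹ * y * c = y ^ s)
    (hcop : Nat.Coprime q (orderOf y)) : c⁻¹ * y * c = y := by
  classical
  by_contra hne
  obtain ⟨p, hp, V, i1, i2, hpG, hfin, hnt, hpV, hfpf⟩ := h
  have hqF : Fact q.Prime := ⟨hq⟩
  have hc1 : c ≠ 1 := by
    rintro rfl
    exact hne (by simp)
  have hoc : orderOf c = q := orderOf_eq_prime hc hc1
  set u : G := y⁻¹ * (c⁻¹ * y * c) with hu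
  have hu1 : u ≠ 1 := by
    intro h1
    apply hne
    rw [hu] at h1
    exact (inv_mul_eq_one.mp h1).symm
  have hconjpow : ∀ k : ℕ, c⁻¹ * y ^ k * c = (y ^ s) ^ k := by
    intro k
    rw [← hrel]
    induction k with
    | zero => simp
    | succ k ih =>
      rw [pow_succ, pow_succ, ← ih]
      group
  have hupow : ∀ k : ℕ, u ^ k = (y ^ k)⁻¹ * (c⁻¹ * y ^ k * c) := by
    intro k
    rw [hconjpow, hu, hrel]
    have hcm : Commute y⁻¹ (y ^ s) := ((Commute.refl y).inv_left).pow_right s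
    rw [hcm.mul_pow, inv_pow]
  set R : Subgroup G := Subgroup.zpowers u with hR
  set C : Subgroup G := Subgroup.zpowers c with hC
  -- fixed points of `c` on `R` are trivial
  have hfix : ∀ w ∈ R, w * c = c * w → w = 1 := by
    intro w hw hwc
    obtain ⟨k, rfl⟩ : ∃ k : ℕ, u ^ k = w := by
      have := (mem_powers_iff_mem_zpowers (x := u) (y := w)).mpr hw
      exact (Submonoid.mem_powers_iff _ _).mp this
    rw [hupow k] at hwc ⊢
    have h1 := comm_pow_telescope (y ^ k) c hwc q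
    rw [inv_pow, hc] at h1
    simp only [inv_one, one_mul, mul_one, inv_mul_cancel] at h1
    have h2 : orderOf ((y ^ k)⁻¹ * (c⁻¹ * y ^ k * c)) ∣ q := orderOf_dvd_of_pow_eq_one h1
    have h3 : orderOf ((y ^ k)⁻¹ * (c⁻¹ * y ^ k * c)) ∣ orderOf y := by
      apply orderOf_dvd_of_mem_zpowers
      rw [hconjpow]
      exact Subgroup.mul_mem _ (Subgroup.inv_mem _ (Subgroup.pow_mem _ (Subgroup.mem_zpowers y) k))
        (Subgroup.pow_mem _ (Subgroup.pow_mem _ (Subgroup.mem_zpowers y) s) k)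
    exact orderOf_eq_one_iff.mp (Nat.eq_one_of_dvd_coprimes hcop h2 h3)
  -- `c` normalizes `R`
  have hcu : c⁻¹ * u * c = u ^ s := by
    rw [hupow s, hu]
    have : c⁻¹ * (y⁻¹ * (c⁻¹ * y * c)) * c = (c⁻¹ * y * c)⁻¹ * (c⁻¹ * (c⁻¹ * y * c) * c) := by
      group
    rw [this, hrel]
  have hcinvR : ∀ w ∈ R, c⁻¹ * w * c ∈ R := by
    intro w hw
    obtain ⟨k, rfl⟩ := Subgroup.mem_zpowers_iff.mp hw
    have h1 : c⁻¹ * u ^ k * c = (c⁻¹ * u * c) ^ k := by
      have := conj_zpow (a := c⁻¹) (b := u) (i := k)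
      simpa using this.symm
    rw [h1, hcu]
    exact Subgroup.zpow_mem _ (Subgroup.pow_mem _ (Subgroup.mem_zpowers u) s) k
  have hcN : c ∈ Subgroup.normalizer (R : Set G) := by
    have h1 : c⁻¹ ∈ Subgroup.normalizer (R : Set G) :=
      Subgroup.mem_normalizer_fintype (by intro n hn; simpa using hcinvR n hn)
    simpa using Subgroup.inv_mem _ h1
  have hCN : C ≤ Subgroup.normalizer (R : Set G) := by
    rw [hC, Subgroup.zpowers_le]
    exact hcN
  -- the Frobenius condition
  have h1F : ∀ c' ∈ C, c' ≠ 1 → ∀ w ∈ R, c' * w * c'⁻¹ = w → w = 1 := by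
    intro c' hc' hc'1 w hw hcw
    have hcc' : c ∈ Subgroup.zpowers c' := by
      have hcard : Nat.card C = q := by rw [hC, Nat.card_zpowers, hoc]
      have htop := zpowers_eq_top_of_prime_card (G := C) hcard (g := ⟨c', hc'⟩)
        (by intro h; exact hc'1 (congrArg Subtype.val h))
      have hmem : (⟨c, Subgroup.mem_zpowers c⟩ : C) ∈ Subgroup.zpowers (⟨c', hc'⟩ : C) := by
        rw [htop]; trivial
      obtain ⟨k, hk⟩ := Subgroup.mem_zpowers_iff.mp hmem
      exact Subgroup.mem_zpowers_iff.mpr ⟨k, by simpa using congrArg Subtype.val hk⟩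
    obtain ⟨k, hk⟩ := Subgroup.mem_zpowers_iff.mp hcc'
    apply hfix w hw
    have hcomm : Commute c' w := by
      show c' * w = w * c'
      calc c' * w = c' * w * c'⁻¹ * c' := by group
        _ = w * c' := by rw [hcw]
    rw [← hk]
    exact (hcomm.zpow_left k).eq.symm
  have hR1 : R ≠ ⊥ := by
    intro hbot
    have : u ∈ R := Subgroup.mem_zpowers u
    rw [hbot, Subgroup.mem_bot] at this
    exact hu1 this
  have hC1 : C ≠ ⊥ := by
    intro hbot
    have : c ∈ C := Subgroup.mem_zpowers c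
    rw [hbot, Subgroup.mem_bot] at this
    exact hc1 this
  have hRC : R ⊓ C = ⊥ := by
    rw [eq_bot_iff]
    intro w hw
    rw [Subgroup.mem_bot]
    apply hfix w hw.1
    obtain ⟨k, rfl⟩ := Subgroup.mem_zpowers_iff.mp hw.2
    exact ((Commute.refl c).zpow_left k).eq
  -- the action of `A = R ⊔ C` on `V`
  let act : MulDistribMulAction (R ⊔ C : Subgroup G) (Multiplicative V) :=
    mulAct (R ⊔ C : Subgroup G) V
  have : (R.subgroupOf (R ⊔ C)).Normal :=
    (Subgroup.normal_subgroupOf_iff_le_normalizer le_sup_left).mpr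
      (sup_le Subgroup.le_normalizer hCN)
  have hcompl : Subgroup.IsComplement' (R.subgroupOf (R ⊔ C)) (C.subgroupOf (R ⊔ C)) := by
    apply Cfsg.Agent.Lib.helper1.isComplement'_of_normal
    · rw [← Cfsg.Agent.Lib.helper1.subgroupOf_inf', hRC]; simp
    · rw [← Subgroup.subgroupOf_sup le_sup_left le_sup_right]; simp
  have hR' : R.subgroupOf (R ⊔ C) ≠ ⊥ := by
    intro h
    rw [Subgroup.subgroupOf_eq_bot] at h
    exact hR1 (by rw [← inf_eq_left.mpr (le_sup_left : R ≤ R ⊔ C)]; exact disjoint_iff.mp h)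
  have hC' : C.subgroupOf (R ⊔ C) ≠ ⊥ := by
    intro h
    rw [Subgroup.subgroupOf_eq_bot] at h
    exact hC1 (by rw [← inf_eq_left.mpr (le_sup_right : C ≤ R ⊔ C)]; exact disjoint_iff.mp h)
  have key := @Cfsg.Agent.Lib.helper1.frob_action_exponent (R ⊔ C : Subgroup G) (Multiplicative V)
    _ _ _ act (R.subgroupOf (R ⊔ C)) (C.subgroupOf (R ⊔ C)) _ hcompl hR' hC'
    (by
      intro c' hc' hc'1 r hr h
      apply Subtype.ext
      exact h1F c' (Subgroup.mem_subgroupOf.mp hc') (fun h' => hc'1 (Subtype.ext h')) r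
        (Subgroup.mem_subgroupOf.mp hr) (congrArg Subtype.val h))
    (by
      intro a ha w hw
      have h1 : (a : G) • Multiplicative.toAdd w = Multiplicative.toAdd w :=
        congrArg Multiplicative.toAdd hw
      have h2 := hfpf (a : G) (fun h' => ha (Subtype.ext h')) _ h1
      exact congrArg Multiplicative.ofAdd h2)
  obtain ⟨v, hv⟩ := exists_ne (0 : V)
  apply hv
  have h3 : Nat.card (R.subgroupOf (R ⊔ C)) • v = 0 := by
    have := key (Multiplicative.ofAdd v)
    exact congrArg Multiplicative.toAdd this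
  have h4 : Nat.card (R.subgroupOf (R ⊔ C)) = Nat.card R :=
    Nat.card_congr (Subgroup.subgroupOfEquivOfLe le_sup_left).toEquiv
  rw [h4] at h3
  have h5 : (Nat.card R).Coprime p := by
    rw [Nat.coprime_comm, Nat.Prime.coprime_iff_not_dvd hp.out]
    intro hd
    exact hpG (hd.trans (Subgroup.card_subgroup_dvd_card R))
  have h6 : addOrderOf v ∣ Nat.card R := addOrderOf_dvd_of_nsmul_eq_zero h3
  have h7 : addOrderOf v ∣ p := addOrderOf_dvd_of_nsmul_eq_zero (hpV v)
  exact AddMonoid.addOrderOf_eq_one_iff.mp (Nat.eq_one_of_dvd_coprimes h5 h6 h7)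

end Cfsg.Agent.Lib.helper62.FrobSolv
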