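import Mathlib
import Cfsg.Agent.Lib.helper15.LinReg

/-!
Linear groups regular on non-zero vectors containing a quaternion group `Q₈` (helper62):
the elements commuting with `Q₈` preserve an eigenspace of half dimension, so their number
divides `p ^ k - 1` where `dim V = 2 k`.
-/

set_option autoImplicit false

namespace Cfsg.Agent.Lib.helper62.LinRegQ8

open Cfsg.Agent.Lib.helper15.LinReg Module

section

variable {p : ℕ} [Fact p.Prime] {V : Type*} [AddCommGroup V] [Module (ZMod p) V]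

theorem neg_of_involution (H : Subgroup (V ≃ₗ[ZMod p] V))
    (hreg : ∀ v w : V, v ≠ 0 → w ≠ 0 → ∃! h : H, (h : V ≃ₗ[ZMod p] V) v = w)
    (z : H) (hz1 : z ≠ 1) (hz2 : z * z = 1) (v : V) : (z : V ≃ₗ[ZMod p] V) v = -v := by
  have hzz : (z : V ≃ₗ[ZMod p] V) ((z : V ≃ₗ[ZMod p] V) v) = v := by
    have h1 : ((z * z : H) : V ≃ₗ[ZMod p] V) v = v := by rw [hz2]; rfl
    simpa using h1
  by_contra hne
  have hw : v + (z : V ≃ₗ[ZMod p] V) v ≠ 0 := by
    intro h0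
    exact hne (eq_neg_of_add_eq_zero_right h0)
  apply hz1
  apply free_of_reg H hreg z _ hw
  rw [map_add, hzz, add_comm]

theorem card_dvd_of_commute_q8 [Finite V] [Nontrivial V] (H : Subgroup (V ≃ₗ[ZMod p] V))
    (hreg : ∀ v w : V, v ≠ 0 → w ≠ 0 → ∃! h : H, (h : V ≃ₗ[ZMod p] V) v = w)
    (N : Subgroup H) (e : N ≃* QuaternionGroup 2) (K : Subgroup H)
    (hK : ∀ k ∈ K, ∀ n ∈ N, k * n = n * k) :
    p ≠ 2 ∧ ∃ k : ℕ, finrank (ZMod p) V = 2 * k ∧ Nat.card K ∣ p ^ k - 1 := by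
  classical
  obtain ⟨i, hiN, hi⟩ : ∃ i : H, i ∈ N ∧ i = ((e.symm (QuaternionGroup.a 1) : N) : H) :=
    ⟨_, (e.symm (QuaternionGroup.a 1)).2, rfl⟩
  obtain ⟨j, hjN, hj⟩ : ∃ j : H, j ∈ N ∧ j = ((e.symm (QuaternionGroup.xa 0) : N) : H) :=
    ⟨_, (e.symm (QuaternionGroup.xa 0)).2, rfl⟩
  have q1 : (QuaternionGroup.xa 0 : QuaternionGroup 2) * QuaternionGroup.xa 0
      = QuaternionGroup.a 1 * QuaternionGroup.a 1 := by decide
  have q2 : (QuaternionGroup.a 1 : QuaternionGroup 2) * QuaternionGroup.a 1 ≠ 1 := by decide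
  have q3 : ((QuaternionGroup.a 1 : QuaternionGroup 2) * QuaternionGroup.a 1)
      * (QuaternionGroup.a 1 * QuaternionGroup.a 1) = 1 := by decide
  have q4 : (QuaternionGroup.a 1 : QuaternionGroup 2) * QuaternionGroup.xa 0
      = (QuaternionGroup.a 1 * QuaternionGroup.a 1)
        * (QuaternionGroup.xa 0 * QuaternionGroup.a 1) := by decide
  obtain ⟨z, hz⟩ : ∃ z : H, z = i * i := ⟨_, rfl⟩
  have hzE : z = ((e.symm (QuaternionGroup.a 1 * QuaternionGroup.a 1) : N) : H) := by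
    rw [hz, hi, map_mul, Subgroup.coe_mul]
  have hjj : j * j = z := by
    rw [hzE, hj, ← Subgroup.coe_mul, ← map_mul, q1]
  have hz1 : z ≠ 1 := by
    rw [hzE]
    intro h
    have h' : e.symm (QuaternionGroup.a 1 * QuaternionGroup.a 1) = 1 := Subtype.ext h
    exact q2 (e.symm.injective (h'.trans (map_one e.symm).symm))
  have hz2 : z * z = 1 := by
    rw [hzE, ← Subgroup.coe_mul, ← map_mul, q3, map_one]
    rfl
  have hij : i * j = z * (j * i) := by
    rw [hzE, hi, hj]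
    simp only [← Subgroup.coe_mul, ← map_mul]
    rw [q4]
  have hneg := neg_of_involution H hreg z hz1 hz2
  obtain ⟨I, hI⟩ : ∃ I : V →ₗ[ZMod p] V, ∀ v, I v = (i : V ≃ₗ[ZMod p] V) v :=
    ⟨((i : V ≃ₗ[ZMod p] V) : V →ₗ[ZMod p] V), fun v => rfl⟩
  obtain ⟨J, hJ⟩ : ∃ J : V →ₗ[ZMod p] V, ∀ v, J v = (j : V ≃ₗ[ZMod p] V) v :=
    ⟨((j : V ≃ₗ[ZMod p] V) : V →ₗ[ZMod p] V), fun v => rfl⟩
  have hII : ∀ v, I (I v) = -v := by
    intro v
    have h1 := hneg v
    rw [hz] at h1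
    rw [hI, hI]
    simpa using h1
  have hJJ : ∀ v, J (J v) = -v := by
    intro v
    have h1 := hneg v
    rw [← hjj] at h1
    rw [hJ, hJ]
    simpa using h1
  have hIJ : ∀ v, I (J v) = -(J (I v)) := by
    intro v
    have h1 : ((i * j : H) : V ≃ₗ[ZMod p] V) v = ((z * (j * i) : H) : V ≃ₗ[ZMod p] V) v := by
      rw [hij]
    simp only [Subgroup.coe_mul, LinearEquiv.mul_apply] at h1
    rw [hneg] at h1
    rw [hI, hJ, hJ, hI]
    exact h1
  have hJI : ∀ v, J (I v) = -(I (J v)) := by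
    intro v
    rw [hIJ, neg_neg]
  have hIJI : ∀ v, I (J (I v)) = J v := by
    intro v
    rw [hJI, map_neg, hII, neg_neg]
  have hJIJ : ∀ v, J (I (J v)) = I v := by
    intro v
    rw [hJI (J v), hJJ, map_neg, neg_neg]
  have hp2 : p ≠ 2 := by
    rintro rfl
    obtain ⟨v, hv⟩ := exists_ne (0 : V)
    apply hz1
    apply free_of_reg H hreg z v hv
    rw [hneg v]
    have h1 : (2 : ℕ) • v = 0 := by
      rw [← Nat.cast_smul_eq_nsmul (ZMod 2), ZMod.natCast_self, zero_smul]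
    rw [two_nsmul] at h1
    exact neg_eq_of_add_eq_zero_left h1
  have h2ne : (2 : ZMod p) ≠ 0 := by
    intro h
    have h1 : ((2 : ℕ) : ZMod p) = 0 := by exact_mod_cast h
    rw [ZMod.natCast_eq_zero_iff] at h1
    exact hp2 ((Nat.prime_dvd_prime_iff_eq Fact.out Nat.prime_two).mp h1)
  obtain ⟨a, b, hab⟩ := ZMod.sq_add_sq p (-1)
  obtain ⟨T, hT⟩ : ∃ T : V →ₗ[ZMod p] V, ∀ v, T v = a • I v + b • J v :=
    ⟨a • I + b • J, fun v => rfl⟩
  have hTT : ∀ v, T (T v) = v := by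
    intro v
    rw [hT (T v), hT v]
    simp only [map_add, map_smul, hII, hJJ, hIJ]
    have e1 : (-(a * a) - b * b : ZMod p) = 1 := by linear_combination -hab
    calc a • (a • -v + b • -J (I v)) + b • (a • J (I v) + b • -v)
        = (-(a * a) - b * b) • v + (0 : ZMod p) • J (I v) := by module
      _ = v := by rw [e1, one_smul, zero_smul, add_zero]
  have hUT : ∀ v, T (I (J v)) = -(I (J (T v))) := by
    intro v
    rw [hT (I (J v)), hT v]
    simp only [map_add, map_smul, hII, hJJ, hIJI, hJIJ, map_neg]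
    module
  obtain ⟨Vp, mem_Vp⟩ : ∃ Vp : Submodule (ZMod p) V, ∀ v, v ∈ Vp ↔ T v = v :=
    ⟨LinearMap.ker (T - LinearMap.id), fun v => by simp [LinearMap.mem_ker, sub_eq_zero]⟩
  obtain ⟨Vm, mem_Vm⟩ : ∃ Vm : Submodule (ZMod p) V, ∀ v, v ∈ Vm ↔ T v = -v :=
    ⟨LinearMap.ker (T + LinearMap.id), fun v => by
      simp [LinearMap.mem_ker, add_eq_zero_iff_eq_neg]⟩
  have hinf : Vp ⊓ Vm = ⊥ := by
    rw [eq_bot_iff]
    intro v hv
    have h1 := (mem_Vp v).mp hv.1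
    have h2 := (mem_Vm v).mp hv.2
    have h3 : (2 : ZMod p) • v = 0 := by
      rw [two_smul]
      have : v = -v := h1.symm.trans h2
      exact add_eq_zero_iff_eq_neg.mpr this
    rcases smul_eq_zero.mp h3 with h | h
    · exact absurd h h2ne
    · simpa using h
  have hsup : Vp ⊔ Vm = ⊤ := by
    rw [eq_top_iff]
    intro v _
    rw [Submodule.mem_sup]
    refine ⟨(2 : ZMod p)⁻¹ • (v + T v), ?_, (2 : ZMod p)⁻¹ • (v - T v), ?_, ?_⟩
    · rw [mem_Vp, map_smul, map_add, hTT, add_comm]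
    · rw [mem_Vm, map_smul, map_sub, hTT, ← smul_neg, neg_sub]
    · rw [← smul_add]
      have h1 : v + T v + (v - T v) = (2 : ZMod p) • v := by
        rw [two_smul]; abel
      rw [h1, smul_smul, inv_mul_cancel₀ h2ne, one_smul]
  obtain ⟨U, hU⟩ : ∃ U : V ≃ₗ[ZMod p] V, ∀ v, U v = I (J v) :=
    ⟨((i * j : H) : V ≃ₗ[ZMod p] V), fun v => by
      rw [hI, hJ]; simp only [Subgroup.coe_mul, LinearEquiv.mul_apply]⟩
  have hUpm : Vp.map (U : V →ₗ[ZMod p] V) ≤ Vm := by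
    rintro _ ⟨v, hv, rfl⟩
    rw [mem_Vm]
    show T (U v) = -(U v)
    rw [hU, hUT, (mem_Vp v).mp hv]
  have hUmp : Vm.map (U : V →ₗ[ZMod p] V) ≤ Vp := by
    rintro _ ⟨v, hv, rfl⟩
    rw [mem_Vp]
    show T (U v) = U v
    rw [hU, hUT, (mem_Vm v).mp hv, map_neg, map_neg, neg_neg]
  have hfd : Module.Finite (ZMod p) V := Module.Finite.of_finite
  have e1 : finrank (ZMod p) Vp ≤ finrank (ZMod p) Vm := by
    rw [← LinearEquiv.finrank_map_eq U Vp]
    exact Submodule.finrank_mono hUpm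
  have e2 : finrank (ZMod p) Vm ≤ finrank (ZMod p) Vp := by
    rw [← LinearEquiv.finrank_map_eq U Vm]
    exact Submodule.finrank_mono hUmp
  have e3 := Submodule.finrank_sup_add_finrank_inf_eq Vp Vm
  rw [hsup, hinf, finrank_top, finrank_bot, add_zero] at e3
  refine ⟨hp2, finrank (ZMod p) Vp, by omega, ?_⟩
  apply card_dvd_of_invariant H hreg K Vp
  intro k hk v hv
  rw [mem_Vp] at hv ⊢
  have hki : ∀ w, (k : V ≃ₗ[ZMod p] V) (I w) = I ((k : V ≃ₗ[ZMod p] V) w) := by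
    intro w
    have h1 := hK k hk i hiN
    have h2 : ((k * i : H) : V ≃ₗ[ZMod p] V) w = ((i * k : H) : V ≃ₗ[ZMod p] V) w := by
      rw [h1]
    rw [hI, hI]
    simpa using h2
  have hkj : ∀ w, (k : V ≃ₗ[ZMod p] V) (J w) = J ((k : V ≃ₗ[ZMod p] V) w) := by
    intro w
    have h1 := hK k hk j hjN
    have h2 : ((k * j : H) : V ≃ₗ[ZMod p] V) w = ((j * k : H) : V ≃ₗ[ZMod p] V) w := by
      rw [h1]
    rw [hJ, hJ]
    simpa using h2
  calc T ((k : V ≃ₗ[ZMod p] V) v)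
      = a • I ((k : V ≃ₗ[ZMod p] V) v) + b • J ((k : V ≃ₗ[ZMod p] V) v) := hT _
    _ = a • (k : V ≃ₗ[ZMod p] V) (I v) + b • (k : V ≃ₗ[ZMod p] V) (J v) := by rw [hki, hkj]
    _ = (k : V ≃ₗ[ZMod p] V) (a • I v + b • J v) := by rw [map_add, map_smul, map_smul]
    _ = (k : V ≃ₗ[ZMod p] V) (T v) := by rw [hT v]
    _ = (k : V ≃ₗ[ZMod p] V) v := by rw [hv]

end

end Cfsg.Agent.Lib.helper62.LinRegQ8
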