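import Mathlib
import Cfsg.Prelude.Def_CaseTheorems
import Cfsg.Agent.S0016
import Cfsg.Agent.S3742
import Cfsg.Agent.Lib.helper40.Cores
import Cfsg.Agent.Lib.helper60.HallHigman
import Cfsg.Agent.Lib.helper60.OddCoreQuot
import Cfsg.Agent.Lib.helper87.AutTwoGroup
import Cfsg.Agent.Lib.helper75.FpfRank

/-!
Structure of finite solvable groups with at most one involution (helper62): a homomorphism to
`Sym(4)` whose kernel has cyclic `2`-subgroups (`exists_sym4_hom`), and cyclicity of the odd
Sylow subgroups of (subgroups of) Frobenius complements (`isCyclic_of_frob_odd`).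
-/

set_option autoImplicit false

namespace Cfsg.Agent.Lib.helper62.FrobSolv

universe u

/-- `K` has at most one involution. -/
def UI (K : Type*) [Group K] : Prop :=
  ∀ s t : K, s ≠ 1 → t ≠ 1 → s ^ 2 = 1 → t ^ 2 = 1 → s = t

theorem UI.quot {G : Type*} [Group G] [Finite G] (h : UI G) (Y : Subgroup G) [Y.Normal]
    (hY : Odd (Nat.card Y)) : UI (G ⧸ Y) := by
  have lift : ∀ s : G ⧸ Y, s ≠ 1 → s ^ 2 = 1 →
      ∃ g : G, g ≠ 1 ∧ g ^ 2 = 1 ∧ (g : G ⧸ Y) = s := by
    intro s hs hs2
    obtain ⟨g, rfl⟩ := QuotientGroup.mk_surjective s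
    obtain ⟨j, hj⟩ := hY
    have hpow : ((g ^ Nat.card Y : G) : G ⧸ Y) = (g : G ⧸ Y) := by
      rw [QuotientGroup.mk_pow, hj, pow_succ, pow_mul, hs2, one_pow, one_mul]
    refine ⟨g ^ Nat.card Y, ?_, ?_, hpow⟩
    · intro h1
      apply hs
      rw [← hpow, h1]
      rfl
    · have hg2 : g ^ 2 ∈ Y := by
        rw [← QuotientGroup.eq_one_iff, QuotientGroup.mk_pow]
        exact hs2
      rw [← pow_mul, mul_comm, pow_mul]
      have := pow_card_eq_one' (G := Y) (x := ⟨g ^ 2, hg2⟩)
      exact congrArg Subtype.val this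
  intro s t hs ht hs2 ht2
  obtain ⟨g, hg1, hg2, rfl⟩ := lift s hs hs2
  obtain ⟨g', hg'1, hg'2, rfl⟩ := lift t ht ht2
  rw [h g g' hg1 hg'1 hg2 hg'2]

theorem UI.uniqueOrderP {K : Type*} [Group K] (h : UI K) :
    ∀ H K' : Subgroup K, Nat.card H = 2 → Nat.card K' = 2 → H = K' := by
  have key : ∀ H K' : Subgroup K, Nat.card H = 2 → Nat.card K' = 2 → H ≤ K' := by
    intro H K' hH hK' x hx
    by_cases hx1 : x = 1
    · rw [hx1]; exact K'.one_mem
    · have hx2 : x ^ 2 = 1 := by
        have := pow_card_eq_one' (G := H) (x := ⟨x, hx⟩)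
        rw [hH] at this
        exact congrArg Subtype.val this
      have hfin : Finite K' := Nat.finite_of_card_ne_zero (by rw [hK']; norm_num)
      have hnt : Nontrivial K' := Finite.one_lt_card_iff_nontrivial.mp (by rw [hK']; norm_num)
      obtain ⟨t, ht⟩ := exists_ne (1 : K')
      have ht2 : (t : K) ^ 2 = 1 := by
        have := pow_card_eq_one' (G := K') (x := t)
        rw [hK'] at this
        exact congrArg Subtype.val this
      have := h x t hx1 (fun h' => ht (Subtype.ext h')) hx2 ht2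
      rw [this]; exact t.2
  intro H K' hH hK'
  exact le_antisymm (key H K' hH hK') (key K' H hK' hH)

theorem UI.subgroup {K : Type*} [Group K] (h : UI K) (S : Subgroup K) : UI S :=
  fun s t hs ht hs2 ht2 => Subtype.ext (h s t (fun h' => hs (Subtype.ext h'))
    (fun h' => ht (Subtype.ext h')) (congrArg Subtype.val hs2) (congrArg Subtype.val ht2))

/-- The homomorphism from a (generalized) quaternion group onto a group of order two inside
`Sym(4)`, with kernel the cyclic subgroup of index two. -/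
def quatSign (N : ℕ) : QuaternionGroup N →* Equiv.Perm (Fin 4) where
  toFun q := match q with
    | QuaternionGroup.a _ => 1
    | QuaternionGroup.xa _ => Equiv.swap 0 1
  map_one' := rfl
  map_mul' := by
    rintro (i | i) (j | j) <;> simp

theorem quatSign_eq_one {N : ℕ} {q : QuaternionGroup N} (h : quatSign N q = 1) :
    ∃ i, q = QuaternionGroup.a i := by
  rcases q with i | i
  · exact ⟨i, rfl⟩
  · exfalso
    have h1 : Equiv.swap (0 : Fin 4) 1 = 1 := h
    revert h1
    decide

theorem quat_a_mem_zpowers {N : ℕ} [NeZero N] (i : ZMod (2 * N)) :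
    (QuaternionGroup.a i : QuaternionGroup N) ∈
      Subgroup.zpowers (QuaternionGroup.a 1 : QuaternionGroup N) := by
  have hpow : ∀ k : ℕ, (QuaternionGroup.a 1 : QuaternionGroup N) ^ k
      = QuaternionGroup.a (k : ZMod (2 * N)) := by
    intro k
    induction k with
    | zero => simp
    | succ k ih => rw [pow_succ, ih, QuaternionGroup.a_mul_a]; push_cast; rfl
  have : NeZero (2 * N) := ⟨by have := NeZero.ne N; omega⟩
  rw [Subgroup.mem_zpowers_iff]
  exact ⟨(i.val : ℤ), by rw [zpow_natCast, hpow, ZMod.natCast_zmod_val]⟩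

theorem q8_center : ∀ q : QuaternionGroup 2, (∀ r : QuaternionGroup 2, r * q = q * r) →
    q = 1 ∨ q = QuaternionGroup.a 1 ^ 2 := by
  decide

theorem mem_centralizer_of_conjNormal_eq_one {G : Type*} [Group G] (Q : Subgroup G) [Q.Normal]
    {g : G} (h1 : (MulAut.conjNormal g : MulAut Q) = 1) :
    g ∈ Subgroup.centralizer (Q : Set G) := by
  rw [Subgroup.mem_centralizer_iff]
  intro h hh
  have h2 : ((MulAut.conjNormal g : MulAut Q) ⟨h, hh⟩ : G) = g * h * g⁻¹ :=
    MulAut.conjNormal_apply _ _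
  rw [h1] at h2
  have h3 : h = g * h * g⁻¹ := h2
  calc h * g = g * h * g⁻¹ * g := by rw [← h3]
    _ = g * h := by group

theorem isPGroup_two_of_aut {G : Type*} [Group G] (Q : Subgroup G) [Q.Normal]
    (hQ : IsPGroup 2 Q) (haut : IsPGroup 2 (MulAut Q))
    (hcent : Subgroup.centralizer (Q : Set G) ≤ Q) : IsPGroup 2 G := by
  intro g
  obtain ⟨a, ha⟩ := haut (MulAut.conjNormal g : MulAut Q)
  have hker : g ^ (2 ^ a) ∈ Q := by
    apply hcent
    apply mem_centralizer_of_conjNormal_eq_one Q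
    rw [map_pow, ha]
  obtain ⟨b, hb⟩ := hQ ⟨g ^ 2 ^ a, hker⟩
  refine ⟨a + b, ?_⟩
  rw [pow_add, pow_mul]
  exact congrArg Subtype.val hb

theorem exists_sym4_hom_aux {G : Type u} [Group G] [Finite G] (Y : Subgroup G) [Y.Normal]
    (hUIq : UI (G ⧸ Y)) (Q : Subgroup (G ⧸ Y)) [Q.Normal] (hQ : IsPGroup 2 Q)
    (hcent : Subgroup.centralizer (Q : Set (G ⧸ Y)) ≤ Q) :
    ∃ (f : G →* Equiv.Perm (Fin 4)) (z : G ⧸ Y),
      ∀ g ∈ f.ker, (g : G ⧸ Y) ∈ Subgroup.zpowers z := by
  classical
  have hp2 : Fact (Nat.Prime 2) := ⟨Nat.prime_two⟩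
  by_cases hA : IsPGroup 2 (G ⧸ Y)
  · rcases Cfsg.Agent.S0016.result 2 hA hUIq.uniqueOrderP with hcyc | ⟨-, n, ⟨e⟩⟩
    · obtain ⟨z, hz⟩ := IsCyclic.exists_generator (α := G ⧸ Y)
      exact ⟨1, z, fun g _ => hz _⟩
    · have hne : NeZero (2 ^ n) := ⟨by positivity⟩
      refine ⟨(quatSign (2 ^ n)).comp (e.toMonoidHom.comp (QuotientGroup.mk' Y)),
        e.symm (QuaternionGroup.a 1), ?_⟩
      intro g hg
      have h1 : quatSign (2 ^ n) (e (g : G ⧸ Y)) = 1 := hg
      obtain ⟨i, hi⟩ := quatSign_eq_one h1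
      obtain ⟨k, hk⟩ := Subgroup.mem_zpowers_iff.mp (quat_a_mem_zpowers i)
      rw [Subgroup.mem_zpowers_iff]
      refine ⟨k, ?_⟩
      rw [← map_zpow, hk, ← hi, MulEquiv.symm_apply_apply]
  · have hUQ : UI Q := hUIq.subgroup Q
    rcases Cfsg.Agent.S0016.result 2 hQ hUQ.uniqueOrderP with hcyc | ⟨-, n, ⟨e⟩⟩
    · exact absurd (Cfsg.Agent.Lib.helper60.isPGroup_two_of_cyclic_self_centralizing Q hQ hcyc
        hcent) hA
    · rcases Nat.lt_or_ge n 2 with hn | hn
      · interval_cases n
        · exfalso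
          have e1 : Q ≃* QuaternionGroup 1 := by simpa using e
          have hcyc : IsCyclic Q := by
            have := QuaternionGroup.quaternionGroup_one_isCyclic
            exact isCyclic_of_injective e1.toMonoidHom e1.injective
          exact hA (Cfsg.Agent.Lib.helper60.isPGroup_two_of_cyclic_self_centralizing Q hQ hcyc
            hcent)
        · have e2 : Q ≃* QuaternionGroup 2 := by simpa using e
          obtain ⟨σ⟩ := Cfsg.Agent.S3742.result
          let cj : (G ⧸ Y) →* MulAut Q := MulAut.conjNormal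
          refine ⟨σ.toMonoidHom.comp ((MulAut.congr e2).toMonoidHom.comp
            (cj.comp (QuotientGroup.mk' Y))),
            ((e2.symm (QuaternionGroup.a 1) : Q) : G ⧸ Y), ?_⟩
          intro g hg
          have h1 : σ (MulAut.congr e2 (cj (g : G ⧸ Y))) = 1 := hg
          have h2 : cj (g : G ⧸ Y) = 1 := by
            have h' := σ.injective (h1.trans (map_one σ).symm)
            exact (MulAut.congr e2).injective (h'.trans (map_one _).symm)
          have h3 : (g : G ⧸ Y) ∈ Subgroup.centralizer (Q : Set (G ⧸ Y)) :=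
            mem_centralizer_of_conjNormal_eq_one Q h2
          have h4 : (g : G ⧸ Y) ∈ Q := hcent h3
          have h5 : ∀ r : QuaternionGroup 2,
              r * e2 ⟨(g : G ⧸ Y), h4⟩ = e2 ⟨(g : G ⧸ Y), h4⟩ * r := by
            intro r
            have h6 := (Subgroup.mem_centralizer_iff.mp h3) (e2.symm r : G ⧸ Y) (e2.symm r).2
            have h7 : e2.symm r * ⟨(g : G ⧸ Y), h4⟩ = ⟨(g : G ⧸ Y), h4⟩ * e2.symm r :=
              Subtype.ext h6
            have h8 := congrArg e2 h7
            simpa using h8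
          have h9 : (⟨(g : G ⧸ Y), h4⟩ : Q) = 1 ∨
              (⟨(g : G ⧸ Y), h4⟩ : Q) = (e2.symm (QuaternionGroup.a 1)) ^ 2 := by
            rcases q8_center _ h5 with h | h
            · left
              exact e2.injective (h.trans (map_one e2).symm)
            · right
              apply e2.injective
              rw [h, map_pow, MulEquiv.apply_symm_apply]
          rcases h9 with h | h
          · have : (g : G ⧸ Y) = 1 := congrArg Subtype.val h
            rw [this]
            exact Subgroup.one_mem _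
          · have : (g : G ⧸ Y) = ((e2.symm (QuaternionGroup.a 1) : Q) : G ⧸ Y) ^ 2 :=
              congrArg Subtype.val h
            rw [this]
            exact Subgroup.pow_mem _ (Subgroup.mem_zpowers _) 2
      · exfalso
        have haut : IsPGroup 2 (MulAut (QuaternionGroup (2 ^ n))) :=
          Cfsg.Agent.Lib.helper87.aut_quaternion_isPGroup_two n hn
        have haut' : IsPGroup 2 (MulAut Q) := haut.of_equiv (MulAut.congr e).symm
        exact hA (isPGroup_two_of_aut Q hQ haut' hcent)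

/-- A finite solvable group with at most one involution has a homomorphism to `Sym(4)` whose
kernel has only cyclic `2`-subgroups. -/
theorem exists_sym4_hom {G : Type u} [Group G] [Finite G] (hsol : Group.IsSolvable G)
    (hUI : UI G) :
    ∃ f : G →* Equiv.Perm (Fin 4),
      ∀ S : Subgroup G, S ≤ f.ker → IsPGroup 2 S → IsCyclic S := by
  classical
  have hp2 : Fact (Nat.Prime 2) := ⟨Nat.prime_two⟩
  have hYcop : (Nat.card (Cfsg.pPrimeCore 2 G)).Coprime 2 :=
    Cfsg.Agent.Lib.helper40.pPrimeCore_card_coprime 2 G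
  have hYodd : Odd (Nat.card (Cfsg.pPrimeCore 2 G)) := Nat.Coprime.odd_of_right hYcop
  have hUIq : UI (G ⧸ Cfsg.pPrimeCore 2 G) := hUI.quot _ hYodd
  have hsolq : Group.IsSolvable (G ⧸ Cfsg.pPrimeCore 2 G) := inferInstance
  have hcore : Cfsg.pPrimeCore 2 (G ⧸ Cfsg.pPrimeCore 2 G) = ⊥ :=
    Cfsg.Agent.Lib.helper60.pPrimeCore_quotient_eq_bot 2 G
  have hQ : IsPGroup 2 (Cfsg.pCore 2 (G ⧸ Cfsg.pPrimeCore 2 G)) :=
    Cfsg.Agent.Lib.helper40.pCore_isPGroup 2 _
  have hcent := Cfsg.Agent.Lib.helper60.centralizer_pCore_le (G := G ⧸ Cfsg.pPrimeCore 2 G) 2 hcore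
  obtain ⟨f, z, hfz⟩ := exists_sym4_hom_aux (Cfsg.pPrimeCore 2 G) hUIq
    (Cfsg.pCore 2 (G ⧸ Cfsg.pPrimeCore 2 G)) hQ hcent
  refine ⟨f, ?_⟩
  intro S hS hS2
  let ψ : S →* Subgroup.zpowers z :=
    ((QuotientGroup.mk' (Cfsg.pPrimeCore 2 G)).comp S.subtype).codRestrict _
      (fun s => hfz s (hS s.2))
  have hψ : Function.Injective ψ := by
    rw [injective_iff_map_eq_one]
    intro s hs
    have h1 : ((s : G) : G ⧸ Cfsg.pPrimeCore 2 G) = 1 := congrArg Subtype.val hs
    have h2 : (s : G) ∈ Cfsg.pPrimeCore 2 G := (QuotientGroup.eq_one_iff _).mp h1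
    obtain ⟨k, hk⟩ := hS2 s
    have h3 : orderOf (s : G) ∣ 2 ^ k :=
      orderOf_dvd_of_pow_eq_one (by exact_mod_cast congrArg Subtype.val hk)
    have h4 : orderOf (s : G) ∣ Nat.card (Cfsg.pPrimeCore 2 G) :=
      Subgroup.orderOf_dvd_natCard _ h2
    have h5 : orderOf (s : G) = 1 :=
      Nat.eq_one_of_dvd_coprimes (Nat.Coprime.pow_right k hYcop) h4 h3
    exact Subtype.ext (orderOf_eq_one_iff.mp h5)
  exact isCyclic_of_injective ψ hψ

/-- A `p`-group (`p` odd) embedding into a Frobenius complement is cyclic. -/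
theorem isCyclic_of_frob_odd {L : Type*} [Group L] [Finite L] (H : Subgroup L)
    (hH : Cfsg.IsFrobeniusComplement H) {K : Type*} [Group K] (ψ : K →* H)
    (hψ : Function.Injective ψ) (p : ℕ) [Fact p.Prime] (hK : IsPGroup p K) (hp : p ≠ 2) :
    IsCyclic K := by
  have hr : IsPGroup p ψ.range := hK.of_surjective ψ.rangeRestrict ψ.rangeRestrict_surjective
  obtain ⟨P, hP⟩ := hr.exists_le_sylow
  have hcyc : IsCyclic P := by
    rcases Cfsg.Agent.Lib.helper75.frob_sylow_cyclic_or_quat H hH p P with h | ⟨h, -⟩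
    · exact h
    · exact absurd h hp
  let φ : K →* P := ψ.codRestrict _ (fun k => hP ⟨k, rfl⟩)
  have hφ : Function.Injective φ := by
    intro a b hab
    apply hψ
    exact congrArg Subtype.val hab
  exact isCyclic_of_injective φ hφ

end Cfsg.Agent.Lib.helper62.FrobSolv
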