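import Mathlib

set_option autoImplicit false

namespace Cfsg.Agent.Lib.helper62

universe u

/-- Schur's lemma in field form: a commuting set `S` of endomorphisms of a finite abelian group
`V` acting irreducibly generates a finite field `K` inside `End V`, and `V` is a
one-dimensional `K`-space (evaluation at a nonzero vector is bijective). -/
theorem exists_field_of_irreducible {V : Type u} [AddCommGroup V] [Finite V] [Nontrivial V]
    (S : Set (AddMonoid.End V)) (hcomm : ∀ a ∈ S, ∀ b ∈ S, a * b = b * a)
    (hirr : ∀ W : AddSubgroup V, (∀ s ∈ S, ∀ w ∈ W, s w ∈ W) → W = ⊥ ∨ W = ⊤) :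
    ∃ (K : Type u) (_ : Field K) (_ : Finite K) (ι : K →+* AddMonoid.End V),
      Function.Injective ι ∧ (∀ φ, φ ∈ Subring.closure S ↔ φ ∈ Set.range ι) ∧
      ∀ v : V, v ≠ 0 → Function.Bijective (fun k : K => ι k v) := by
  classical
  have hcen : ∀ φ ∈ Subring.closure S, ∀ s ∈ S, s * φ = φ * s := by
    intro φ hφ
    have h1 : Subring.closure S ≤ Subring.centralizer S :=
      Subring.closure_le.mpr (fun a ha => Subring.mem_centralizer_iff.mpr
        (fun b hb => hcomm b hb a ha))
    exact Subring.mem_centralizer_iff.mp (h1 hφ)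
  have hinj : ∀ φ ∈ Subring.closure S, φ ≠ 0 → Function.Injective φ := by
    intro φ hφ hφ0
    let φ' : V →+ V := φ
    have hW := hirr (AddMonoidHom.ker φ') (by
      intro s hs w hw
      rw [AddMonoidHom.mem_ker] at hw ⊢
      have h1 : φ (s w) = s (φ w) := (DFunLike.congr_fun (hcen φ hφ s hs) w).symm
      change φ (s w) = 0
      have hw' : φ w = 0 := hw
      rw [h1, hw', map_zero])
    rcases hW with h | h
    · exact (AddMonoidHom.ker_eq_bot_iff φ').mp h
    · exfalso
      apply hφ0
      apply AddMonoidHom.ext
      intro v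
      have h2 : v ∈ AddMonoidHom.ker φ' := by rw [h]; trivial
      exact h2
  letI : CommRing (Subring.closure S) := Subring.closureCommRingOfComm hcomm
  haveI : Finite (AddMonoid.End V) :=
    Finite.of_injective (fun f : AddMonoid.End V => (f : V → V)) DFunLike.coe_injective
  haveI : Finite (Subring.closure S) := inferInstance
  obtain ⟨v₀, hv₀⟩ := exists_ne (0 : V)
  haveI : Nontrivial (Subring.closure S) := by
    refine ⟨⟨0, 1, fun h => hv₀ ?_⟩⟩
    have h1 : ((0 : Subring.closure S) : AddMonoid.End V) v₀ = ((1 : Subring.closure S) : AddMonoid.End V) v₀ := by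
      rw [h]
    exact h1.symm
  haveI : NoZeroDivisors (Subring.closure S) := by
    refine ⟨fun {a b} hab => ?_⟩
    by_cases ha : a = 0
    · exact Or.inl ha
    · right
      have ha' : (a : AddMonoid.End V) ≠ 0 := fun h => ha (Subtype.ext h)
      have hai := hinj a a.2 ha'
      apply Subtype.ext
      apply AddMonoidHom.ext
      intro v
      have h1 : (a : AddMonoid.End V) ((b : AddMonoid.End V) v) = 0 := by
        have h2 : ((a * b : Subring.closure S) : AddMonoid.End V) = 0 := by rw [hab]; rfl
        exact DFunLike.congr_fun h2 v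
      have h3 : (b : AddMonoid.End V) v = 0 :=
        hai (h1.trans (map_zero (a : AddMonoid.End V)).symm)
      exact h3
  haveI : IsDomain (Subring.closure S) := NoZeroDivisors.to_isDomain (Subring.closure S)
  haveI := Fintype.ofFinite (Subring.closure S)
  letI : Field (Subring.closure S) := Fintype.fieldOfDomain _
  refine ⟨Subring.closure S, inferInstance, inferInstance, (Subring.closure S).subtype,
    Subtype.val_injective, ?_, ?_⟩
  · intro φ
    constructor
    · intro h
      exact ⟨⟨φ, h⟩, rfl⟩
    · rintro ⟨k, rfl⟩
      exact k.2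
  · intro v hv
    constructor
    · intro k k' hkk
      by_contra hne
      have h1 : ((k - k' : Subring.closure S) : AddMonoid.End V) ≠ 0 := by
        intro h
        apply hne
        have h2 : k - k' = 0 := Subtype.ext h
        exact sub_eq_zero.mp h2
      have h2 := hinj _ (k - k').2 h1
      apply hv
      apply h2
      have h3 : (k : AddMonoid.End V) v = (k' : AddMonoid.End V) v := hkk
      rw [map_zero]
      have h4 : ((k : AddMonoid.End V) - (k' : AddMonoid.End V)) v
          = (k : AddMonoid.End V) v - (k' : AddMonoid.End V) v := rfl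
      change ((k : AddMonoid.End V) - (k' : AddMonoid.End V)) v = 0
      rw [h4, h3, sub_self]
    · let W : AddSubgroup V :=
        { carrier := {w | ∃ k ∈ Subring.closure S, k v = w}
          add_mem' := by
            rintro _ _ ⟨k, hk, rfl⟩ ⟨k', hk', rfl⟩
            exact ⟨k + k', Subring.add_mem _ hk hk', rfl⟩
          zero_mem' := ⟨0, Subring.zero_mem _, rfl⟩
          neg_mem' := by
            rintro _ ⟨k, hk, rfl⟩
            exact ⟨-k, Subring.neg_mem _ hk, rfl⟩ }
      have hW := hirr W (by
        rintro s hs _ ⟨k, hk, rfl⟩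
        exact ⟨s * k, Subring.mul_mem _ (Subring.subset_closure hs) hk, rfl⟩)
      have hvW : v ∈ W := ⟨1, Subring.one_mem _, rfl⟩
      rcases hW with h | h
      · rw [h, AddSubgroup.mem_bot] at hvW
        exact absurd hvW hv
      · intro w
        have hw : w ∈ W := by rw [h]; trivial
        obtain ⟨k, hk, rfl⟩ := hw
        exact ⟨⟨k, hk⟩, rfl⟩

end Cfsg.Agent.Lib.helper62
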