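import Mathlib
import Cfsg.Agent.Lib.helper62.IrredField

set_option autoImplicit false

namespace Cfsg.Agent.Lib.helper62

universe u

/-- Schur: a finite commutative group acting faithfully and irreducibly on a finite abelian
group is cyclic. -/
theorem isCyclic_of_irreducible_comm {V : Type u} [AddCommGroup V] [Finite V] [Nontrivial V]
    {M : Type*} [Group M] [Finite M] (ρ : M →* AddMonoid.End V) (hρ : Function.Injective ρ)
    (hcomm : ∀ a b : M, a * b = b * a)
    (hirr : ∀ W : AddSubgroup V, (∀ m : M, ∀ w ∈ W, ρ m w ∈ W) → W = ⊥ ∨ W = ⊤) :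
    IsCyclic M := by
  obtain ⟨K, _, _, ι, hι, hrange, _⟩ := exists_field_of_irreducible (Set.range ρ)
    (by
      rintro _ ⟨a, rfl⟩ _ ⟨b, rfl⟩
      rw [← map_mul, ← map_mul, hcomm])
    (fun W hW => hirr W (fun m w hw => hW (ρ m) ⟨m, rfl⟩ w hw))
  have hex : ∀ m : M, ∃ k : K, ι k = ρ m := fun m =>
    (hrange (ρ m)).mp (Subring.subset_closure ⟨m, rfl⟩)
  choose f hf using hex
  let F : M →* K :=
    { toFun := f
      map_one' := hι (by rw [hf, map_one, map_one])
      map_mul' := fun a b => hι (by rw [hf, map_mul, map_mul, hf, hf]) }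
  have hF : Function.Injective F := by
    intro a b hab
    apply hρ
    rw [← hf a, ← hf b]
    exact congrArg ι hab
  exact isCyclic_of_injective_ringHom F hF

/-- If `γ` acts irreducibly on an elementary abelian group of order `p ^ d` and
`γ ^ (p ^ i) = γ` with `i > 0`, then `d ≤ i`. -/
theorem le_of_pow_eq_self {V : Type u} [AddCommGroup V] [Finite V] (p d : ℕ) (hp : p.Prime)
    (hcard : Nat.card V = p ^ d) (hexp : ∀ v : V, p • v = 0) (γ : AddMonoid.End V)
    (hirr : ∀ W : AddSubgroup V, (∀ w ∈ W, γ w ∈ W) → W = ⊥ ∨ W = ⊤) (i : ℕ) (hi : 0 < i)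
    (hγ : γ ^ (p ^ i) = γ) : d ≤ i := by
  classical
  by_cases hd : d = 0
  · omega
  haveI : Nontrivial V := by
    have h1 : 1 < Nat.card V := by
      rw [hcard]
      exact Nat.one_lt_pow hd hp.one_lt
    exact Finite.one_lt_card_iff_nontrivial.mp h1
  obtain ⟨K, _, _, ι, hι, hrange, hbij⟩ :=
    exists_field_of_irreducible ({γ} : Set (AddMonoid.End V))
      (by
        intro a ha b hb
        rw [Set.mem_singleton_iff] at ha hb
        rw [ha, hb])
      (fun W hW => hirr W (fun w hw => hW γ (Set.mem_singleton γ) w hw))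
  obtain ⟨v, hv⟩ := exists_ne (0 : V)
  have hcardK : Nat.card K = p ^ d := by
    rw [← hcard]
    exact Nat.card_congr (Equiv.ofBijective _ (hbij v hv))
  haveI : Fact p.Prime := ⟨hp⟩
  haveI : CharP K p := by
    rw [CharP.charP_iff_prime_eq_zero hp]
    apply hι
    rw [map_natCast, map_zero]
    apply AddMonoidHom.ext
    intro w
    exact hexp w
  obtain ⟨g₀, hg₀⟩ := (hrange γ).mp (Subring.subset_closure (Set.mem_singleton γ))
  have hfix : ∀ x : K, x ^ (p ^ i) = x := by
    let K₀ : Subring K := RingHom.eqLocus (iterateFrobenius K p i) (RingHom.id K)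
    have hg₀K : g₀ ∈ K₀ := by
      change iterateFrobenius K p i g₀ = g₀
      rw [iterateFrobenius_def]
      apply hι
      rw [map_pow, hg₀, hγ]
    have hle : Subring.closure ({γ} : Set (AddMonoid.End V)) ≤ K₀.map ι := by
      rw [Subring.closure_le]
      rintro _ rfl
      exact ⟨g₀, hg₀K, hg₀⟩
    intro x
    have h1 : ι x ∈ K₀.map ι := hle ((hrange (ι x)).mpr ⟨x, rfl⟩)
    obtain ⟨y, hy, hyx⟩ := h1
    have h2 : y = x := hι hyx
    rw [← h2]
    have h3 : iterateFrobenius K p i y = y := hy
    rw [iterateFrobenius_def] at h3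
    exact h3
  haveI := Fintype.ofFinite K
  have hle : Fintype.card K ≤ p ^ i := by
    have hne : (Polynomial.X ^ p ^ i - Polynomial.X : Polynomial K) ≠ 0 :=
      FiniteField.X_pow_card_pow_sub_X_ne_zero K (by omega) hp.one_lt
    have hdeg : (Polynomial.X ^ p ^ i - Polynomial.X : Polynomial K).natDegree = p ^ i :=
      FiniteField.X_pow_card_pow_sub_X_natDegree_eq K (by omega) hp.one_lt
    have hsub : (Finset.univ : Finset K).val ⊆
        (Polynomial.X ^ p ^ i - Polynomial.X : Polynomial K).roots := by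
      intro x _
      rw [Polynomial.mem_roots hne, Polynomial.IsRoot.def]
      simp [hfix x]
    have h4 := Polynomial.card_le_degree_of_subset_roots hsub
    rw [hdeg] at h4
    simpa using h4
  rw [← Nat.card_eq_fintype_card, hcardK] at hle
  exact (Nat.pow_le_pow_iff_right hp.one_lt).mp hle

/-- A finite group of automorphisms of a field with `p ^ d` elements has order dividing `d`. -/
theorem card_ringAut_subgroup_dvd {K : Type*} [Field K] [Finite K] (p d : ℕ) (hp : p.Prime)
    (hK : Nat.card K = p ^ d) (J : Subgroup (RingAut K)) : Nat.card J ∣ d := by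
  classical
  haveI := Fintype.ofFinite K
  haveI : Finite (RingAut K) :=
    Finite.of_injective (fun f : RingAut K => (f : K → K)) DFunLike.coe_injective
  haveI := Fintype.ofFinite J
  have h1 := FixedPoints.finrank_eq_card J K
  have h2 := Module.natCard_eq_pow_finrank (K := FixedPoints.subfield J K) (V := K)
  rw [h1, hK] at h2
  have hJpos : 0 < Fintype.card J := Fintype.card_pos
  have h3 : Nat.card (FixedPoints.subfield J K) ∣ p ^ d := by
    rw [h2]
    exact dvd_pow_self _ hJpos.ne'
  obtain ⟨e, he, hce⟩ := (Nat.dvd_prime_pow hp).mp h3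
  rw [hce, ← pow_mul] at h2
  have h4 : d = e * Fintype.card J := Nat.pow_right_injective hp.two_le h2
  rw [Nat.card_eq_fintype_card]
  exact Dvd.intro_left e h4.symm

/-- Conjugation by an invertible element is multiplicative. -/
theorem conj_mul_conj {E : Type*} [Ring E] (u v a b : E) (hvu : v * u = 1) :
    u * (a * b) * v = (u * a * v) * (u * b * v) := by
  have h1 : u * a * v * (u * b * v) = u * a * (v * u) * b * v := by simp only [mul_assoc]
  rw [h1, hvu, mul_one]
  simp only [mul_assoc]

/-- Conjugation by an invertible element as a ring endomorphism. -/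
def conjRingHom {E : Type*} [Ring E] (u v : E) (hvu : v * u = 1) (huv : u * v = 1) : E →+* E where
  toFun φ := u * φ * v
  map_one' := by rw [mul_one, huv]
  map_mul' a b := conj_mul_conj u v a b hvu
  map_zero' := by rw [mul_zero, zero_mul]
  map_add' a b := by rw [mul_add, add_mul]

theorem conjRingHom_apply {E : Type*} [Ring E] (u v : E) (hvu : v * u = 1) (huv : u * v = 1)
    (φ : E) : conjRingHom u v hvu huv φ = u * φ * v := rfl

/-- Let `γ` act irreducibly on an elementary abelian group `V` of order `p ^ d`, and let a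
finite group `Γ` act on `V` normalizing `⟨γ⟩`. Then the centralizer of `γ` in `Γ` has index
dividing `d`. -/
theorem exists_index_dvd_of_normalizes {V : Type u} [AddCommGroup V] [Finite V] [Nontrivial V]
    (p d : ℕ) (hp : p.Prime) (hcard : Nat.card V = p ^ d) (γ : AddMonoid.End V)
    (hirr : ∀ W : AddSubgroup V, (∀ w ∈ W, γ w ∈ W) → W = ⊥ ∨ W = ⊤)
    {Γ : Type*} [Group Γ] [Finite Γ] (ρ : Γ →* AddMonoid.End V)
    (hnorm : ∀ g : Γ, ∃ j : ℕ, ρ g * γ = γ ^ j * ρ g) :
    ∃ Z : Subgroup Γ, (∀ g, g ∈ Z ↔ ρ g * γ = γ * ρ g) ∧ Z.index ∣ d := by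
  classical
  obtain ⟨K, _, _, ι, hι, hrange, hbij⟩ :=
    exists_field_of_irreducible ({γ} : Set (AddMonoid.End V))
      (by
        intro a ha b hb
        rw [Set.mem_singleton_iff] at ha hb
        rw [ha, hb])
      (fun W hW => hirr W (fun w hw => hW γ (Set.mem_singleton γ) w hw))
  obtain ⟨v, hv⟩ := exists_ne (0 : V)
  have hcardK : Nat.card K = p ^ d := by
    rw [← hcard]
    exact Nat.card_congr (Equiv.ofBijective _ (hbij v hv))
  have hinv : ∀ g : Γ, ρ g * ρ g⁻¹ = 1 := fun g => by rw [← map_mul, mul_inv_cancel, map_one]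
  have hinv' : ∀ g : Γ, ρ g⁻¹ * ρ g = 1 := fun g => by rw [← map_mul, inv_mul_cancel, map_one]
  have hc_mem : ∀ g : Γ, ∀ φ ∈ Subring.closure ({γ} : Set (AddMonoid.End V)),
      ρ g * φ * ρ g⁻¹ ∈ Subring.closure ({γ} : Set (AddMonoid.End V)) := by
    intro g
    have h1 : Subring.closure ({γ} : Set (AddMonoid.End V))
        ≤ (Subring.closure ({γ} : Set (AddMonoid.End V))).comap
          (conjRingHom (ρ g) (ρ g⁻¹) (hinv' g) (hinv g)) := by
      rw [Subring.closure_le]
      intro x hx
      rw [Set.mem_singleton_iff] at hx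
      rw [hx, SetLike.mem_coe, Subring.mem_comap, conjRingHom_apply]
      obtain ⟨j, hj⟩ := hnorm g
      rw [hj, mul_assoc, hinv, mul_one]
      exact pow_mem (Subring.subset_closure (Set.mem_singleton γ)) j
    intro φ hφ
    have h2 := h1 hφ
    rw [Subring.mem_comap, conjRingHom_apply] at h2
    exact h2
  have hex : ∀ g : Γ, ∀ x : K, ∃ y : K, ι y = ρ g * ι x * ρ g⁻¹ := fun g x =>
    (hrange _).mp (hc_mem g _ ((hrange _).mpr ⟨x, rfl⟩))
  choose f hf using hex
  have f_one : ∀ x, f 1 x = x := fun x =>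
    hι (by rw [hf, inv_one, map_one, one_mul, mul_one])
  have f_mul : ∀ g g' x, f (g * g') x = f g (f g' x) := fun g g' x =>
    hι (by
      rw [hf, hf, hf, map_mul, mul_inv_rev, map_mul]
      simp only [mul_assoc])
  have f_add : ∀ g x y, f g (x + y) = f g x + f g y := fun g x y =>
    hι (by rw [hf, map_add, map_add, hf, hf, mul_add, add_mul])
  have f_mulx : ∀ g x y, f g (x * y) = f g x * f g y := fun g x y =>
    hι (by
      rw [hf, map_mul, map_mul, hf, hf]
      exact conj_mul_conj (ρ g) (ρ g⁻¹) (ι x) (ι y) (hinv' g))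
  let σ : Γ → RingAut K := fun g =>
    { toFun := f g
      invFun := f g⁻¹
      left_inv := fun x => by rw [← f_mul, inv_mul_cancel, f_one]
      right_inv := fun x => by rw [← f_mul, mul_inv_cancel, f_one]
      map_mul' := f_mulx g
      map_add' := f_add g }
  let θ : Γ →* RingAut K :=
    { toFun := σ
      map_one' := RingEquiv.ext (fun x => f_one x)
      map_mul' := fun g g' => RingEquiv.ext (fun x => f_mul g g' x) }
  refine ⟨θ.ker, ?_, ?_⟩
  · intro g
    rw [MonoidHom.mem_ker]
    constructor
    · intro h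
      obtain ⟨g₀, hg₀⟩ := (hrange γ).mp (Subring.subset_closure (Set.mem_singleton γ))
      have h1 : f g g₀ = g₀ := RingEquiv.congr_fun h g₀
      have h2 := hf g g₀
      rw [h1, hg₀] at h2
      calc ρ g * γ = ρ g * γ * (ρ g⁻¹ * ρ g) := by rw [hinv', mul_one]
        _ = (ρ g * γ * ρ g⁻¹) * ρ g := by simp only [mul_assoc]
        _ = γ * ρ g := by rw [← h2]
    · intro h
      apply RingEquiv.ext
      intro x
      change f g x = x
      apply hι
      rw [hf]
      have h1 : Subring.closure ({γ} : Set (AddMonoid.End V))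
          ≤ Subring.centralizer ({ρ g} : Set (AddMonoid.End V)) := by
        rw [Subring.closure_le]
        rintro _ rfl
        rw [SetLike.mem_coe, Subring.mem_centralizer_iff]
        rintro _ rfl
        exact h
      have h2 := Subring.mem_centralizer_iff.mp (h1 ((hrange (ι x)).mpr ⟨x, rfl⟩)) (ρ g) rfl
      rw [h2, mul_assoc, hinv, mul_one]
  · rw [Subgroup.index_ker]
    exact card_ringAut_subgroup_dvd p d hp hcardK θ.range

end Cfsg.Agent.Lib.helper62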