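import Mathlib

set_option autoImplicit false

/-!
# Coset representatives of a class-two group are independent over its centralizer algebra

`N` acts on `V` through `R : G →* End V`, `M ≤ Z(N)` acts semiregularly on `V ∖ 0`, `[N,N] ≤ M` and
`Z(N) ≤ M`.  Then representatives of distinct cosets of `M` in `N` are linearly independent over
the centralizer of `N` in `End V`.
-/

namespace Cfsg.Agent.Lib.helper62.Hup

variable {q : ℕ} [Fact q.Prime] {V : Type*} [AddCommGroup V] [Module (ZMod q) V] [Finite V]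
  {G : Type*} [Group G]

theorem coset_indep (R : G →* Module.End (ZMod q) V) (M N : Subgroup G) (hMN : M ≤ N)
    (hfree : ∀ a ∈ M, ∀ v : V, v ≠ 0 → R a v = v → a = 1)
    (hcent : ∀ g ∈ N, ∀ z ∈ M, g * z = z * g)
    (hcomm : ∀ g ∈ N, ∀ h ∈ N, g * h * g⁻¹ * h⁻¹ ∈ M)
    (hZ : ∀ g ∈ N, (∀ h ∈ N, g * h = h * g) → g ∈ M) :
    ∀ (n : ℕ) (S : Finset G), S.card = n → (∀ g ∈ S, g ∈ N) →
      (∀ g ∈ S, ∀ g' ∈ S, g⁻¹ * g' ∈ M → g = g') →
      ∀ c : G → Module.End (ZMod q) V, (∀ g ∈ S, ∀ h ∈ N, c g * R h = R h * c g) →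
      ∑ g ∈ S, c g * R g = 0 → ∀ g ∈ S, c g = 0 := by
  classical
  intro n
  induction n with
  | zero =>
    intro S hS _ _ c _ _ g hg
    rw [Finset.card_eq_zero.mp hS] at hg
    simp at hg
  | succ n ih =>
    intro S hScard hSN hS c hc hsum
    obtain ⟨g₁, hg₁⟩ : S.Nonempty := by
      rw [← Finset.card_pos]; omega
    have hRinv : ∀ g : G, R g * R g⁻¹ = 1 := fun g => by rw [← map_mul, mul_inv_cancel, map_one]
    have hRinv' : ∀ g : G, R g⁻¹ * R g = 1 := fun g => by rw [← map_mul, inv_mul_cancel, map_one]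
    have hRM : ∀ z ∈ M, ∀ h ∈ N, R z * R h = R h * R z := by
      intro z hz h hh
      rw [← map_mul, ← map_mul, hcent h hh z hz]
    have key : ∀ g ∈ S, g ≠ g₁ → c g = 0 := by
      intro g hg hne
      have hex : ∃ h ∈ N, h * g * h⁻¹ * g⁻¹ ≠ h * g₁ * h⁻¹ * g₁⁻¹ := by
        by_contra hcon
        push Not at hcon
        apply hne
        have h1 : g₁⁻¹ * g ∈ M := by
          apply hZ _ (N.mul_mem (N.inv_mem (hSN _ hg₁)) (hSN _ hg))
          intro h hh
          have h2 := hcon h⁻¹ (N.inv_mem hh)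
          rw [inv_inv] at h2
          have h3 : g * h * g⁻¹ = g₁ * h * g₁⁻¹ := by
            have : g * h * g⁻¹ = h * (h⁻¹ * g * h * g⁻¹) := by group
            rw [this, h2]; group
          calc g₁⁻¹ * g * h = g₁⁻¹ * (g * h * g⁻¹) * g := by group
            _ = g₁⁻¹ * (g₁ * h * g₁⁻¹) * g := by rw [h3]
            _ = h * (g₁⁻¹ * g) := by group
        exact (hS g₁ hg₁ g hg h1).symm
      obtain ⟨h, hh, hne2⟩ := hex
      have hm₁M : h * g₁ * h⁻¹ * g₁⁻¹ ∈ M := hcomm h hh g₁ (hSN _ hg₁)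
      have hmM : ∀ s ∈ S, h * s * h⁻¹ * s⁻¹ ∈ M := fun s hs => hcomm h hh s (hSN _ hs)
      have hconj : ∑ s ∈ S, c s * R (h * s * h⁻¹ * s⁻¹) * R s = 0 := by
        have h1 : R h * (∑ s ∈ S, c s * R s) * R h⁻¹ = 0 := by rw [hsum]; simp
        rw [Finset.mul_sum, Finset.sum_mul] at h1
        rw [← h1]
        apply Finset.sum_congr rfl
        intro s hs
        have h2 : R (h * s * h⁻¹ * s⁻¹) * R s = R h * R s * R h⁻¹ := by
          rw [← map_mul, ← map_mul, ← map_mul]
          congr 1; group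
        rw [mul_assoc (c s), h2, ← mul_assoc, ← mul_assoc, ← mul_assoc, hc s hs h hh]
      have hmul : ∑ s ∈ S, c s * R (h * g₁ * h⁻¹ * g₁⁻¹) * R s = 0 := by
        have h1 : R (h * g₁ * h⁻¹ * g₁⁻¹) * (∑ s ∈ S, c s * R s) = 0 := by rw [hsum, mul_zero]
        rw [Finset.mul_sum] at h1
        rw [← h1]
        apply Finset.sum_congr rfl
        intro s hs
        rw [← mul_assoc, hc s hs _ (hMN hm₁M)]
      have hsub : ∑ s ∈ S.erase g₁,
          (c s * (R (h * s * h⁻¹ * s⁻¹) - R (h * g₁ * h⁻¹ * g₁⁻¹))) * R s = 0 := by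
        have h1 : ∑ s ∈ S, (c s * (R (h * s * h⁻¹ * s⁻¹) - R (h * g₁ * h⁻¹ * g₁⁻¹))) * R s = 0 := by
          simp only [mul_sub, sub_mul]
          rw [Finset.sum_sub_distrib, hconj, hmul, sub_zero]
        rw [← Finset.add_sum_erase S _ hg₁] at h1
        simpa using h1
      have h4 := ih (S.erase g₁) (by rw [Finset.card_erase_of_mem hg₁, hScard]; rfl)
        (fun s hs => hSN s (Finset.mem_of_mem_erase hs))
        (fun s hs s' hs' => hS s (Finset.mem_of_mem_erase hs) s' (Finset.mem_of_mem_erase hs'))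
        (fun s => c s * (R (h * s * h⁻¹ * s⁻¹) - R (h * g₁ * h⁻¹ * g₁⁻¹)))
        (by
          intro s hs h' hh'
          have hs' := Finset.mem_of_mem_erase hs
          rw [mul_assoc, sub_mul, hRM _ (hmM s hs') h' hh', hRM _ hm₁M h' hh', ← mul_sub,
            ← mul_assoc, hc s hs' h' hh', mul_assoc])
        hsub g (Finset.mem_erase.mpr ⟨hne, hg⟩)
      -- `R m - R m₁` is bijective
      have hinj : Function.Injective
          (R (h * g * h⁻¹ * g⁻¹) - R (h * g₁ * h⁻¹ * g₁⁻¹) : Module.End (ZMod q) V) := by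
        rw [← LinearMap.ker_eq_bot, LinearMap.ker_eq_bot']
        intro v hv
        by_contra hv0
        rw [LinearMap.sub_apply, sub_eq_zero] at hv
        have h5 : R ((h * g₁ * h⁻¹ * g₁⁻¹)⁻¹ * (h * g * h⁻¹ * g⁻¹)) v = v := by
          rw [map_mul, Module.End.mul_apply, hv, ← Module.End.mul_apply, hRinv', Module.End.one_apply]
        have h6 := hfree _ (M.mul_mem (M.inv_mem hm₁M) (hmM g hg)) v hv0 h5
        exact hne2 (inv_mul_eq_one.mp h6).symm
      have hsurj : Function.Surjective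
          (R (h * g * h⁻¹ * g⁻¹) - R (h * g₁ * h⁻¹ * g₁⁻¹) : Module.End (ZMod q) V) :=
        Finite.injective_iff_surjective.mp hinj
      apply LinearMap.ext
      intro v
      obtain ⟨w, rfl⟩ := hsurj v
      have h7 := congrArg (fun T : Module.End (ZMod q) V => T w) h4
      simpa using h7
    intro g hg
    by_cases hgg : g = g₁
    · subst hgg
      have h1 : ∑ s ∈ S, c s * R s = c g * R g := by
        apply Finset.sum_eq_single_of_mem g hg
        intro s hs hne
        rw [key s hs hne, zero_mul]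
      rw [h1] at hsum
      have h2 : c g * R g * R g⁻¹ = 0 := by rw [hsum, zero_mul]
      rwa [mul_assoc, hRinv, mul_one] at h2
    · exact key g hg hgg

end Cfsg.Agent.Lib.helper62.Hup
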