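import Mathlib
import Cfsg.Agent.Lib.helper62.HupIndep

set_option autoImplicit false

/-!
# Consequences of the independence of coset representatives

With `k = |N : M|` and `n = dim V`: `|C|^k ≤ |End V|` for the centralizer algebra `C` of `N`;
hence `k ≤ n²`; and if `k = n²` then `C` consists of scalars and every element normalising `N` and
acting trivially on `N / M` is inner modulo the centralizer of `N`.
-/

namespace Cfsg.Agent.Lib.helper62.Hup

theorem exists_transversal {G : Type*} [Group G] [Finite G] (M N : Subgroup G) (hMN : M ≤ N)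
    (k : ℕ) (hk : Nat.card N = Nat.card M * k) :
    ∃ S : Finset G, S.card = k ∧ (∀ g ∈ S, g ∈ N) ∧
      (∀ g ∈ S, ∀ g' ∈ S, g⁻¹ * g' ∈ M → g = g') := by
  classical
  have : Fintype (N ⧸ M.subgroupOf N) := Fintype.ofFinite _
  let f : N ⧸ M.subgroupOf N → G := fun x => ((Quotient.out x : N) : G)
  have hf : Function.Injective f := by
    intro x y hxy
    have h1 : (Quotient.out x : N) = Quotient.out y := Subtype.ext hxy
    have h2 := congrArg (fun z : N => (QuotientGroup.mk z : N ⧸ M.subgroupOf N)) h1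
    simpa using h2
  refine ⟨Finset.univ.image f, ?_, ?_, ?_⟩
  · rw [Finset.card_image_of_injective _ hf, Finset.card_univ, ← Nat.card_eq_fintype_card]
    have h1 : Nat.card (M.subgroupOf N) * (M.subgroupOf N).index = Nat.card N :=
      Subgroup.card_mul_index _
    have h2 : Nat.card (M.subgroupOf N) = Nat.card M :=
      Nat.card_congr (Subgroup.subgroupOfEquivOfLe hMN).toEquiv
    rw [h2, hk] at h1
    have h3 : 0 < Nat.card M := Nat.card_pos
    exact Nat.eq_of_mul_eq_mul_left h3 h1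
  · intro g hg
    obtain ⟨x, -, rfl⟩ := Finset.mem_image.mp hg
    exact (Quotient.out x : N).2
  · intro g hg g' hg' hgg
    obtain ⟨x, -, rfl⟩ := Finset.mem_image.mp hg
    obtain ⟨y, -, rfl⟩ := Finset.mem_image.mp hg'
    have h1 : (Quotient.out x : N)⁻¹ * Quotient.out y ∈ M.subgroupOf N := by
      rw [Subgroup.mem_subgroupOf]
      exact hgg
    have h2 : (QuotientGroup.mk (Quotient.out x : N) : N ⧸ M.subgroupOf N) =
        QuotientGroup.mk (Quotient.out y : N) := QuotientGroup.eq.mpr h1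
    have h3 : x = y := by simpa using h2
    rw [h3]

variable {q : ℕ} [Fact q.Prime] {V : Type*} [AddCommGroup V] [Module (ZMod q) V] [Finite V]
  {G : Type*} [Group G] [Finite G]

theorem card_centralizer_pow_le (R : G →* Module.End (ZMod q) V) (M N : Subgroup G) (hMN : M ≤ N)
    (hfree : ∀ a ∈ M, ∀ v : V, v ≠ 0 → R a v = v → a = 1)
    (hcent : ∀ g ∈ N, ∀ z ∈ M, g * z = z * g)
    (hcomm : ∀ g ∈ N, ∀ h ∈ N, g * h * g⁻¹ * h⁻¹ ∈ M)
    (hZ : ∀ g ∈ N, (∀ h ∈ N, g * h = h * g) → g ∈ M)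
    (k : ℕ) (hk : Nat.card N = Nat.card M * k) :
    Nat.card {c : Module.End (ZMod q) V // ∀ h ∈ N, c * R h = R h * c} ^ k ≤
      Nat.card (Module.End (ZMod q) V) := by
  classical
  obtain ⟨S, hScard, hSN, hS⟩ := exists_transversal M N hMN k hk
  have hfinE : Finite (Module.End (ZMod q) V) :=
    Finite.of_injective (fun e : Module.End (ZMod q) V => (e : V → V)) DFunLike.coe_injective
  let Φ : (S → {c : Module.End (ZMod q) V // ∀ h ∈ N, c * R h = R h * c}) →
      Module.End (ZMod q) V := fun f => ∑ s ∈ S.attach, (f s).1 * R s.1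
  have hΦ : Function.Injective Φ := by
    intro f f' hff
    let c : G → Module.End (ZMod q) V := fun g =>
      if hg : g ∈ S then (f ⟨g, hg⟩).1 - (f' ⟨g, hg⟩).1 else 0
    have hc : ∀ g ∈ S, ∀ h ∈ N, c g * R h = R h * c g := by
      intro g hg h hh
      simp only [c, dif_pos hg]
      rw [sub_mul, mul_sub, (f ⟨g, hg⟩).2 h hh, (f' ⟨g, hg⟩).2 h hh]
    have hsum : ∑ g ∈ S, c g * R g = 0 := by
      rw [← Finset.sum_attach]
      have h1 : ∀ s ∈ S.attach, c s.1 * R s.1 = (f s).1 * R s.1 - (f' s).1 * R s.1 := by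
        intro s _
        simp only [c, dif_pos s.2, sub_mul]
      rw [Finset.sum_congr rfl h1, Finset.sum_sub_distrib]
      exact sub_eq_zero.mpr hff
    have h2 := coset_indep R M N hMN hfree hcent hcomm hZ S.card S rfl hSN hS c hc hsum
    funext s
    apply Subtype.ext
    have h3 := h2 s.1 s.2
    simp only [c, dif_pos s.2] at h3
    exact sub_eq_zero.mp h3
  have h1 := Nat.card_le_card_of_injective Φ hΦ
  rw [Nat.card_fun, Nat.card_eq_fintype_card (α := S), Fintype.card_coe, hScard] at h1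
  exact h1

theorem card_end : Nat.card (Module.End (ZMod q) V) =
    q ^ (Module.finrank (ZMod q) V * Module.finrank (ZMod q) V) := by
  have hfin : Module.Finite (ZMod q) V := Module.Finite.of_finite
  have hfinE : Finite (Module.End (ZMod q) V) :=
    Finite.of_injective (fun e : Module.End (ZMod q) V => (e : V → V)) DFunLike.coe_injective
  rw [Module.natCard_eq_pow_finrank (K := ZMod q) (V := Module.End (ZMod q) V), Nat.card_zmod,
    Module.finrank_linearMap]

theorem scalar_injective [Nontrivial V] :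
    Function.Injective (fun a : ZMod q => (a • (1 : Module.End (ZMod q) V))) := by
  intro a b hab
  obtain ⟨v, hv⟩ := exists_ne (0 : V)
  have h1 := congrArg (fun T : Module.End (ZMod q) V => T v) hab
  simp only [LinearMap.smul_apply, Module.End.one_apply] at h1
  have h2 : (a - b) • v = 0 := by rw [sub_smul, h1, sub_self]
  rcases smul_eq_zero.mp h2 with h | h
  · exact sub_eq_zero.mp h
  · exact absurd h hv

theorem index_le_sq [Nontrivial V] (R : G →* Module.End (ZMod q) V) (M N : Subgroup G)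
    (hMN : M ≤ N)
    (hfree : ∀ a ∈ M, ∀ v : V, v ≠ 0 → R a v = v → a = 1)
    (hcent : ∀ g ∈ N, ∀ z ∈ M, g * z = z * g)
    (hcomm : ∀ g ∈ N, ∀ h ∈ N, g * h * g⁻¹ * h⁻¹ ∈ M)
    (hZ : ∀ g ∈ N, (∀ h ∈ N, g * h = h * g) → g ∈ M)
    (k : ℕ) (hk : Nat.card N = Nat.card M * k) :
    k ≤ Module.finrank (ZMod q) V * Module.finrank (ZMod q) V := by
  have h1 := card_centralizer_pow_le R M N hMN hfree hcent hcomm hZ k hk
  rw [card_end] at h1
  have hfinE : Finite (Module.End (ZMod q) V) :=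
    Finite.of_injective (fun e : Module.End (ZMod q) V => (e : V → V)) DFunLike.coe_injective
  let ι : ZMod q → {c : Module.End (ZMod q) V // ∀ h ∈ N, c * R h = R h * c} :=
    fun a => ⟨a • 1, fun h _ => by simp⟩
  have hι : Function.Injective ι := by
    intro a b hab
    exact scalar_injective (congrArg Subtype.val hab)
  have h2 := Nat.card_le_card_of_injective ι hι
  rw [Nat.card_zmod] at h2
  have h3 : q ^ k ≤ q ^ (Module.finrank (ZMod q) V * Module.finrank (ZMod q) V) :=
    (Nat.pow_le_pow_left h2 k).trans h1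
  exact (Nat.pow_le_pow_iff_right (Fact.out : q.Prime).one_lt).mp h3

theorem scalar_of_commute [Nontrivial V] (R : G →* Module.End (ZMod q) V) (M N : Subgroup G)
    (hMN : M ≤ N)
    (hfree : ∀ a ∈ M, ∀ v : V, v ≠ 0 → R a v = v → a = 1)
    (hcent : ∀ g ∈ N, ∀ z ∈ M, g * z = z * g)
    (hcomm : ∀ g ∈ N, ∀ h ∈ N, g * h * g⁻¹ * h⁻¹ ∈ M)
    (hZ : ∀ g ∈ N, (∀ h ∈ N, g * h = h * g) → g ∈ M)
    (hk : Nat.card N = Nat.card M *
      (Module.finrank (ZMod q) V * Module.finrank (ZMod q) V))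
    (c : Module.End (ZMod q) V) (hc : ∀ h ∈ N, c * R h = R h * c) :
    ∃ a : ZMod q, c = a • (1 : Module.End (ZMod q) V) := by
  have h1 := card_centralizer_pow_le R M N hMN hfree hcent hcomm hZ _ hk
  rw [card_end] at h1
  have hfinE : Finite (Module.End (ZMod q) V) :=
    Finite.of_injective (fun e : Module.End (ZMod q) V => (e : V → V)) DFunLike.coe_injective
  have hfin : Module.Finite (ZMod q) V := Module.Finite.of_finite
  have hn : Module.finrank (ZMod q) V * Module.finrank (ZMod q) V ≠ 0 := by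
    have : 0 < Module.finrank (ZMod q) V := Module.finrank_pos
    positivity
  have h2 : Nat.card {c : Module.End (ZMod q) V // ∀ h ∈ N, c * R h = R h * c} ≤ q :=
    (Nat.pow_le_pow_iff_left hn).mp h1
  let ι : ZMod q → {c : Module.End (ZMod q) V // ∀ h ∈ N, c * R h = R h * c} :=
    fun a => ⟨a • 1, fun h _ => by simp⟩
  have hι : Function.Injective ι := by
    intro a b hab
    exact scalar_injective (congrArg Subtype.val hab)
  have h3 : Function.Bijective ι := by
    apply hι.bijective_of_nat_card_le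
    rw [Nat.card_zmod]
    exact h2
  obtain ⟨a, ha⟩ := h3.2 ⟨c, hc⟩
  exact ⟨a, (congrArg Subtype.val ha).symm⟩

theorem exists_inner [Nontrivial V] (R : G →* Module.End (ZMod q) V) (hR : Function.Injective R)
    (M N : Subgroup G) (hMN : M ≤ N)
    (hfree : ∀ a ∈ M, ∀ v : V, v ≠ 0 → R a v = v → a = 1)
    (hcent : ∀ g ∈ N, ∀ z ∈ M, g * z = z * g)
    (hcomm : ∀ g ∈ N, ∀ h ∈ N, g * h * g⁻¹ * h⁻¹ ∈ M)
    (hZ : ∀ g ∈ N, (∀ h ∈ N, g * h = h * g) → g ∈ M)
    (hk : Nat.card N = Nat.card M *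
      (Module.finrank (ZMod q) V * Module.finrank (ZMod q) V))
    (g : G) (hg : ∀ h ∈ N, g * h * g⁻¹ * h⁻¹ ∈ M) :
    ∃ s ∈ N, ∀ h ∈ N, (s⁻¹ * g) * h = h * (s⁻¹ * g) := by
  classical
  obtain ⟨S, hScard, hSN, hS⟩ := exists_transversal M N hMN _ hk
  have hfinE : Finite (Module.End (ZMod q) V) :=
    Finite.of_injective (fun e : Module.End (ZMod q) V => (e : V → V)) DFunLike.coe_injective
  have hRM : ∀ z ∈ M, ∀ h ∈ N, R z * R h = R h * R z := by
    intro z hz h hh
    rw [← map_mul, ← map_mul, hcent h hh z hz]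
  let Φ : (S → ZMod q) → Module.End (ZMod q) V := fun f => ∑ s ∈ S.attach, f s • R s.1
  have hΦ : Function.Injective Φ := by
    intro f f' hff
    let c : G → Module.End (ZMod q) V := fun g =>
      if hg : g ∈ S then (f ⟨g, hg⟩ - f' ⟨g, hg⟩) • (1 : Module.End (ZMod q) V) else 0
    have hc : ∀ g ∈ S, ∀ h ∈ N, c g * R h = R h * c g := by
      intro g hg h hh
      simp only [c, dif_pos hg]
      simp
    have hsum : ∑ g ∈ S, c g * R g = 0 := by
      rw [← Finset.sum_attach]
      have h1 : ∀ s ∈ S.attach, c s.1 * R s.1 = f s • R s.1 - f' s • R s.1 := by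
        intro s _
        simp only [c, dif_pos s.2, sub_smul, sub_mul, smul_mul_assoc, one_mul]
      rw [Finset.sum_congr rfl h1, Finset.sum_sub_distrib]
      exact sub_eq_zero.mpr hff
    have h2 := coset_indep R M N hMN hfree hcent hcomm hZ S.card S rfl hSN hS c hc hsum
    funext s
    have h3 := h2 s.1 s.2
    simp only [c, dif_pos s.2] at h3
    have h4 := scalar_injective (q := q) (V := V) (a₁ := f s - f' s) (a₂ := 0) (by simpa using h3)
    exact sub_eq_zero.mp h4
  have hΦbij : Function.Bijective Φ := by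
    apply hΦ.bijective_of_nat_card_le
    rw [card_end, Nat.card_fun, Nat.card_zmod, Nat.card_eq_fintype_card (α := S), Fintype.card_coe,
      hScard]
  obtain ⟨f, hf⟩ := hΦbij.2 (R g)
  have hRg : R g ≠ 0 := by
    intro h0
    have h1 : R g * R g⁻¹ = 1 := by rw [← map_mul, mul_inv_cancel, map_one]
    rw [h0, zero_mul] at h1
    obtain ⟨v, hv⟩ := exists_ne (0 : V)
    have h2 := congrArg (fun T : Module.End (ZMod q) V => T v) h1
    simp at h2
    exact hv h2.symm
  have hex : ∃ s : S, f s ≠ 0 := by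
    by_contra hcon
    push Not at hcon
    apply hRg
    rw [← hf]
    apply Finset.sum_eq_zero
    intro s _
    rw [hcon s, zero_smul]
  obtain ⟨s₀, hs₀⟩ := hex
  have hgM : ∀ h ∈ N, h * g * h⁻¹ * g⁻¹ ∈ M := by
    intro h hh
    have h1 := M.inv_mem (hg h hh)
    have h2 : (g * h * g⁻¹ * h⁻¹)⁻¹ = h * g * h⁻¹ * g⁻¹ := by group
    rwa [h2] at h1
  have hkey : ∀ h ∈ N, h * s₀.1 * h⁻¹ * s₀.1⁻¹ = h * g * h⁻¹ * g⁻¹ := by
    intro h hh
    let c : G → Module.End (ZMod q) V := fun s =>
      if hs : s ∈ S then f ⟨s, hs⟩ • (R (h * s * h⁻¹ * s⁻¹) - R (h * g * h⁻¹ * g⁻¹)) else 0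
    have hc : ∀ s ∈ S, ∀ h' ∈ N, c s * R h' = R h' * c s := by
      intro s hs h' hh'
      simp only [c, dif_pos hs]
      rw [smul_mul_assoc, mul_smul_comm, sub_mul, mul_sub,
        hRM _ (hcomm h hh s (hSN s hs)) h' hh', hRM _ (hgM h hh) h' hh']
    have hsum : ∑ s ∈ S, c s * R s = 0 := by
      rw [← Finset.sum_attach]
      have h1 : ∀ s ∈ S.attach, c s.1 * R s.1 =
          R h * (f s • R s.1) * R h⁻¹ - R (h * g * h⁻¹ * g⁻¹) * (f s • R s.1) := by
        intro s _
        simp only [c, dif_pos s.2]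
        have h2 : R (h * s.1 * h⁻¹ * s.1⁻¹) * R s.1 = R h * R s.1 * R h⁻¹ := by
          rw [← map_mul, ← map_mul, ← map_mul]
          congr 1; group
        rw [smul_mul_assoc, sub_mul, h2, smul_sub, mul_smul_comm, smul_mul_assoc, mul_smul_comm]
      rw [Finset.sum_congr rfl h1, Finset.sum_sub_distrib, ← Finset.mul_sum, ← Finset.sum_mul,
        ← Finset.mul_sum]
      have h3 : ∑ s ∈ S.attach, f s • R s.1 = R g := hf
      rw [h3, ← map_mul, ← map_mul, ← map_mul]
      rw [sub_eq_zero]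
      congr 1; group
    have h2 := coset_indep R M N hMN hfree hcent hcomm hZ S.card S rfl hSN hS c hc hsum s₀.1 s₀.2
    simp only [c, dif_pos s₀.2] at h2
    rcases smul_eq_zero.mp h2 with h3 | h3
    · exact absurd h3 hs₀
    · exact hR (sub_eq_zero.mp h3)
  refine ⟨s₀.1, hSN _ s₀.2, ?_⟩
  intro h hh
  have h1 := hkey h⁻¹ (N.inv_mem hh)
  rw [inv_inv] at h1
  have h3 : s₀.1 * h * s₀.1⁻¹ = g * h * g⁻¹ := by
    have e1 : s₀.1 * h * s₀.1⁻¹ = h * (h⁻¹ * s₀.1 * h * s₀.1⁻¹) := by group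
    rw [e1, h1]; group
  calc s₀.1⁻¹ * g * h = s₀.1⁻¹ * (g * h * g⁻¹) * g := by group
    _ = s₀.1⁻¹ * (s₀.1 * h * s₀.1⁻¹) * g := by rw [h3]
    _ = h * (s₀.1⁻¹ * g) := by group

end Cfsg.Agent.Lib.helper62.Hup
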