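import Mathlib
import Cfsg.Agent.Lib.helper49.SPEDefs

/-! S2333 split (architect helper49), piece PAIR (helper62): non-degeneracy of the pairing `gam`
on symmetric matrices, in the form of the orthogonality relation for an additive character. -/

set_option autoImplicit false

namespace Cfsg.Agent.Lib.helper49.SPE

open Matrix

/-- PAIR (M) -/
theorem pair_orth {F : Type*} [Field F] [Fintype F] {n : ℕ} (ψ : AddChar F ℂ) (hψ : ψ 1 ≠ 1)
    [Fintype ↥(symH F n)] (y : Matrix (Fin n) (Fin n) F) (hy : y ∈ symH F n) (hy0 : y ≠ 0) :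
    ∑ a : ↥(symH F n), ψ (gam y a.1) = 0 := by
  classical
  have hadd : ∀ a b : Matrix (Fin n) (Fin n) F, gam y (a + b) = gam y a + gam y b := by
    intro a b
    simp only [gam, Matrix.add_apply, mul_add, Finset.sum_add_distrib]
  obtain ⟨i, j, hij, hne⟩ : ∃ i j : Fin n, i ≤ j ∧ y i j ≠ 0 := by
    by_contra hcon
    push Not at hcon
    apply hy0
    ext i j
    rcases le_total i j with h | h
    · exact hcon i j h
    · rw [hy i j]; exact hcon j i h
  let a₁ : Matrix (Fin n) (Fin n) F :=
    fun k l => if (k = i ∧ l = j) ∨ (k = j ∧ l = i) then (y i j)⁻¹ else 0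
  have ha₁ : a₁ ∈ symH F n := by
    intro k l
    show (if (k = i ∧ l = j) ∨ (k = j ∧ l = i) then (y i j)⁻¹ else 0) =
      (if (l = i ∧ k = j) ∨ (l = j ∧ k = i) then (y i j)⁻¹ else 0)
    exact if_congr (by tauto) rfl rfl
  have hg : gam y a₁ = 1 := by
    unfold gam
    rw [Finset.sum_eq_single i]
    · rw [Finset.sum_eq_single j]
      · have e1 : upT y i j = y i j := by simp [upT, hij]
        have e2 : a₁ i j = (y i j)⁻¹ := if_pos (Or.inl ⟨rfl, rfl⟩)
        rw [e1, e2]
        exact mul_inv_cancel₀ hne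
      · intro l _ hl
        have hnot : ¬ ((i = i ∧ l = j) ∨ (i = j ∧ l = i)) := by
          rintro (⟨-, h⟩ | ⟨h1, h2⟩)
          · exact hl h
          · exact hl (h2.trans h1)
        have e : a₁ i l = 0 := if_neg hnot
        rw [e, mul_zero]
      · intro h
        exact absurd (Finset.mem_univ j) h
    · intro k _ hk
      apply Finset.sum_eq_zero
      intro l _
      by_cases hkl : k ≤ l
      · have hnot : ¬ ((k = i ∧ l = j) ∨ (k = j ∧ l = i)) := by
          rintro (⟨h, -⟩ | ⟨h1, h2⟩)
          · exact hk h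
          · rw [h1, h2] at hkl
            exact hk (h1.trans (le_antisymm hkl hij))
        have e : a₁ k l = 0 := if_neg hnot
        rw [e, mul_zero]
      · have e : upT y k l = 0 := by simp [upT, hkl]
        rw [e, zero_mul]
    · intro h
      exact absurd (Finset.mem_univ i) h
  set S := ∑ a : ↥(symH F n), ψ (gam y a.1) with hS
  have hshift : S = ψ 1 * S := by
    have h1 : S = ∑ a : ↥(symH F n), ψ (gam y (a + ⟨a₁, ha₁⟩ : ↥(symH F n)).1) := by
      rw [hS]
      exact (Equiv.sum_comp (Equiv.addRight (⟨a₁, ha₁⟩ : ↥(symH F n)))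
        (fun a => ψ (gam y a.1))).symm
    have h3 : ∑ a : ↥(symH F n), ψ (gam y (a + ⟨a₁, ha₁⟩ : ↥(symH F n)).1) = ψ 1 * S := by
      rw [hS, Finset.mul_sum]
      apply Finset.sum_congr rfl
      intro a _
      have e3 : ((a + ⟨a₁, ha₁⟩ : ↥(symH F n)) : Matrix (Fin n) (Fin n) F) = a.1 + a₁ := rfl
      rw [e3, hadd, AddChar.map_add_eq_mul, hg, mul_comm]
    exact h1.trans h3
  have h2 : (1 - ψ 1) * S = 0 := by
    rw [sub_mul, one_mul, ← hshift, sub_self]
  rcases mul_eq_zero.mp h2 with h | h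
  · exact absurd (sub_eq_zero.mp h).symm hψ
  · exact h

end Cfsg.Agent.Lib.helper49.SPE
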