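import Mathlib
import Cfsg.Prelude.Def_CaseTheorems
import Cfsg.Agent.S0029
import Cfsg.Agent.Lib.helper30.PStable
import Cfsg.Agent.Lib.helper40.Cores
import Cfsg.Agent.Lib.helper60.HallHigman
import Cfsg.Agent.Lib.helper60.OddCoreQuot
import Cfsg.Agent.Lib.helper3.PGroupFrattini

/-!
# Solvable groups of odd order whose Sylow `p`-subgroups have cyclic derived subgroup

* `comm_eq_pow_of_cyclic` : a `p`-element normalizing a cyclic `p`-group `⟨c⟩` moves every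
  `w ∈ ⟨c⟩` by a `p`-th power of a power of `w`.
* `isPGroup_of_coprime_trivial'`, `normal_pgroup_le_sylow'`, `mem_pCore_of_mk_mem_pCore`.
* `sylow_le_pCore_of_cyclic_commutator` : solvable odd order, `O_{p'} = 1`, the commutators of a
  Sylow `p`-subgroup `T` lie in a cyclic subgroup normalized by `T`  ⟹  `T ≤ O_p`.
-/

set_option autoImplicit false

namespace Cfsg.Agent.Lib.helper62

open Subgroup

/-- A `p`-element `a` normalizing the cyclic `p`-group `⟨c⟩` satisfies `[a, w] = (w ^ i) ^ p`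
for every `w ∈ ⟨c⟩`. -/
theorem comm_eq_pow_of_cyclic {G : Type*} [Group G] (p : ℕ) [hp : Fact p.Prime]
    (a c : G) (m : ℕ) (ha : a ^ p ^ m = 1) (j : ℕ) (hc : c ^ p ^ j = 1)
    (hac : a * c * a⁻¹ ∈ Subgroup.zpowers c) (w : G) (hw : w ∈ Subgroup.zpowers c) :
    ∃ i : ℤ, a * w * a⁻¹ * w⁻¹ = (w ^ i) ^ p := by
  by_cases hc1 : c = 1
  · subst hc1
    have hw1 : w = 1 := by
      rw [Subgroup.zpowers_one_eq_bot] at hw
      exact Subgroup.mem_bot.mp hw
    subst hw1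
    exact ⟨0, by simp⟩
  obtain ⟨k, hk⟩ := Subgroup.mem_zpowers_iff.mp hac
  have hconj : ∀ n : ℕ, a ^ n * c * (a ^ n)⁻¹ = c ^ (k ^ n) := by
    intro n
    induction n with
    | zero => simp
    | succ n ih =>
      have e : a ^ (n + 1) * c * (a ^ (n + 1))⁻¹ = a * (a ^ n * c * (a ^ n)⁻¹) * a⁻¹ := by
        rw [pow_succ']; group
      rw [e, ih, ← conj_zpow, ← hk, ← zpow_mul, pow_succ, mul_comm]
  have h1 := hconj (p ^ m)
  rw [ha] at h1
  have h2 : c ^ (k ^ (p ^ m) - 1) = 1 := by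
    rw [zpow_sub, zpow_one, ← h1]
    simp
  have hord : (orderOf c : ℤ) ∣ k ^ (p ^ m) - 1 := orderOf_dvd_iff_zpow_eq_one.mpr h2
  have hpc : p ∣ orderOf c := by
    have h3 : orderOf c ∣ p ^ j := orderOf_dvd_of_pow_eq_one hc
    obtain ⟨i, -, hi⟩ := (Nat.dvd_prime_pow hp.out).mp h3
    have hi0 : i ≠ 0 := by
      rintro rfl
      rw [pow_zero, orderOf_eq_one_iff] at hi
      exact hc1 hi
    rw [hi]
    exact dvd_pow_self p hi0
  have hpk : (p : ℤ) ∣ k ^ (p ^ m) - 1 := (Int.natCast_dvd_natCast.mpr hpc).trans hord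
  have hz : ((k ^ (p ^ m) - 1 : ℤ) : ZMod p) = 0 := (ZMod.intCast_zmod_eq_zero_iff_dvd _ p).mpr hpk
  have hz2 : ((k : ℤ) : ZMod p) = 1 := by
    have h4 : ((k : ℤ) : ZMod p) ^ p ^ m - 1 = 0 := by
      have := hz
      push_cast at this
      exact this
    rw [ZMod.pow_card_pow] at h4
    exact sub_eq_zero.mp h4
  have hpk1 : (p : ℤ) ∣ k - 1 := by
    apply (ZMod.intCast_zmod_eq_zero_iff_dvd _ p).mp
    push_cast
    rw [hz2, sub_self]
  obtain ⟨j', hj'⟩ := hpk1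
  obtain ⟨i, rfl⟩ := Subgroup.mem_zpowers_iff.mp hw
  refine ⟨j', ?_⟩
  have e1 : a * c ^ i * a⁻¹ = c ^ (k * i) := by
    rw [← conj_zpow, ← hk, ← zpow_mul]
  rw [e1, ← zpow_neg, ← zpow_add, ← zpow_mul, ← zpow_natCast, ← zpow_mul]
  congr 1
  have : k = 1 + p * j' := by linarith
  rw [this]; ring

/-- A subgroup all of whose `p'`-elements are trivial is a `p`-group. -/
theorem isPGroup_of_coprime_trivial' {G : Type*} [Group G] [Finite G] {p : ℕ} [hp : Fact p.Prime]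
    (K : Subgroup G) (h : ∀ x ∈ K, (orderOf x).Coprime p → x = 1) : IsPGroup p K := by
  intro g
  obtain ⟨k, m, hm, hkm⟩ :=
    Nat.exists_eq_pow_mul_and_not_dvd (orderOf_pos (g : G)).ne' p hp.out.ne_one
  refine ⟨k, ?_⟩
  have h1 : orderOf ((g : G) ^ (p ^ k)) ∣ m := by
    apply orderOf_dvd_of_pow_eq_one
    rw [← pow_mul, ← hkm, pow_orderOf_eq_one]
  have h2 : (orderOf ((g : G) ^ (p ^ k))).Coprime p :=
    Nat.Coprime.coprime_dvd_left h1 ((Nat.Prime.coprime_iff_not_dvd hp.out).mpr hm).symm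
  have h3 := h _ (K.pow_mem g.2 _) h2
  exact Subtype.ext h3

/-- A normal `p`-subgroup lies in every Sylow `p`-subgroup. -/
theorem normal_pgroup_le_sylow' {G : Type*} [Group G] [Finite G] {p : ℕ} [Fact p.Prime]
    (N : Subgroup G) [hN : N.Normal] (hNp : IsPGroup p N) (T : Sylow p G) : N ≤ T := by
  obtain ⟨T', hT'⟩ := hNp.exists_le_sylow
  obtain ⟨g, rfl⟩ := MulAction.exists_smul_eq G T' T
  intro x hx
  rw [Sylow.coe_subgroup_smul, Subgroup.mem_pointwise_smul_iff_inv_smul_mem]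
  have h1 : g⁻¹ * x * g⁻¹⁻¹ ∈ N := hN.conj_mem x hx g⁻¹
  have h2 := hT' h1
  simpa [MulAut.smul_def, MulAut.conj_apply] using h2

/-- If the image of `a` in `G / O_p(G)` lies in `O_p(G / O_p(G))`, then `a ∈ O_p(G)`. -/
theorem mem_pCore_of_mk_mem_pCore {G : Type*} [Group G] [Finite G] (p : ℕ) [hp : Fact p.Prime]
    [hn : (Cfsg.pCore p G).Normal] (a : G)
    (ha : QuotientGroup.mk' (Cfsg.pCore p G) a ∈ Cfsg.pCore p (G ⧸ Cfsg.pCore p G)) :
    a ∈ Cfsg.pCore p G := by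
  have hMn : ((Cfsg.pCore p (G ⧸ Cfsg.pCore p G)).comap
      (QuotientGroup.mk' (Cfsg.pCore p G))).Normal :=
    Subgroup.Normal.comap (Cfsg.Agent.Lib.helper40.pCore_normal' p _) _
  have hMp : IsPGroup p ((Cfsg.pCore p (G ⧸ Cfsg.pCore p G)).comap
      (QuotientGroup.mk' (Cfsg.pCore p G))) := by
    rintro ⟨x, hx⟩
    have hx' : QuotientGroup.mk' (Cfsg.pCore p G) x ∈ Cfsg.pCore p (G ⧸ Cfsg.pCore p G) := hx
    obtain ⟨k, hk⟩ := Cfsg.Agent.Lib.helper40.pCore_isPGroup p (G ⧸ Cfsg.pCore p G) ⟨_, hx'⟩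
    have hk' : (QuotientGroup.mk' (Cfsg.pCore p G) x) ^ p ^ k = 1 := congrArg Subtype.val hk
    rw [← map_pow, QuotientGroup.mk'_apply, QuotientGroup.eq_one_iff] at hk'
    obtain ⟨l, hl⟩ := Cfsg.Agent.Lib.helper40.pCore_isPGroup p G ⟨_, hk'⟩
    have hl' : (x ^ p ^ k) ^ p ^ l = 1 := congrArg Subtype.val hl
    refine ⟨k + l, Subtype.ext ?_⟩
    show x ^ p ^ (k + l) = 1
    rw [pow_add, pow_mul]
    exact hl'
  exact Cfsg.Agent.Lib.helper40.le_pCore _ hMn hMp ha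

/-- In a solvable group of odd order with `O_{p'} = 1`, a Sylow `p`-subgroup `T` all of whose
commutators lie in a cyclic subgroup `⟨c⟩` normalized by `T` is contained in `O_p` (hence equal
to it, and normal). -/
theorem sylow_le_pCore_of_cyclic_commutator {Y : Type*} [Group Y] [Finite Y] [Group.IsSolvable Y]
    (hodd : Odd (Nat.card Y)) (p : ℕ) [hp : Fact p.Prime] (hp2 : p ≠ 2)
    (hO : Cfsg.pPrimeCore p Y = ⊥) (T : Sylow p Y) (c : Y) (hcT : c ∈ T)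
    (hc : ∀ x ∈ T, ∀ y ∈ T, x * y * x⁻¹ * y⁻¹ ∈ Subgroup.zpowers c)
    (hcn : ∀ a ∈ T, a * c * a⁻¹ ∈ Subgroup.zpowers c) :
    (T : Subgroup Y) ≤ Cfsg.pCore p Y := by
  have hPn : (Cfsg.pCore p Y).Normal := Cfsg.Agent.Lib.helper40.pCore_normal' p Y
  have hPp : IsPGroup p (Cfsg.pCore p Y) := Cfsg.Agent.Lib.helper40.pCore_isPGroup p Y
  have hPT : Cfsg.pCore p Y ≤ T := normal_pgroup_le_sylow' _ hPp T
  have hcen := Cfsg.Agent.Lib.helper60.centralizer_pCore_le p hO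
  obtain ⟨Φ, hΦ⟩ : ∃ Φ : Subgroup Y, Φ = (frattini ↥(Cfsg.pCore p Y)).map (Cfsg.pCore p Y).subtype :=
    ⟨_, rfl⟩
  have hΦn : Φ.Normal := by
    rw [hΦ]; exact ConjAct.normal_of_characteristic_of_normal
  have hΦP : Φ ≤ Cfsg.pCore p Y := by
    rw [hΦ]; exact Subgroup.map_subtype_le _
  have hpowΦ : ∀ x ∈ Cfsg.pCore p Y, x ^ p ∈ Φ := by
    intro x hx
    rw [hΦ]
    exact ⟨(⟨x, hx⟩ : ↥(Cfsg.pCore p Y)) ^ p,
      Cfsg.Agent.Lib.helper3.pow_prime_mem_frattini hPp _, rfl⟩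
  have hoddQ : Odd (Nat.card (Y ⧸ Φ)) :=
    hodd.of_dvd_nat (Subgroup.card_quotient_dvd_card Φ)
  have hmapn : ((Cfsg.pCore p Y).map (QuotientGroup.mk' Φ)).Normal :=
    Subgroup.Normal.map hPn _ (QuotientGroup.mk'_surjective Φ)
  -- the kernel of the action on `P/Φ` is `P`
  have hker : ∀ n : Y, QuotientGroup.mk' Φ n ∈
      Subgroup.centralizer (((Cfsg.pCore p Y).map (QuotientGroup.mk' Φ) : Subgroup (Y ⧸ Φ)) :
        Set (Y ⧸ Φ)) → QuotientGroup.mk' (Cfsg.pCore p Y) n = 1 := by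
    intro n hn
    have hCn : (Subgroup.centralizer (((Cfsg.pCore p Y).map (QuotientGroup.mk' Φ) :
        Subgroup (Y ⧸ Φ)) : Set (Y ⧸ Φ))).Normal := inferInstance
    obtain ⟨K, hK⟩ : ∃ K : Subgroup Y, K = (Subgroup.centralizer
        (((Cfsg.pCore p Y).map (QuotientGroup.mk' Φ) : Subgroup (Y ⧸ Φ)) : Set (Y ⧸ Φ))).comap
          (QuotientGroup.mk' Φ) := ⟨_, rfl⟩
    have hKn : K.Normal := by rw [hK]; exact Subgroup.Normal.comap hCn _
    have hKp : IsPGroup p K := by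
      apply isPGroup_of_coprime_trivial'
      intro x hx hxp
      have h1 : Subgroup.zpowers x ≤ Subgroup.centralizer (Cfsg.pCore p Y : Set Y) := by
        apply Cfsg.Agent.S0029.result
        · rw [Subgroup.normalizer_eq_top_iff.mpr hPn]; exact le_top
        · rw [Nat.card_zpowers]
          obtain ⟨k, hk⟩ := IsPGroup.iff_card.mp (hPp.to_subgroup (frattini ↥(Cfsg.pCore p Y)))
          rw [hk]
          exact Nat.Coprime.pow_right k hxp
        · intro a ha k hk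
          have haK : a ∈ K := (Subgroup.zpowers_le.mpr hx) ha
          rw [hK] at haK
          have h3 := Subgroup.mem_centralizer_iff.mp haK _ (Subgroup.mem_map_of_mem _ hk)
          rw [← hΦ, ← QuotientGroup.eq_one_iff]
          have h4 : ((a * k * a⁻¹ * k⁻¹ : Y) : Y ⧸ Φ) =
              (QuotientGroup.mk' Φ a) * (QuotientGroup.mk' Φ k) * (QuotientGroup.mk' Φ a)⁻¹ *
                (QuotientGroup.mk' Φ k)⁻¹ := rfl
          rw [h4, ← h3]
          group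
      have hxP : x ∈ Cfsg.pCore p Y := hcen (h1 (Subgroup.mem_zpowers x))
      obtain ⟨k, hk⟩ := hPp ⟨x, hxP⟩
      have hk' : x ^ p ^ k = 1 := congrArg Subtype.val hk
      have h5 : orderOf x ∣ p ^ k := orderOf_dvd_of_pow_eq_one hk'
      have h6 : orderOf x = 1 := (Nat.Coprime.pow_right k hxp).eq_one_of_dvd h5
      exact orderOf_eq_one_iff.mp h6
    have hKP : K ≤ Cfsg.pCore p Y := Cfsg.Agent.Lib.helper40.le_pCore K hKn hKp
    have hnK : n ∈ K := by rw [hK]; exact hn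
    exact (QuotientGroup.eq_one_iff n).mpr (hKP hnK)
  intro a haT
  obtain ⟨m, hm⟩ := T.isPGroup' ⟨a, haT⟩
  have ham : a ^ p ^ m = 1 := congrArg Subtype.val hm
  obtain ⟨j, hj⟩ := T.isPGroup' ⟨c, hcT⟩
  have hcj : c ^ p ^ j = 1 := congrArg Subtype.val hj
  have key := Cfsg.Agent.Lib.helper30.pstable_hom hoddQ p hp2
    ((Cfsg.pCore p Y).map (QuotientGroup.mk' Φ)) (hPp.map _)
    (QuotientGroup.mk' Φ) (QuotientGroup.mk' (Cfsg.pCore p Y))
    (QuotientGroup.mk'_surjective _)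
    (fun n => by
      rw [Subgroup.normalizer_eq_top_iff.mpr hmapn]; exact Subgroup.mem_top _)
    hker a (by
      rintro u ⟨v, hv, rfl⟩
      have hw : a * v * a⁻¹ * v⁻¹ ∈ Subgroup.zpowers c := hc a haT v (hPT hv)
      have hwP : a * v * a⁻¹ * v⁻¹ ∈ Cfsg.pCore p Y :=
        (Cfsg.pCore p Y).mul_mem (hPn.conj_mem v hv a) ((Cfsg.pCore p Y).inv_mem hv)
      obtain ⟨i, hi⟩ := comm_eq_pow_of_cyclic p a c m ham j hcj (hcn a haT) _ hw
      have h1 : a * (a * v * a⁻¹ * v⁻¹) * a⁻¹ * (a * v * a⁻¹ * v⁻¹)⁻¹ ∈ Φ := by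
        rw [hi]
        exact hpowΦ _ ((Cfsg.pCore p Y).zpow_mem hwP i)
      have h2 := (QuotientGroup.eq_one_iff (N := Φ) _).mpr h1
      have h3 : ((a * (a * v * a⁻¹ * v⁻¹) * a⁻¹ * (a * v * a⁻¹ * v⁻¹)⁻¹ : Y) : Y ⧸ Φ) =
          QuotientGroup.mk' Φ a * (QuotientGroup.mk' Φ a * QuotientGroup.mk' Φ v *
            (QuotientGroup.mk' Φ a)⁻¹ * (QuotientGroup.mk' Φ v)⁻¹) * (QuotientGroup.mk' Φ a)⁻¹ *
            (QuotientGroup.mk' Φ a * QuotientGroup.mk' Φ v *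
            (QuotientGroup.mk' Φ a)⁻¹ * (QuotientGroup.mk' Φ v)⁻¹)⁻¹ := rfl
      rw [h3] at h2
      have h4 := mul_inv_eq_one.mp h2
      rw [mul_inv_eq_iff_eq_mul] at h4
      exact h4)
  exact mem_pCore_of_mk_mem_pCore p a key

end Cfsg.Agent.Lib.helper62
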