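import Mathlib
import Cfsg.Prelude.Def_Solvable

set_option autoImplicit false

namespace Cfsg.Agent.Lib.helper62

open MulAction

/-- A nontrivial nilpotent group has nontrivial centre. -/
theorem center_ne_bot_of_isNilpotent {N : Type*} [Group N] [hN : Group.IsNilpotent N]
    [Nontrivial N] : Subgroup.center N ≠ ⊥ := by
  intro hbot
  have key : ∀ n : ℕ, Subgroup.upperCentralSeries N n = ⊥ := by
    intro n
    induction n with
    | zero => exact Subgroup.upperCentralSeries_zero N
    | succ n ih =>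
      rw [Subgroup.eq_bot_iff_forall]
      intro x hx
      rw [Subgroup.mem_upperCentralSeries_succ_iff] at hx
      have hc : x ∈ Subgroup.center N := by
        rw [Subgroup.mem_center_iff]
        intro g
        have h1 := hx g
        rw [ih, Subgroup.mem_bot, commutatorElement_def] at h1
        have h2 : x * g = (x * g * x⁻¹ * g⁻¹) * (g * x) := by group
        rw [h1, one_mul] at h2
        exact h2.symm
      rw [hbot, Subgroup.mem_bot] at hc
      exact hc
  obtain ⟨n, hn⟩ := hN.nilpotent'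
  rw [key n] at hn
  exact bot_ne_top hn

section
variable {H : Type*} [Group H] {X : Type*} [MulAction H X]

/-- The centralizer of a transitive subgroup of a faithful group acts semiregularly. -/
theorem centralizer_semiregular (hfaith : ∀ h : H, (∀ x : X, h • x = x) → h = 1)
    (M : Subgroup H) (hMtr : ∀ x y : X, ∃ m ∈ M, m • x = y)
    (c : H) (hc : c ∈ Subgroup.centralizer (M : Set H)) (x : X) (hx : c • x = x) : c = 1 := by
  apply hfaith
  intro y
  obtain ⟨m, hm, rfl⟩ := hMtr x y
  have h1 : m * c = c * m := hc m hm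
  rw [← mul_smul, ← h1, mul_smul, hx]

/-- A nontrivial normal subgroup of a faithful primitive group is transitive. -/
theorem normal_transitive_of_faithful_prim [IsPreprimitive H X]
    (hfaith : ∀ h : H, (∀ x : X, h • x = x) → h = 1)
    (M : Subgroup H) [M.Normal] (hM : M ≠ ⊥) : ∀ x y : X, ∃ m ∈ M, m • x = y := by
  have hne : fixedPoints M X ≠ Set.univ := by
    intro huniv
    apply hM
    rw [Subgroup.eq_bot_iff_forall]
    intro m hm
    apply hfaith
    intro x
    have h1 : x ∈ fixedPoints M X := by rw [huniv]; trivial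
    exact h1 ⟨m, hm⟩
  haveI : IsPretransitive M X := IsQuasiPreprimitive.isPretransitive_of_normal hne
  intro x y
  obtain ⟨m, hm⟩ := exists_smul_eq M x y
  exact ⟨m, m.2, hm⟩

/-- A nontrivial abelian normal subgroup of a faithful primitive group is self-centralizing. -/
theorem normal_abelian_self_centralizing [IsPreprimitive H X]
    (hfaith : ∀ h : H, (∀ x : X, h • x = x) → h = 1)
    (M : Subgroup H) [M.Normal] (hM : M ≠ ⊥) (hMc : ∀ a ∈ M, ∀ b ∈ M, a * b = b * a) :
    Subgroup.centralizer (M : Set H) = M := by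
  have htr := normal_transitive_of_faithful_prim hfaith M hM
  obtain ⟨m₀, hm₀1⟩ := (Subgroup.ne_bot_iff_exists_ne_one).mp hM
  have hX : Nonempty X := by
    by_contra hemp
    rw [not_nonempty_iff] at hemp
    exact hm₀1 (Subtype.ext (hfaith m₀ (fun x => isEmptyElim x)))
  obtain ⟨x⟩ := hX
  apply le_antisymm
  · intro c hc
    obtain ⟨m, hm, hmx⟩ := htr x (c • x)
    have hmc : m ∈ Subgroup.centralizer (M : Set H) := fun b hb => hMc b hb m hm
    have h1 : m⁻¹ * c ∈ Subgroup.centralizer (M : Set H) :=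
      Subgroup.mul_mem _ (Subgroup.inv_mem _ hmc) hc
    have h2 : (m⁻¹ * c) • x = x := by rw [mul_smul, ← hmx, inv_smul_smul]
    have h3 := centralizer_semiregular hfaith M htr _ h1 x h2
    rw [inv_mul_eq_one] at h3
    rw [← h3]; exact hm
  · intro m hm b hb
    exact hMc b hb m hm

/-- A nontrivial abelian normal subgroup of a faithful primitive group is semiregular. -/
theorem normal_abelian_regular [IsPreprimitive H X]
    (hfaith : ∀ h : H, (∀ x : X, h • x = x) → h = 1)
    (M : Subgroup H) [M.Normal] (hM : M ≠ ⊥) (hMc : ∀ a ∈ M, ∀ b ∈ M, a * b = b * a)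
    (m : H) (hm : m ∈ M) (x : X) (hx : m • x = x) : m = 1 :=
  centralizer_semiregular hfaith M (normal_transitive_of_faithful_prim hfaith M hM) m
    (fun b hb => hMc b hb m hm) x hx

/-- A regular subgroup has as many elements as there are points. -/
theorem card_eq_of_regular (M : Subgroup H) (hMtr : ∀ x y : X, ∃ m ∈ M, m • x = y)
    (hreg : ∀ m ∈ M, ∀ x : X, m • x = x → m = 1) (x : X) : Nat.card M = Nat.card X := by
  apply Nat.card_congr
  apply Equiv.ofBijective (fun m : M => (m : H) • x)
  constructor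
  · intro a b hab
    have hab' : (a : H) • x = (b : H) • x := hab
    have h1 : ((a : H)⁻¹ * (b : H)) • x = x := by rw [mul_smul, ← hab', inv_smul_smul]
    have h2 := hreg _ (M.mul_mem (M.inv_mem a.2) b.2) x h1
    rw [inv_mul_eq_one] at h2
    exact Subtype.ext h2
  · intro y
    obtain ⟨m, hm, hmy⟩ := hMtr x y
    exact ⟨⟨m, hm⟩, hmy⟩

/-- A nontrivial finite group acting primitively with a trivial point stabilizer has prime
order. -/
theorem prime_card_of_regular_primitive [Finite H] [IsPreprimitive H X] (x : X)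
    (hx : ∀ h : H, h • x = x → h = 1) [Nontrivial H] : (Nat.card H).Prime := by
  obtain ⟨h₀, hh₀⟩ := exists_ne (1 : H)
  haveI : Nontrivial X := ⟨⟨h₀ • x, x, fun h => hh₀ (hx h₀ h)⟩⟩
  have hco : IsCoatom (stabilizer H x) := IsPreprimitive.isCoatom_stabilizer_of_isPreprimitive H x
  have hst : stabilizer H x = ⊥ := by
    rw [Subgroup.eq_bot_iff_forall]
    intro h hh
    exact hx h hh
  rw [hst] at hco
  have hcard : 1 < Nat.card H := Finite.one_lt_card
  obtain ⟨p, hp, hpd⟩ := Nat.exists_prime_and_dvd (ne_of_gt hcard)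
  haveI : Fact p.Prime := ⟨hp⟩
  obtain ⟨h, hh⟩ := exists_prime_orderOf_dvd_card' p hpd
  have hne : Subgroup.zpowers h ≠ ⊥ := by
    intro hbot
    rw [Subgroup.zpowers_eq_bot] at hbot
    rw [hbot, orderOf_one] at hh
    exact hp.one_lt.ne hh
  have htop : Subgroup.zpowers h = ⊤ := hco.2 _ (bot_lt_iff_ne_bot.mpr hne)
  have h1 : Nat.card (Subgroup.zpowers h) = p := by rw [Nat.card_zpowers, hh]
  rw [htop, Subgroup.card_top] at h1
  rw [h1]; exact hp

/-- In a faithful primitive group, a nontrivial normal subgroup contained in an abelian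
subgroup `N` contains `N`. -/
theorem le_of_normal_le_abelian [IsPreprimitive H X]
    (hfaith : ∀ h : H, (∀ x : X, h • x = x) → h = 1)
    (K N : Subgroup H) [K.Normal] (hK : K ≠ ⊥) (hKN : K ≤ N)
    (hNc : ∀ a ∈ N, ∀ b ∈ N, a * b = b * a) : N ≤ K := by
  have h1 := normal_abelian_self_centralizing hfaith K hK
    (fun a ha b hb => hNc a (hKN ha) b (hKN hb))
  intro n hn
  rw [← h1]
  intro k hk
  exact hNc k (hKN hk) n hn

/-- A nontrivial nilpotent normal subgroup of a faithful primitive group is abelian. -/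
theorem normal_nilpotent_abelian [IsPreprimitive H X]
    (hfaith : ∀ h : H, (∀ x : X, h • x = x) → h = 1)
    (N : Subgroup H) [N.Normal] (hN : N ≠ ⊥) (hnil : Group.IsNilpotent N) :
    ∀ a ∈ N, ∀ b ∈ N, a * b = b * a := by
  haveI : Nontrivial N := (Subgroup.nontrivial_iff_ne_bot N).mpr hN
  have hZ := center_ne_bot_of_isNilpotent (N := N)
  obtain ⟨z, hz1⟩ := (Subgroup.ne_bot_iff_exists_ne_one).mp hZ
  have hzc : ∀ n ∈ N, n * ((z : N) : H) = ((z : N) : H) * n := by
    intro n hn
    have h1 := Subgroup.mem_center_iff.mp z.2 ⟨n, hn⟩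
    exact congrArg Subtype.val h1
  have hZ' : N ⊓ Subgroup.centralizer (N : Set H) ≠ ⊥ := by
    intro hbot
    have h1 : ((z : N) : H) ∈ N ⊓ Subgroup.centralizer (N : Set H) := ⟨(z : N).2, hzc⟩
    rw [hbot, Subgroup.mem_bot] at h1
    apply hz1
    exact Subtype.ext (Subtype.ext h1)
  have hZc : ∀ a ∈ N ⊓ Subgroup.centralizer (N : Set H),
      ∀ b ∈ N ⊓ Subgroup.centralizer (N : Set H), a * b = b * a := by
    intro a ha b hb
    exact ha.2 b hb.1 |>.symm
  have hcent := normal_abelian_self_centralizing hfaith (N ⊓ Subgroup.centralizer (N : Set H))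
    hZ' hZc
  intro a ha b hb
  have h1 : a ∈ Subgroup.centralizer ((N ⊓ Subgroup.centralizer (N : Set H) : Subgroup H) : Set H) := by
    intro z hz
    exact (hz.2 a ha).symm
  rw [hcent] at h1
  exact (h1.2 b hb).symm

/-- A faithful primitive group has at most one nontrivial nilpotent normal subgroup. -/
theorem normal_nilpotent_unique [IsPreprimitive H X]
    (hfaith : ∀ h : H, (∀ x : X, h • x = x) → h = 1)
    (N₁ N₂ : Subgroup H) [hn1 : N₁.Normal] [hn2 : N₂.Normal] (h1 : N₁ ≠ ⊥) (h2 : N₂ ≠ ⊥)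
    (hnil1 : Group.IsNilpotent N₁) (hnil2 : Group.IsNilpotent N₂) : N₁ = N₂ := by
  have c1 := normal_nilpotent_abelian hfaith N₁ h1 hnil1
  have c2 := normal_nilpotent_abelian hfaith N₂ h2 hnil2
  by_cases hK : N₁ ⊓ N₂ = ⊥
  · exfalso
    have hcent := normal_abelian_self_centralizing hfaith N₁ h1 c1
    have h3 : N₂ ≤ Subgroup.centralizer (N₁ : Set H) := by
      intro b hb a ha
      have h4 : a * b * a⁻¹ * b⁻¹ ∈ N₁ ⊓ N₂ := by
        constructor
        · have := hn1.conj_mem a⁻¹ (N₁.inv_mem ha) b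
          have h5 : a * b * a⁻¹ * b⁻¹ = a * (b * a⁻¹ * b⁻¹) := by group
          rw [h5]
          exact N₁.mul_mem ha this
        · have := hn2.conj_mem b hb a
          exact N₂.mul_mem this (N₂.inv_mem hb)
      rw [hK, Subgroup.mem_bot] at h4
      have h5 : a * b = (a * b * a⁻¹ * b⁻¹) * (b * a) := by group
      rw [h4, one_mul] at h5
      exact h5
    rw [hcent] at h3
    apply h2
    rw [eq_bot_iff, ← hK]
    exact le_inf h3 le_rfl
  · apply le_antisymm
    · exact (le_of_normal_le_abelian hfaith (N₁ ⊓ N₂) N₁ hK inf_le_left c1).trans inf_le_right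
    · exact (le_of_normal_le_abelian hfaith (N₁ ⊓ N₂) N₂ hK inf_le_right c2).trans inf_le_left

/-- The Fitting subgroup of a faithful primitive group is trivial, or itself a nontrivial
nilpotent normal subgroup. -/
theorem fitting_cases [IsPreprimitive H X]
    (hfaith : ∀ h : H, (∀ x : X, h • x = x) → h = 1) :
    Cfsg.fittingSubgroup H = ⊥ ∨
      (Cfsg.fittingSubgroup H ≠ ⊥ ∧ (Cfsg.fittingSubgroup H).Normal ∧
        Group.IsNilpotent (Cfsg.fittingSubgroup H)) := by
  by_cases hex : ∃ N : Subgroup H, (N.Normal ∧ Group.IsNilpotent N) ∧ N ≠ ⊥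
  · right
    obtain ⟨N₀, ⟨hn0, hnil0⟩, hN0⟩ := hex
    have hF : Cfsg.fittingSubgroup H = N₀ := by
      apply le_antisymm
      · apply sSup_le
        rintro N ⟨hn, hnil⟩
        by_cases hN : N = ⊥
        · rw [hN]; exact bot_le
        · exact (normal_nilpotent_unique hfaith N N₀ hN hN0 hnil hnil0).le
      · exact le_sSup ⟨hn0, hnil0⟩
    rw [hF]
    exact ⟨hN0, hn0, hnil0⟩
  · left
    push Not at hex
    apply le_antisymm _ bot_le
    apply sSup_le
    rintro N hN
    rw [hex N hN]

/-- A nontrivial abelian normal subgroup of a finite faithful primitive group has prime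
exponent. -/
theorem normal_abelian_exponent [Finite H] [IsPreprimitive H X]
    (hfaith : ∀ h : H, (∀ x : X, h • x = x) → h = 1)
    (N : Subgroup H) [hn : N.Normal] (hN : N ≠ ⊥) (hNc : ∀ a ∈ N, ∀ b ∈ N, a * b = b * a) :
    ∃ p : ℕ, p.Prime ∧ ∀ x ∈ N, x ^ p = 1 := by
  haveI : Nontrivial N := (Subgroup.nontrivial_iff_ne_bot N).mpr hN
  have hcard : 1 < Nat.card N := Finite.one_lt_card
  obtain ⟨p, hp, hpd⟩ := Nat.exists_prime_and_dvd (ne_of_gt hcard)
  haveI : Fact p.Prime := ⟨hp⟩
  obtain ⟨x₀, hx₀⟩ := exists_prime_orderOf_dvd_card' p hpd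
  let K : Subgroup H :=
    { carrier := {x | x ∈ N ∧ x ^ p = 1}
      mul_mem' := by
        rintro a b ⟨ha, hap⟩ ⟨hb, hbp⟩
        refine ⟨N.mul_mem ha hb, ?_⟩
        have hc : Commute a b := hNc a ha b hb
        rw [hc.mul_pow, hap, hbp, one_mul]
      one_mem' := ⟨N.one_mem, one_pow p⟩
      inv_mem' := by
        rintro a ⟨ha, hap⟩
        exact ⟨N.inv_mem ha, by rw [inv_pow, hap, inv_one]⟩ }
  haveI hKn : K.Normal := ⟨by
    rintro x ⟨hx, hxp⟩ g
    exact ⟨hn.conj_mem x hx g, by rw [conj_pow, hxp, mul_one, mul_inv_cancel]⟩⟩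
  have hK : K ≠ ⊥ := by
    intro hbot
    have h1 : (x₀ : H) ∈ K := by
      refine ⟨x₀.2, ?_⟩
      have h2 : x₀ ^ p = 1 := by rw [← hx₀]; exact pow_orderOf_eq_one x₀
      have h3 := congrArg Subtype.val h2
      simpa using h3
    rw [hbot, Subgroup.mem_bot] at h1
    have h2 : x₀ = 1 := Subtype.ext h1
    rw [h2, orderOf_one] at hx₀
    exact hp.one_lt.ne hx₀
  have hKN : K ≤ N := fun x hx => hx.1
  have hle := le_of_normal_le_abelian hfaith K N hK hKN hNc
  exact ⟨p, hp, fun x hx => (hle hx).2⟩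

end

/-- A subgroup fixing `α` and acting freely on the other points has order dividing
`|Ω| - 1`. -/
theorem card_dvd_card_sub_one {G : Type*} [Group G] {Ω : Type*} [Fintype Ω] [MulAction G Ω]
    (F : Subgroup G) (α : Ω) (hα : ∀ f ∈ F, f • α = α)
    (hfree : ∀ f ∈ F, ∀ ω : Ω, ω ≠ α → f • ω = ω → f = 1) :
    Nat.card F ∣ Fintype.card Ω - 1 := by
  let S : SubMulAction F Ω :=
    { carrier := {ω | ω ≠ α}
      smul_mem' := by
        intro f ω hω hfω
        apply hω
        have h1 : (f : G) • ω = α := hfω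
        have h2 : (f : G)⁻¹ • α = α := by
          have := hα f f.2
          rw [inv_smul_eq_iff, this]
        rw [← h2, ← h1, inv_smul_smul] }
  have hstab : ∀ b : S, stabilizer F b = ⊥ := by
    intro b
    rw [Subgroup.eq_bot_iff_forall]
    intro f hf
    have h1 : f • b = b := hf
    have h2 : (f : G) • (b : Ω) = b := congrArg Subtype.val h1
    exact Subtype.ext (hfree f f.2 b b.2 h2)
  have e := selfEquivOrbitsQuotientProd hstab
  have h1 : Nat.card S = Nat.card (Quotient (orbitRel F S)) * Nat.card F := by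
    rw [Nat.card_congr e, Nat.card_prod]
  have h2 : Nat.card S = Fintype.card Ω - 1 := by
    have h3 : Nat.card S = Set.ncard {ω : Ω | ω ≠ α} := Nat.card_coe_set_eq _
    have h4 : {ω : Ω | ω ≠ α} = Set.univ \ {α} := by
      ext ω; simp
    rw [h3, h4, Set.ncard_sdiff_singleton_of_mem (Set.mem_univ α), Set.ncard_univ,
      Nat.card_eq_fintype_card]
  rw [← h2, h1]
  exact dvd_mul_left _ _

end Cfsg.Agent.Lib.helper62
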