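import Mathlib
import Cfsg.Agent.Lib.helper62.PrimNormal
import Cfsg.Agent.Lib.helper62.Derangement

set_option autoImplicit false

namespace Cfsg.Agent.Lib.helper62

open MulAction

section
variable {G : Type*} [Group G] {Ω : Type*} [MulAction G Ω]

/-- Let `A`, `B` be elementwise commuting subgroups with `AB` transitive, and `a₁ ∈ A` such
that `a₁ b` has a fixed point for every nontrivial `b ∈ B`. Then `A` is transitive. -/
theorem trans_of_commuting_fix [Finite G] (A B : Subgroup G)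
    (hcomm : ∀ a ∈ A, ∀ b ∈ B, a * b = b * a)
    (htr : ∀ x y : Ω, ∃ a ∈ A, ∃ b ∈ B, (a * b) • x = y)
    (a₁ : G) (ha₁ : a₁ ∈ A) (hfix : ∀ b ∈ B, b ≠ 1 → ∃ β : Ω, (a₁ * b) • β = β) (α : Ω) :
    ∀ y : Ω, ∃ a ∈ A, a • α = y := by
  let B₀ : Subgroup G :=
    { carrier := {b | b ∈ B ∧ ∃ a ∈ A, b • α = a • α}
      mul_mem' := by
        rintro b b' ⟨hb, a, ha, hba⟩ ⟨hb', a', ha', hba'⟩
        refine ⟨B.mul_mem hb hb', a' * a, A.mul_mem ha' ha, ?_⟩
        rw [mul_smul, hba', ← mul_smul, ← hcomm a' ha' b hb, mul_smul, hba, mul_smul]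
      one_mem' := ⟨B.one_mem, 1, A.one_mem, rfl⟩
      inv_mem' := by
        rintro b ⟨hb, a, ha, hba⟩
        refine ⟨B.inv_mem hb, a⁻¹, A.inv_mem ha, ?_⟩
        rw [inv_smul_eq_iff, ← mul_smul, ← hcomm a⁻¹ (A.inv_mem ha) b hb, mul_smul, hba,
          inv_smul_smul] }
  have hle : B₀ ≤ B := fun b hb => hb.1
  have hB₀ : B₀ = B := by
    apply eq_of_forall_conj_mem B₀ B hle
    intro b hb
    by_cases hb1 : b = 1
    · exact ⟨1, B.one_mem, by rw [hb1]; simp⟩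
    · obtain ⟨β, hβ⟩ := hfix b hb hb1
      obtain ⟨a', ha', b', hb', hab⟩ := htr α β
      refine ⟨b', hb', B.mul_mem (B.mul_mem (B.inv_mem hb') hb) hb',
        a'⁻¹ * a₁⁻¹ * a', A.mul_mem (A.mul_mem (A.inv_mem ha') (A.inv_mem ha₁)) ha', ?_⟩
      have h1 : b' • α = a'⁻¹ • β := by
        rw [← hab, mul_smul, inv_smul_smul]
      have h2 : b • β = a₁⁻¹ • β := by
        rw [mul_smul] at hβ
        rw [eq_inv_smul_iff, hβ]
      have h3 : b * a'⁻¹ = a'⁻¹ * b := (hcomm a'⁻¹ (A.inv_mem ha') b hb).symm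
      have h4 : b'⁻¹ * (a'⁻¹ * a₁⁻¹ * a') = (a'⁻¹ * a₁⁻¹ * a') * b'⁻¹ :=
        (hcomm _ (A.mul_mem (A.mul_mem (A.inv_mem ha') (A.inv_mem ha₁)) ha') _
          (B.inv_mem hb')).symm
      calc (b'⁻¹ * b * b') • α = b'⁻¹ • (b • (b' • α)) := by rw [mul_smul, mul_smul]
        _ = b'⁻¹ • ((b * a'⁻¹) • β) := by rw [h1, mul_smul]
        _ = b'⁻¹ • (a'⁻¹ • (a₁⁻¹ • β)) := by rw [h3, mul_smul, h2]
        _ = b'⁻¹ • ((a'⁻¹ * a₁⁻¹ * a') • (b' • α)) := by
            rw [h1, mul_smul, mul_smul, smul_inv_smul]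
        _ = (b'⁻¹ * (a'⁻¹ * a₁⁻¹ * a')) • (b' • α) := (mul_smul _ _ _).symm
        _ = (a'⁻¹ * a₁⁻¹ * a') • α := by rw [h4, mul_smul, inv_smul_smul]
  intro y
  obtain ⟨a, ha, b, hb, hab⟩ := htr α y
  have hb' : b ∈ B₀ := by rw [hB₀]; exact hb
  obtain ⟨_, a'', ha'', hba''⟩ := hb'
  exact ⟨a * a'', A.mul_mem ha ha'', by rw [mul_smul, ← hba'', ← mul_smul, hab]⟩

end

/-- Structure of a nonabelian, non-simple minimal normal subgroup `N` of a finite group:
`N = T × C` with `T` a minimal normal subgroup of `N`, `C = C_N(T)`, and every `G`-conjugate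
of `T` is `T` or lies in `C`. -/
theorem exists_TC_of_minimal_normal {G : Type*} [Group G] [Finite G] (N : Subgroup G)
    [hN : N.Normal] (hmin : ∀ K : Subgroup G, K.Normal → K ≠ ⊥ → K ≤ N → K = N)
    (hnab : ¬ ∀ a ∈ N, ∀ b ∈ N, a * b = b * a) (hns : ¬ IsSimpleGroup N) :
    ∃ T C : Subgroup G, T ≤ N ∧ C ≤ N ∧ T ≠ ⊥ ∧
      (∀ t ∈ T, ∀ c ∈ C, t * c = c * t) ∧ (∀ x ∈ T, x ∈ C → x = 1) ∧
      (∀ n ∈ N, ∃ t ∈ T, ∃ c ∈ C, n = t * c) ∧
      (∀ n ∈ N, ∀ t ∈ T, n * t * n⁻¹ ∈ T) ∧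
      (∀ g : G, (∀ t ∈ T, g * t * g⁻¹ ∈ T) ∨ (∀ t ∈ T, g * t * g⁻¹ ∈ C)) ∧
      (∃ g : G, ∃ t ∈ T, g * t * g⁻¹ ∉ T) := by
  have hNbot : N ≠ ⊥ := by
    intro h
    apply hnab
    intro a ha b hb
    rw [h, Subgroup.mem_bot] at ha hb
    rw [ha, hb]
  haveI : Nontrivial N := (Subgroup.nontrivial_iff_ne_bot N).mpr hNbot
  obtain ⟨R, hRn, hRbot, hRtop⟩ : ∃ R : Subgroup N, R.Normal ∧ R ≠ ⊥ ∧ R ≠ ⊤ := by
    by_contra hcon
    push Not at hcon
    exact hns ⟨fun R hR => by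
      by_cases h : R = ⊥
      · exact Or.inl h
      · exact Or.inr (hcon R hR h)⟩
  let P : Subgroup G → Prop := fun K => K ≤ N ∧ K ≠ ⊥ ∧ ∀ n ∈ N, ∀ k ∈ K, n * k * n⁻¹ ∈ K
  have hPR : P (R.map N.subtype) := by
    refine ⟨?_, ?_, ?_⟩
    · rintro _ ⟨r, _, rfl⟩
      exact r.2
    · intro h
      exact hRbot ((Subgroup.map_eq_bot_iff_of_injective R (Subgroup.subtype_injective N)).mp h)
    · rintro n hn _ ⟨r, hr, rfl⟩
      exact ⟨⟨n, hn⟩ * r * ⟨n, hn⟩⁻¹, hRn.conj_mem r hr ⟨n, hn⟩, rfl⟩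
  obtain ⟨T, ⟨hTN, hTbot, hTinv⟩, hTmin⟩ := exists_minimal_subgroup P ⟨_, hPR⟩
  have hTneN : T ≠ N := by
    intro h
    have h1 : R.map N.subtype = T := hTmin _ hPR (by rw [h]; exact hPR.1)
    apply hRtop
    rw [h] at h1
    rw [eq_top_iff]
    intro x _
    have h2 : (x : G) ∈ R.map N.subtype := by rw [h1]; exact x.2
    obtain ⟨r, hr, hrx⟩ := h2
    have h3 : r = x := Subtype.ext hrx
    rw [← h3]
    exact hr
  -- conjugates of T
  let Tc : G → Subgroup G := fun g =>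
    { carrier := {x | g⁻¹ * x * g ∈ T}
      mul_mem' := by
        intro a b ha hb
        have h : g⁻¹ * (a * b) * g = (g⁻¹ * a * g) * (g⁻¹ * b * g) := by group
        simp only [Set.mem_setOf_eq] at *
        rw [h]
        exact T.mul_mem ha hb
      one_mem' := by
        have h : g⁻¹ * 1 * g = 1 := by group
        simp only [Set.mem_setOf_eq]
        rw [h]
        exact T.one_mem
      inv_mem' := by
        intro a ha
        have h : g⁻¹ * a⁻¹ * g = (g⁻¹ * a * g)⁻¹ := by group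
        simp only [Set.mem_setOf_eq] at *
        rw [h]
        exact T.inv_mem ha }
  have hmemTc : ∀ g x, x ∈ Tc g ↔ g⁻¹ * x * g ∈ T := fun g x => Iff.rfl
  have hconjmem : ∀ g, ∀ t ∈ T, g * t * g⁻¹ ∈ Tc g := by
    intro g t ht
    rw [hmemTc]
    have h : g⁻¹ * (g * t * g⁻¹) * g = t := by group
    rw [h]
    exact ht
  have hPTc : ∀ g, P (Tc g) := by
    intro g
    refine ⟨?_, ?_, ?_⟩
    · intro x hx
      have h1 := hN.conj_mem _ (hTN ((hmemTc g x).mp hx)) g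
      have h2 : g * (g⁻¹ * x * g) * g⁻¹ = x := by group
      rw [h2] at h1
      exact h1
    · intro hbot
      obtain ⟨t, ht1⟩ := (Subgroup.ne_bot_iff_exists_ne_one).mp hTbot
      have h1 := hconjmem g t t.2
      rw [hbot, Subgroup.mem_bot] at h1
      apply ht1
      apply Subtype.ext
      have h2 : (t : G) = g⁻¹ * (g * t * g⁻¹) * g := by group
      rw [h2, h1]
      simp
    · intro n hn x hx
      rw [hmemTc] at hx ⊢
      have h1 : g⁻¹ * n * g ∈ N := by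
        have := hN.conj_mem n hn g⁻¹
        simpa using this
      have h2 := hTinv _ h1 _ hx
      have h3 : g⁻¹ * n * g * (g⁻¹ * x * g) * (g⁻¹ * n * g)⁻¹ = g⁻¹ * (n * x * n⁻¹) * g := by
        group
      rw [h3] at h2
      exact h2
  have hdich : ∀ g, Tc g = T ∨ ∀ x, x ∈ Tc g → x ∈ T → x = 1 := by
    intro g
    by_cases hK : T ⊓ Tc g = ⊥
    · right
      intro x hx hxT
      have h1 : x ∈ T ⊓ Tc g := ⟨hxT, hx⟩
      rw [hK] at h1
      exact Subgroup.mem_bot.mp h1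
    · left
      have hPK : P (T ⊓ Tc g) :=
        ⟨inf_le_left.trans hTN, hK, fun n hn k hk =>
          ⟨hTinv n hn k hk.1, (hPTc g).2.2 n hn k hk.2⟩⟩
      have h1 : T ⊓ Tc g = T := hTmin _ hPK inf_le_left
      have h2 : T ≤ Tc g := by
        rw [← h1]
        exact inf_le_right
      have h3 : Tc g⁻¹ ≤ T := by
        intro x hx
        have h4 := h2 ((hmemTc g⁻¹ x).mp hx)
        have h5 : g⁻¹ * (g⁻¹⁻¹ * x * g⁻¹) * g = x := by group
        rw [hmemTc, h5] at h4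
        exact h4
      have h4 : Tc g⁻¹ = T := hTmin _ (hPTc g⁻¹) h3
      apply le_antisymm _ h2
      intro x hx
      have h5 : g⁻¹ * x * g ∈ Tc g⁻¹ := by
        rw [h4]
        exact hx
      have h6 : g⁻¹⁻¹ * (g⁻¹ * x * g) * g⁻¹ = x := by group
      rw [hmemTc, h6] at h5
      exact h5
  have hcommT : ∀ g, Tc g ≠ T → ∀ x ∈ Tc g, ∀ t ∈ T, t * x = x * t := by
    intro g hg x hx t ht
    have hd := (hdich g).resolve_left hg
    have hxN : x ∈ N := (hPTc g).1 hx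
    have h1 : x * t * x⁻¹ * t⁻¹ ∈ T := T.mul_mem (hTinv x hxN t ht) (T.inv_mem ht)
    have h2 : x * t * x⁻¹ * t⁻¹ ∈ Tc g := by
      have h3 : x * t * x⁻¹ * t⁻¹ = x * (t * x⁻¹ * t⁻¹) := by group
      rw [h3]
      exact (Tc g).mul_mem hx ((hPTc g).2.2 t (hTN ht) x⁻¹ ((Tc g).inv_mem hx))
    have h4 := hd _ h2 h1
    have h5 : x * t = (x * t * x⁻¹ * t⁻¹) * (t * x) := by group
    rw [h4, one_mul] at h5
    exact h5.symm
  have hJ : Subgroup.normalClosure (T : Set G) = N :=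
    hmin _ Subgroup.normalClosure_normal
      (fun h => hTbot (le_bot_iff.mp (h ▸ Subgroup.le_normalClosure)))
      (Subgroup.normalClosure_le_normal hTN)
  have hconjTC : ∀ g : G, (∀ t ∈ T, g * t * g⁻¹ ∈ T) ∨
      (∀ t ∈ T, g * t * g⁻¹ ∈ N ⊓ Subgroup.centralizer (T : Set G)) := by
    intro g
    by_cases hg : Tc g = T
    · left
      intro t ht
      have h1 := hconjmem g t ht
      rw [hg] at h1
      exact h1
    · right
      intro t ht
      have h1 := hconjmem g t ht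
      exact ⟨(hPTc g).1 h1, fun s hs => hcommT g hg _ h1 s hs⟩
  have hTnab : ¬ ∀ a ∈ T, ∀ b ∈ T, a * b = b * a := by
    intro hTab
    have hJle : Subgroup.normalClosure (T : Set G) ≤ Subgroup.centralizer (T : Set G) := by
      apply (Subgroup.closure_le _).mpr
      intro x hx
      rw [Group.mem_conjugatesOfSet_iff] at hx
      obtain ⟨t, ht, hc⟩ := hx
      rw [isConj_iff] at hc
      obtain ⟨g, rfl⟩ := hc
      rcases hconjTC g with h | h
      · intro s hs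
        exact hTab s hs _ (h t ht)
      · exact (h t ht).2
    have h1 : N ≤ Subgroup.centralizer (T : Set G) := hJ ▸ hJle
    have h3 : N ⊓ Subgroup.centralizer (N : Set G) = N := by
      apply hmin _ inferInstance _ inf_le_left
      intro hbot
      obtain ⟨t, ht1⟩ := (Subgroup.ne_bot_iff_exists_ne_one).mp hTbot
      have h4 : (t : G) ∈ N ⊓ Subgroup.centralizer (N : Set G) :=
        ⟨hTN t.2, fun n hn => (h1 hn t t.2).symm⟩
      rw [hbot, Subgroup.mem_bot] at h4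
      exact ht1 (Subtype.ext h4)
    apply hnab
    intro a ha b hb
    have h4 : b ∈ N ⊓ Subgroup.centralizer (N : Set G) := by
      rw [h3]
      exact hb
    exact h4.2 a ha
  have hdecomp : ∀ n ∈ N, ∃ t ∈ T, ∃ c ∈ N ⊓ Subgroup.centralizer (T : Set G), n = t * c := by
    let D : Subgroup G :=
      { carrier := {x | ∃ t ∈ T, ∃ c ∈ N ⊓ Subgroup.centralizer (T : Set G), x = t * c}
        mul_mem' := by
          rintro _ _ ⟨t, ht, c, hc, rfl⟩ ⟨t', ht', c', hc', rfl⟩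
          refine ⟨t * t', T.mul_mem ht ht', c * c', Subgroup.mul_mem _ hc hc', ?_⟩
          have h1 : t' * c = c * t' := hc.2 t' ht'
          calc t * c * (t' * c') = t * (c * t') * c' := by group
            _ = t * (t' * c) * c' := by rw [h1]
            _ = t * t' * (c * c') := by group
        one_mem' := ⟨1, T.one_mem, 1, Subgroup.one_mem _, by simp⟩
        inv_mem' := by
          rintro _ ⟨t, ht, c, hc, rfl⟩
          refine ⟨t⁻¹, T.inv_mem ht, c⁻¹, Subgroup.inv_mem _ hc, ?_⟩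
          have h1 : t * c = c * t := hc.2 t ht
          rw [h1, mul_inv_rev] }
    have hJD : Subgroup.normalClosure (T : Set G) ≤ D := by
      apply (Subgroup.closure_le _).mpr
      intro x hx
      rw [Group.mem_conjugatesOfSet_iff] at hx
      obtain ⟨t, ht, hc⟩ := hx
      rw [isConj_iff] at hc
      obtain ⟨g, rfl⟩ := hc
      rcases hconjTC g with h | h
      · exact ⟨_, h t ht, 1, Subgroup.one_mem _, by simp⟩
      · exact ⟨1, T.one_mem, _, h t ht, by simp⟩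
    intro n hn
    have h1 : n ∈ D := hJD (by rw [hJ]; exact hn)
    exact h1
  have hTC : ∀ x ∈ T, x ∈ N ⊓ Subgroup.centralizer (T : Set G) → x = 1 := by
    by_contra hcon
    push Not at hcon
    obtain ⟨x, hxT, hxC, hx1⟩ := hcon
    have hK : T ⊓ Subgroup.centralizer (T : Set G) ≠ ⊥ := by
      intro hbot
      have h1 : x ∈ T ⊓ Subgroup.centralizer (T : Set G) := ⟨hxT, hxC.2⟩
      rw [hbot, Subgroup.mem_bot] at h1
      exact hx1 h1
    have hPK : P (T ⊓ Subgroup.centralizer (T : Set G)) := by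
      refine ⟨inf_le_left.trans hTN, hK, ?_⟩
      intro n hn k hk
      refine ⟨hTinv n hn k hk.1, ?_⟩
      intro s hs
      have h1 : n⁻¹ * s * n ∈ T := by
        have := hTinv n⁻¹ (N.inv_mem hn) s hs
        simpa using this
      have h2 : n⁻¹ * s * n * k = k * (n⁻¹ * s * n) := hk.2 _ h1
      calc s * (n * k * n⁻¹) = n * (n⁻¹ * s * n * k) * n⁻¹ := by group
        _ = n * (k * (n⁻¹ * s * n)) * n⁻¹ := by rw [h2]
        _ = n * k * n⁻¹ * s := by group
    have h1 : T ⊓ Subgroup.centralizer (T : Set G) = T := hTmin _ hPK inf_le_left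
    apply hTnab
    intro a ha b hb
    have h2 : b ∈ T ⊓ Subgroup.centralizer (T : Set G) := by
      rw [h1]
      exact hb
    exact h2.2 a ha
  have hnotnormal : ∃ g : G, ∃ t ∈ T, g * t * g⁻¹ ∉ T := by
    by_contra hcon
    push Not at hcon
    have hTnormal : T.Normal := ⟨fun t ht g => hcon g t ht⟩
    exact hTneN (hmin T hTnormal hTbot hTN)
  exact ⟨T, N ⊓ Subgroup.centralizer (T : Set G), hTN, inf_le_left, hTbot,
    fun t ht c hc => hc.2 t ht, hTC, hdecomp, hTinv, hconjTC, hnotnormal⟩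

section
variable {G : Type*} [Group G] {Ω : Type*} [MulAction G Ω]

/-- A finite faithful primitive group in which all derangements are conjugate cannot have a
nonabelian minimal normal subgroup, unless it is almost simple. -/
theorem false_of_nonabelian_minimal [Finite G] [Finite Ω] [Nontrivial Ω] [IsPreprimitive G Ω]
    (hfaith : ∀ g : G, (∀ x : Ω, g • x = x) → g = 1)
    (hconj : ∀ d d' : G, (∀ ω : Ω, d • ω ≠ ω) → (∀ ω : Ω, d' • ω ≠ ω) →
      ∃ g : G, g * d * g⁻¹ = d')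
    (N : Subgroup G) [hN : N.Normal] (hNbot : N ≠ ⊥)
    (hmin : ∀ K : Subgroup G, K.Normal → K ≠ ⊥ → K ≤ N → K = N)
    (hnab : ¬ ∀ a ∈ N, ∀ b ∈ N, a * b = b * a)
    (hnas : ¬ ∃ T : Subgroup G, T.Normal ∧ IsSimpleGroup T ∧ ¬ IsMulCommutative T ∧
      Subgroup.centralizer (T : Set G) = ⊥) : False := by
  -- every nontrivial normal subgroup contains all derangements
  have hder : ∀ K : Subgroup G, K.Normal → K ≠ ⊥ →
      ∀ d : G, (∀ ω : Ω, d • ω ≠ ω) → d ∈ K := by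
    intro K hK hKbot d hd
    haveI := hK
    have htr := normal_transitive_of_faithful_prim hfaith K hKbot
    haveI : IsPretransitive K Ω := ⟨fun x y => by
      obtain ⟨k, hk, hkx⟩ := htr x y
      exact ⟨⟨k, hk⟩, hkx⟩⟩
    obtain ⟨k, hk⟩ := exists_derangement (H := K) (X := Ω)
    obtain ⟨g, hg⟩ := hconj (k : G) d (fun ω => hk ω) hd
    rw [← hg]
    exact hK.conj_mem _ k.2 g
  obtain ⟨d₀, hd₀⟩ := exists_derangement (H := G) (X := Ω)
  obtain ⟨α⟩ := (inferInstance : Nonempty Ω)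
  have hd₀1 : d₀ ≠ 1 := fun h => hd₀ α (by rw [h, one_smul])
  have hcent : Subgroup.centralizer (N : Set G) = ⊥ := by
    by_contra hC
    have h1 := hder _ inferInstance hC d₀ hd₀
    have h2 := hder N hN hNbot d₀ hd₀
    have h3 : N ⊓ Subgroup.centralizer (N : Set G) = N := by
      apply hmin _ inferInstance _ inf_le_left
      intro hbot
      have h4 : d₀ ∈ N ⊓ Subgroup.centralizer (N : Set G) := ⟨h2, h1⟩
      rw [hbot, Subgroup.mem_bot] at h4
      exact hd₀1 h4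
    apply hnab
    intro a ha b hb
    have h4 : b ∈ N ⊓ Subgroup.centralizer (N : Set G) := by
      rw [h3]
      exact hb
    exact h4.2 a ha
  have hns : ¬ IsSimpleGroup N := by
    intro hs
    apply hnas
    refine ⟨N, hN, hs, ?_, hcent⟩
    intro hc
    apply hnab
    intro a ha b hb
    have h1 := hc.is_comm.comm (⟨a, ha⟩ : N) ⟨b, hb⟩
    exact congrArg Subtype.val h1
  obtain ⟨T, C, hTN, hCN, hTbot, hcomm, hTC, hdecomp, hTinv, hconjTC, ⟨g₀, t₀, ht₀, hg₀⟩⟩ :=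
    exists_TC_of_minimal_normal N hmin hnab hns
  have htrN := normal_transitive_of_faithful_prim hfaith N hNbot
  -- a derangement in T
  have hfixT : ∀ t ∈ T, ∀ β : Ω, t • β = β → ∀ γ : Ω, ∃ t' ∈ T, t • (t' • γ) = t' • γ := by
    intro t ht β hβ γ
    obtain ⟨n, hn, hnβ⟩ := htrN β γ
    obtain ⟨s, hs, c, hc, rfl⟩ := hdecomp n hn
    refine ⟨s⁻¹, T.inv_mem hs, ?_⟩
    have h1 : s⁻¹ • γ = c • β := by rw [← hnβ, mul_smul, inv_smul_smul]
    rw [h1, ← mul_smul, hcomm t ht c hc, mul_smul, hβ]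
  have hTmove : ∃ t ∈ T, t • α ≠ α := by
    by_contra hcon
    push Not at hcon
    apply hTbot
    rw [Subgroup.eq_bot_iff_forall]
    intro t ht
    apply hfaith
    intro γ
    obtain ⟨n, hn, rfl⟩ := htrN α γ
    have h1 : n⁻¹ * t * n ∈ T := by
      have := hTinv n⁻¹ (N.inv_mem hn) t ht
      simpa using this
    have h2 := hcon _ h1
    rw [mul_smul, mul_smul, inv_smul_eq_iff] at h2
    exact h2
  obtain ⟨t₁, ht₁, hder₁⟩ : ∃ t₁ ∈ T, ∀ ω : Ω, t₁ • ω ≠ ω := by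
    obtain ⟨s, hs, hsα⟩ := hTmove
    haveI : Nontrivial (orbit T α) :=
      ⟨⟨⟨α, mem_orbit_self α⟩, ⟨s • α, ⟨⟨s, hs⟩, rfl⟩⟩,
        fun h => hsα (congrArg Subtype.val h).symm⟩⟩
    obtain ⟨t, ht⟩ := exists_derangement (H := T) (X := orbit T α)
    refine ⟨t, t.2, fun ω hω => ?_⟩
    obtain ⟨t', ht', h1⟩ := hfixT t t.2 ω hω α
    exact ht ⟨t' • α, ⟨⟨t', ht'⟩, rfl⟩⟩ (Subtype.ext h1)
  have ht₁1 : t₁ ≠ 1 := fun h => hder₁ α (by rw [h, one_smul])
  -- every derangement lies in T or in C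
  have hDTC : ∀ d : G, (∀ ω : Ω, d • ω ≠ ω) → d ∈ T ∨ d ∈ C := by
    intro d hd
    obtain ⟨g, rfl⟩ := hconj t₁ d hder₁ hd
    rcases hconjTC g with h | h
    · exact Or.inl (h t₁ ht₁)
    · exact Or.inr (h t₁ ht₁)
  have hstar : ∀ t ∈ T, t ≠ 1 → ∀ c ∈ C, c ≠ 1 → ∃ β : Ω, (t * c) • β = β := by
    intro t ht ht1 c hc hc1
    by_contra hcon
    push Not at hcon
    rcases hDTC _ hcon with h | h
    · apply hc1
      have h1 : c ∈ T := by
        have := T.mul_mem (T.inv_mem ht) h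
        simpa using this
      exact hTC c h1 hc
    · apply ht1
      have h1 : t ∈ C := by
        have := C.mul_mem h (C.inv_mem hc)
        simpa using this
      exact hTC t ht h1
  -- a derangement in C
  have hc₁ : g₀ * t₁ * g₀⁻¹ ∈ C := by
    rcases hconjTC g₀ with h | h
    · exact absurd (h t₀ ht₀) hg₀
    · exact h t₁ ht₁
  have hderc₁ : ∀ ω : Ω, (g₀ * t₁ * g₀⁻¹) • ω ≠ ω := by
    intro ω h
    apply hder₁ (g₀⁻¹ • ω)
    rw [mul_smul, mul_smul] at h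
    have h' := congrArg (fun x => g₀⁻¹ • x) h
    simp only [inv_smul_smul] at h'
    exact h'
  generalize g₀ * t₁ * g₀⁻¹ = c₁ at hc₁ hderc₁
  have hc₁1 : c₁ ≠ 1 := fun h => hderc₁ α (by rw [h, one_smul])
  -- transitivity of T and C
  have htrTC : ∀ x y : Ω, ∃ t ∈ T, ∃ c ∈ C, (t * c) • x = y := by
    intro x y
    obtain ⟨n, hn, hnx⟩ := htrN x y
    obtain ⟨t, ht, c, hc, rfl⟩ := hdecomp n hn
    exact ⟨t, ht, c, hc, hnx⟩
  have htrCT : ∀ x y : Ω, ∃ c ∈ C, ∃ t ∈ T, (c * t) • x = y := by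
    intro x y
    obtain ⟨t, ht, c, hc, h⟩ := htrTC x y
    exact ⟨c, hc, t, ht, by rw [← hcomm t ht c hc]; exact h⟩
  have hTtrα := trans_of_commuting_fix T C hcomm htrTC t₁ ht₁
    (fun c hc hc1 => hstar t₁ ht₁ ht₁1 c hc hc1) α
  have hCtrα := trans_of_commuting_fix C T (fun c hc t ht => (hcomm t ht c hc).symm) htrCT
    c₁ hc₁ (fun t ht ht1 => by
      obtain ⟨β, hβ⟩ := hstar t ht ht1 c₁ hc₁ hc₁1
      exact ⟨β, by rw [← hcomm t ht c₁ hc₁]; exact hβ⟩) α
  have hTtr : ∀ x y : Ω, ∃ t ∈ T, t • x = y := by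
    intro x y
    obtain ⟨s, hs, rfl⟩ := hTtrα x
    obtain ⟨s', hs', rfl⟩ := hTtrα y
    exact ⟨s' * s⁻¹, T.mul_mem hs' (T.inv_mem hs), by rw [mul_smul, inv_smul_smul]⟩
  have hCtr : ∀ x y : Ω, ∃ c ∈ C, c • x = y := by
    intro x y
    obtain ⟨s, hs, rfl⟩ := hCtrα x
    obtain ⟨s', hs', rfl⟩ := hCtrα y
    exact ⟨s' * s⁻¹, C.mul_mem hs' (C.inv_mem hs), by rw [mul_smul, inv_smul_smul]⟩
  have hCsemi : ∀ c ∈ C, ∀ x : Ω, c • x = x → c = 1 := by
    intro c hc x hx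
    exact centralizer_semiregular hfaith T hTtr c (fun t ht => hcomm t ht c hc) x hx
  -- all nonidentity elements of C are conjugate in C
  have hCconj : ∀ c ∈ C, c ≠ 1 → ∀ c' ∈ C, c' ≠ 1 → ∃ e ∈ C, e * c * e⁻¹ = c' := by
    intro c hc hc1 c' hc' hc'1
    obtain ⟨β, hβ⟩ := hstar t₁ ht₁ ht₁1 c hc hc1
    obtain ⟨γ, hγ⟩ := hstar t₁ ht₁ ht₁1 c' hc' hc'1
    obtain ⟨e, he, heβ⟩ := hCtr β γ
    refine ⟨e, he, ?_⟩
    have h1 : c • β = t₁⁻¹ • β := by
      rw [mul_smul] at hβ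
      rw [eq_inv_smul_iff, hβ]
    have h2 : c' • γ = t₁⁻¹ • γ := by
      rw [mul_smul] at hγ
      rw [eq_inv_smul_iff, hγ]
    have h3 : (e * c * e⁻¹) • γ = t₁⁻¹ • γ := by
      rw [← heβ, mul_smul, mul_smul, inv_smul_smul, h1, ← mul_smul, ← mul_smul,
        hcomm t₁⁻¹ (T.inv_mem ht₁) e he]
    have h4 : (c'⁻¹ * (e * c * e⁻¹)) • γ = γ := by
      rw [mul_smul, h3, ← h2, inv_smul_smul]
    have h5 := hCsemi _ (C.mul_mem (C.inv_mem hc')
      (C.mul_mem (C.mul_mem he hc) (C.inv_mem he))) γ h4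
    rw [inv_mul_eq_one] at h5
    exact h5.symm
  -- C is a p-group, hence has a nontrivial centre
  haveI : Nontrivial C := ⟨⟨⟨c₁, hc₁⟩, 1, fun h => hc₁1 (congrArg Subtype.val h)⟩⟩
  have hcardC : 1 < Nat.card C := Finite.one_lt_card
  obtain ⟨p, hp, hpd⟩ := Nat.exists_prime_and_dvd (ne_of_gt hcardC)
  haveI : Fact p.Prime := ⟨hp⟩
  obtain ⟨x₀, hx₀⟩ := exists_prime_orderOf_dvd_card' p hpd
  have hx₀1 : (x₀ : G) ≠ 1 := by
    intro h
    have h2 : x₀ = 1 := Subtype.ext h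
    rw [h2, orderOf_one] at hx₀
    exact hp.one_lt.ne hx₀
  have hx₀p : (x₀ : G) ^ p = 1 := by
    have h2 : x₀ ^ p = 1 := by rw [← hx₀]; exact pow_orderOf_eq_one x₀
    have h3 := congrArg Subtype.val h2
    simpa using h3
  have hpg : IsPGroup p C := by
    intro c
    by_cases hc1 : c = 1
    · exact ⟨0, by rw [hc1]; simp⟩
    · refine ⟨1, ?_⟩
      have hc1' : (c : G) ≠ 1 := fun h => hc1 (Subtype.ext h)
      obtain ⟨e, he, hec⟩ := hCconj x₀ x₀.2 hx₀1 c c.2 hc1'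
      apply Subtype.ext
      rw [pow_one]
      change (c : G) ^ p = 1
      rw [← hec, conj_pow, hx₀p, mul_one, mul_inv_cancel]
  haveI := hpg.center_nontrivial
  obtain ⟨z, hz1⟩ := exists_ne (1 : Subgroup.center C)
  have hz1' : ((z : C) : G) ≠ 1 := fun h => hz1 (Subtype.ext (Subtype.ext h))
  obtain ⟨e, he, hec⟩ := hCconj _ (z : C).2 hz1' c₁ hc₁ hc₁1
  have hzc : ∀ c ∈ C, c * ((z : C) : G) = ((z : C) : G) * c := by
    intro c hc
    have h1 := Subgroup.mem_center_iff.mp z.2 ⟨c, hc⟩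
    exact congrArg Subtype.val h1
  have hc₁z : c₁ = ((z : C) : G) := by
    rw [← hec, hzc e he, mul_inv_cancel_right]
  have hc₁cent : c₁ ∈ Subgroup.centralizer (N : Set G) := by
    intro n hn
    obtain ⟨t, ht, c, hc, rfl⟩ := hdecomp n hn
    have h1 : c * c₁ = c₁ * c := by rw [hc₁z]; exact hzc c hc
    have h2 : t * c₁ = c₁ * t := hcomm t ht c₁ hc₁
    calc t * c * c₁ = t * (c * c₁) := by group
      _ = t * (c₁ * c) := by rw [h1]
      _ = (t * c₁) * c := by group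
      _ = c₁ * t * c := by rw [h2]
      _ = c₁ * (t * c) := by group
  rw [hcent, Subgroup.mem_bot] at hc₁cent
  exact hc₁1 hc₁cent

end

end Cfsg.Agent.Lib.helper62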