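import Mathlib
import Cfsg.Agent.Lib.helper62.OneClassDerNA

set_option autoImplicit false

namespace Cfsg.Agent.Lib.helper62

open MulAction

/-- Let `N` be a nonabelian minimal normal subgroup of a finite group `G` and suppose
`N = T * C` with `T`, `C` commuting elementwise and `T ≠ 1`. Then `T` is not a `p`-group:
some element of `T` has order which is not a power of `p`. -/
theorem exists_orderOf_ne_prime_pow {G : Type*} [Group G] [Finite G] (N : Subgroup G)
    [hN : N.Normal] (hmin : ∀ K : Subgroup G, K.Normal → K ≠ ⊥ → K ≤ N → K = N)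
    (hnab : ¬ ∀ a ∈ N, ∀ b ∈ N, a * b = b * a)
    (T C : Subgroup G) (hTN : T ≤ N) (hTbot : T ≠ ⊥)
    (hcomm : ∀ t ∈ T, ∀ c ∈ C, t * c = c * t)
    (hdecomp : ∀ n ∈ N, ∃ t ∈ T, ∃ c ∈ C, n = t * c) (p : ℕ) (hp : p.Prime) :
    ∃ t ∈ T, ¬ ∃ k : ℕ, orderOf t = p ^ k := by
  by_contra hcon
  push Not at hcon
  have : Fact p.Prime := ⟨hp⟩
  have hpg : IsPGroup p T := by
    intro t
    obtain ⟨k, hk⟩ := hcon (t : G) t.2
    refine ⟨k, ?_⟩
    apply Subtype.ext
    rw [Subgroup.coe_pow, ← hk, pow_orderOf_eq_one]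
    rfl
  have : Nontrivial T := (Subgroup.nontrivial_iff_ne_bot T).mpr hTbot
  have hnt : Nontrivial (Subgroup.center T) := hpg.center_nontrivial
  obtain ⟨z, hz1⟩ := (Subgroup.ne_bot_iff_exists_ne_one).mp
    ((Subgroup.nontrivial_iff_ne_bot _).mp hnt)
  have hzT : ∀ t ∈ T, t * ((z : T) : G) = ((z : T) : G) * t := by
    intro t ht
    have h1 := Subgroup.mem_center_iff.mp z.2 ⟨t, ht⟩
    exact congrArg Subtype.val h1
  have hzN : ((z : T) : G) ∈ N ⊓ Subgroup.centralizer (N : Set G) := by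
    refine ⟨hTN (z : T).2, ?_⟩
    intro n hn
    obtain ⟨t, ht, c, hc, rfl⟩ := hdecomp n hn
    rw [mul_assoc, ← hcomm _ (z : T).2 c hc, ← mul_assoc, hzT t ht, mul_assoc]
  have h3 : N ⊓ Subgroup.centralizer (N : Set G) = N := by
    apply hmin _ inferInstance _ inf_le_left
    intro hbot
    rw [hbot, Subgroup.mem_bot] at hzN
    apply hz1
    apply Subtype.ext
    apply Subtype.ext
    exact hzN
  apply hnab
  intro a ha b hb
  have h4 : b ∈ N ⊓ Subgroup.centralizer (N : Set G) := by
    rw [h3]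
    exact hb
  exact h4.2 a ha

section
variable {G : Type*} [Group G] {Ω : Type*} [MulAction G Ω]

/-- Let `G` be a finite faithful primitive permutation group with a nonabelian minimal normal
subgroup `N`, and suppose `G` is not almost simple. Then for every prime `p` there is a
derangement in `N` whose order is not a power of `p`. -/
theorem exists_derangement_not_prime_pow [Finite G] [Finite Ω] [Nontrivial Ω]
    [IsPreprimitive G Ω]
    (hfaith : ∀ g : G, (∀ x : Ω, g • x = x) → g = 1)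
    (N : Subgroup G) [hN : N.Normal] (hNbot : N ≠ ⊥)
    (hmin : ∀ K : Subgroup G, K.Normal → K ≠ ⊥ → K ≤ N → K = N)
    (hnab : ¬ ∀ a ∈ N, ∀ b ∈ N, a * b = b * a)
    (hnas : ¬ ∃ T : Subgroup G, T.Normal ∧ IsSimpleGroup T ∧ ¬ IsMulCommutative T ∧
      Subgroup.centralizer (T : Set G) = ⊥) (p : ℕ) (hp : p.Prime) :
    ∃ d ∈ N, (∀ ω : Ω, d • ω ≠ ω) ∧ ¬ ∃ k : ℕ, orderOf d = p ^ k := by
  obtain ⟨α⟩ := (inferInstance : Nonempty Ω)
  have htrN := normal_transitive_of_faithful_prim hfaith N hNbot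
  by_cases hs : IsSimpleGroup N
  · have hC : Subgroup.centralizer (N : Set G) ≠ ⊥ := by
      intro hC
      apply hnas
      refine ⟨N, hN, hs, ?_, hC⟩
      intro hc
      apply hnab
      intro a ha b hb
      have h1 := hc.is_comm.comm (⟨a, ha⟩ : N) ⟨b, hb⟩
      exact congrArg Subtype.val h1
    have htrC := normal_transitive_of_faithful_prim hfaith (Subgroup.centralizer (N : Set G)) hC
    have hreg : ∀ n ∈ N, ∀ x : Ω, n • x = x → n = 1 := by
      intro n hn x hx
      apply centralizer_semiregular hfaith (Subgroup.centralizer (N : Set G)) htrC n ?_ x hx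
      intro c hc
      exact (hc n hn).symm
    obtain ⟨t, ht, hord⟩ := exists_orderOf_ne_prime_pow N hmin hnab N ⊥ le_rfl hNbot
      (fun t _ c hc => by rw [Subgroup.mem_bot.mp hc, mul_one, one_mul])
      (fun n hn => ⟨n, hn, 1, Subgroup.one_mem _, (mul_one n).symm⟩) p hp
    refine ⟨t, ht, fun ω hω => ?_, hord⟩
    apply hord
    refine ⟨0, ?_⟩
    rw [hreg t ht ω hω, orderOf_one, pow_zero]
  · obtain ⟨T, C, hTN, hCN, hTbot, hcomm, hTC, hdecomp, hTinv, hconjTC, ⟨g₀, t₀, ht₀, hg₀⟩⟩ :=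
      exists_TC_of_minimal_normal N hmin hnab hs
    obtain ⟨t₂, ht₂, hord₂⟩ := exists_orderOf_ne_prime_pow N hmin hnab T C hTN hTbot hcomm
      hdecomp p hp
    -- the projection of the point stabilizer to `T`
    let R : Subgroup G :=
      { carrier := {t | t ∈ T ∧ ∃ c ∈ C, t * c ∈ stabilizer G α}
        mul_mem' := by
          rintro t t' ⟨ht, c, hc, htc⟩ ⟨ht', c', hc', htc'⟩
          refine ⟨T.mul_mem ht ht', c * c', C.mul_mem hc hc', ?_⟩
          have h1 : t * t' * (c * c') = (t * c) * (t' * c') := by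
            rw [mul_assoc, ← mul_assoc t' c c', hcomm t' ht' c hc]
            simp only [mul_assoc]
          rw [h1]
          exact Subgroup.mul_mem _ htc htc'
        one_mem' := ⟨T.one_mem, 1, C.one_mem, by rw [mul_one]; exact Subgroup.one_mem _⟩
        inv_mem' := by
          rintro t ⟨ht, c, hc, htc⟩
          refine ⟨T.inv_mem ht, c⁻¹, C.inv_mem hc, ?_⟩
          have h1 : t⁻¹ * c⁻¹ = (t * c)⁻¹ := by
            rw [mul_inv_rev, ← hcomm t⁻¹ (T.inv_mem ht) c⁻¹ (C.inv_mem hc)]
          rw [h1]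
          exact Subgroup.inv_mem _ htc }
    have hRT : R ≤ T := fun t ht => ht.1
    by_cases hR : R = T
    · -- `T ⊓ stabilizer` is normalized by `N`, hence trivial
      have hKnorm : ∀ n ∈ N, ∀ x ∈ T, x • α = α → (n * x * n⁻¹) • α = α := by
        intro n hn x hx hxα
        obtain ⟨s, hs, c, hc, rfl⟩ := hdecomp n hn
        have hsR : s ∈ R := by rw [hR]; exact hs
        obtain ⟨_, c', hc', hsc'⟩ := hsR
        have h1 : s * c * x * (s * c)⁻¹ = (s * c') * x * (s * c')⁻¹ := by
          have e1 : s * c * x * (s * c)⁻¹ = s * x * s⁻¹ := by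
            rw [mul_inv_rev, mul_assoc s c x, ← hcomm x hx c hc]
            simp only [mul_assoc, mul_inv_cancel_left]
          have e2 : s * c' * x * (s * c')⁻¹ = s * x * s⁻¹ := by
            rw [mul_inv_rev, mul_assoc s c' x, ← hcomm x hx c' hc']
            simp only [mul_assoc, mul_inv_cancel_left]
          rw [e1, e2]
        rw [h1]
        have h2 : s * c' * x * (s * c')⁻¹ ∈ stabilizer G α :=
          Subgroup.mul_mem _ (Subgroup.mul_mem _ hsc' hxα) (Subgroup.inv_mem _ hsc')
        exact h2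
      have hK : ∀ x ∈ T, x • α = α → x = 1 := by
        intro x hx hxα
        apply hfaith
        intro γ
        obtain ⟨n, hn, rfl⟩ := htrN α γ
        have h1 := hKnorm n⁻¹ (N.inv_mem hn) x hx hxα
        rw [inv_inv, mul_smul, mul_smul, inv_smul_eq_iff] at h1
        exact h1
      refine ⟨t₂, hTN ht₂, fun ω hω => ?_, hord₂⟩
      apply hord₂
      refine ⟨0, ?_⟩
      obtain ⟨n, hn, rfl⟩ := htrN α ω
      have h1 : n⁻¹ * t₂ * n ∈ T := by
        have := hTinv n⁻¹ (N.inv_mem hn) t₂ ht₂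
        simpa using this
      have h2 : (n⁻¹ * t₂ * n) • α = α := by
        rw [mul_smul, mul_smul, inv_smul_eq_iff]
        exact hω
      have h3 := hK _ h1 h2
      have h4 : t₂ = 1 := by
        have h5 : t₂ = n * (n⁻¹ * t₂ * n) * n⁻¹ := by group
        rw [h5, h3, mul_one, mul_inv_cancel]
      rw [h4, orderOf_one, pow_zero]
    · -- an element of `T` not conjugate into `R`
      obtain ⟨t, ht, htR⟩ : ∃ t ∈ T, ∀ g ∈ T, g⁻¹ * t * g ∉ R := by
        by_contra hcon
        push Not at hcon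
        exact hR (eq_of_forall_conj_mem R T hRT hcon)
      have hder : ∀ y ∈ C, ∀ ω : Ω, (t * y) • ω ≠ ω := by
        intro y hy ω hω
        obtain ⟨n, hn, rfl⟩ := htrN α ω
        obtain ⟨s, hs, c, hc, rfl⟩ := hdecomp n hn
        apply htR s hs
        refine ⟨T.mul_mem (T.mul_mem (T.inv_mem hs) ht) hs, c⁻¹ * y * c,
          C.mul_mem (C.mul_mem (C.inv_mem hc) hy) hc, ?_⟩
        have h1 : s⁻¹ * t * s * (c⁻¹ * y * c) = (s * c)⁻¹ * (t * y) * (s * c) := by
          have e1 : s⁻¹ * t * s * (c⁻¹ * y * c) = c⁻¹ * (s⁻¹ * t * s) * (y * c) := by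
            rw [← hcomm (s⁻¹ * t * s) (T.mul_mem (T.mul_mem (T.inv_mem hs) ht) hs) c⁻¹
              (C.inv_mem hc)]
            simp only [mul_assoc]
          have e2 : s * y = y * s := hcomm s hs y hy
          rw [e1, mul_inv_rev]
          have e3 : (c⁻¹ * s⁻¹ * (t * y) * (s * c) : G) = c⁻¹ * (s⁻¹ * t * (y * s)) * c := by
            simp only [mul_assoc]
          rw [e3, ← e2]
          simp only [mul_assoc]
        rw [h1]
        change ((s * c)⁻¹ * (t * y) * (s * c)) • α = α
        rw [mul_smul, mul_smul, inv_smul_eq_iff]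
        exact hω
      -- an element of `C` whose order is not a power of `p`
      have hyC : g₀ * t₂ * g₀⁻¹ ∈ C := by
        rcases hconjTC g₀ with h | h
        · exact absurd (h t₀ ht₀) hg₀
        · exact h t₂ ht₂
      have hyord : orderOf (g₀ * t₂ * g₀⁻¹) = orderOf t₂ := by
        have := orderOf_injective (MulAut.conj g₀).toMonoidHom (MulAut.conj g₀).injective t₂
        simpa using this
      by_cases hto : ∃ k : ℕ, orderOf t = p ^ k
      · obtain ⟨a, ha⟩ := hto
        refine ⟨t * (g₀ * t₂ * g₀⁻¹), N.mul_mem (hTN ht) (hCN hyC), hder _ hyC, ?_⟩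
        rintro ⟨b, hb⟩
        apply hord₂
        have hc : Commute t (g₀ * t₂ * g₀⁻¹) := hcomm t ht _ hyC
        have h1 : (t * (g₀ * t₂ * g₀⁻¹)) ^ (p ^ (a + b)) = 1 := by
          rw [pow_add, pow_mul', ← hb, pow_orderOf_eq_one, one_pow]
        rw [hc.mul_pow] at h1
        have h2 : t ^ (p ^ (a + b)) = 1 := by
          rw [pow_add, pow_mul, ← ha, pow_orderOf_eq_one, one_pow]
        rw [h2, one_mul] at h1
        have h3 : orderOf (g₀ * t₂ * g₀⁻¹) ∣ p ^ (a + b) := orderOf_dvd_of_pow_eq_one h1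
        rw [hyord] at h3
        obtain ⟨j, _, hj⟩ := (Nat.dvd_prime_pow hp).mp h3
        exact ⟨j, hj⟩
      · refine ⟨t, hTN ht, fun ω hω => hder 1 C.one_mem ω (by rw [mul_one]; exact hω), hto⟩

end

end Cfsg.Agent.Lib.helper62
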