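import Mathlib
import Cfsg.Agent.Lib.helper3.SL23

set_option autoImplicit false

/-!
# Recognising `SL(2,3)` as an extension of `Q₈` by an element of order 3
-/

namespace Cfsg.Agent.Lib.helper62.SL23Rec

open QuaternionGroup Cfsg.Agent.Lib.helper3

/-- Evaluation at `(x, y)` of the standard word of an element of `Q₈`. -/
def ev (x y : QuaternionGroup 2) : QuaternionGroup 2 → QuaternionGroup 2
  | QuaternionGroup.a i => x ^ i.val
  | QuaternionGroup.xa i => y * x ^ i.val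

theorem ev_gen : ∀ z : QuaternionGroup 2, ev (a 1) (xa 0) z = z := by decide

theorem map_eq_ev (ψ : QuaternionGroup 2 ≃* QuaternionGroup 2) (z : QuaternionGroup 2) :
    ψ z = ev (ψ (a 1)) (ψ (xa 0)) z := by
  have h := ev_gen z
  cases z with
  | a i =>
    have h' : (a 1 : QuaternionGroup 2) ^ i.val = a i := h
    show ψ (a i) = ψ (a 1) ^ i.val
    rw [← map_pow, h']
  | xa i =>
    have h' : (xa 0 : QuaternionGroup 2) * a 1 ^ i.val = xa i := h
    show ψ (xa i) = ψ (xa 0) * ψ (a 1) ^ i.val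
    rw [← map_pow, ← map_mul, h']

theorem q8_key : ∀ x y : QuaternionGroup 2,
    ev x y (ev x y (ev x y (a 1))) = a 1 → ev x y (ev x y (ev x y (xa 0))) = xa 0 →
    ¬ (x = a 1 ∧ y = xa 0) →
    x ^ 2 = a 1 ^ 2 ∧ x * a 1 * x⁻¹ = (a 1)⁻¹ ∧ (ev x y x = x * a 1 ∨ ev x y x = a 1 * x) ∧
    (∀ z : QuaternionGroup 2, ∃ i j : Fin 4, z = a 1 ^ (i : ℕ) * x ^ (j : ℕ)) ∧
    (∀ z : QuaternionGroup 2, ∃ i j : Fin 4, z = (a 1)⁻¹ ^ (i : ℕ) * x⁻¹ ^ (j : ℕ)) := by
  decide

theorem q8_a_one : (a 1 : QuaternionGroup 2) ^ 4 = 1 ∧ (a 1 : QuaternionGroup 2) ^ 2 ≠ 1 ∧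
    ((a 1)⁻¹ : QuaternionGroup 2) ^ 4 = 1 ∧ ((a 1)⁻¹ : QuaternionGroup 2) ^ 2 ≠ 1 := by decide

/-- A group of order 24 with a normal quaternion subgroup and an element of order 3 that does
not centralise it is isomorphic to `SL(2,3)`. -/
theorem sl23_of_normal_q8 {X : Type*} [Group X] [Finite X] (N : Subgroup X) [N.Normal]
    (eN : N ≃* QuaternionGroup 2) (c : X) (hc : c ^ 3 = 1)
    (hcN : ∃ n ∈ N, c * n * c⁻¹ ≠ n) (hcard : Nat.card X = 24) :
    Nonempty (X ≃* SL23) := by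
  classical
  let τ : QuaternionGroup 2 →* X := N.subtype.comp eN.symm.toMonoidHom
  have hτinj : Function.Injective τ := N.subtype_injective.comp eN.symm.injective
  have hτe : ∀ n : N, τ (eN n) = n := by
    intro n
    show ((eN.symm (eN n) : N) : X) = n
    rw [MulEquiv.symm_apply_apply]
  let ψ : QuaternionGroup 2 ≃* QuaternionGroup 2 :=
    (eN.symm.trans (MulAut.conjNormal c)).trans eN
  have hψ : ∀ q, τ (ψ q) = c * τ q * c⁻¹ := by
    intro q
    show ((eN.symm (eN (MulAut.conjNormal c (eN.symm q))) : N) : X) = c * (eN.symm q : X) * c⁻¹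
    rw [MulEquiv.symm_apply_apply, MulAut.conjNormal_apply]
  have hψ3 : ∀ q, ψ (ψ (ψ q)) = q := by
    intro q
    apply hτinj
    rw [hψ, hψ, hψ]
    have h : c * (c * (c * τ q * c⁻¹) * c⁻¹) * c⁻¹ = c ^ 3 * τ q * (c ^ 3)⁻¹ := by
      simp only [pow_succ, pow_zero, one_mul, mul_inv_rev, mul_assoc]
    rw [h, hc]
    simp
  have hψ1 : ¬ (ψ (a 1) = a 1 ∧ ψ (xa 0) = xa 0) := by
    rintro ⟨h1, h2⟩
    obtain ⟨n, hn, hne⟩ := hcN
    apply hne
    have hq : ψ (eN ⟨n, hn⟩) = eN ⟨n, hn⟩ := by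
      rw [map_eq_ev ψ, h1, h2, ev_gen]
    have h3 := hψ (eN ⟨n, hn⟩)
    rw [hq, hτe] at h3
    exact h3.symm
  have hc1 : c ≠ 1 := by
    rintro rfl
    obtain ⟨n, hn, hne⟩ := hcN
    exact hne (by simp)
  have hoc : orderOf c = 3 := by
    have : Fact (Nat.Prime 3) := ⟨Nat.prime_three⟩
    exact orderOf_eq_prime hc hc1
  have hN8 : Nat.card N = 8 := by
    rw [Nat.card_congr eN.toEquiv, Nat.card_eq_fintype_card, QuaternionGroup.card]
  have key : ∀ u v : QuaternionGroup 2, u ^ 4 = 1 → u ^ 2 ≠ 1 → v ^ 2 = u ^ 2 →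
      v * u * v⁻¹ = u⁻¹ → ψ u = v → ψ v = v * u →
      (∀ z : QuaternionGroup 2, ∃ i j : Fin 4, z = u ^ (i : ℕ) * v ^ (j : ℕ)) →
      Nonempty (X ≃* SL23) := by
    intro u v hu4 hu2 hv2 hvu huv hvv hgen
    refine sl23_of_rel (τ u) (τ v) c ?_ ?_ ?_ ?_ ?_ ?_ hc ?_
    · rw [← map_pow, hu4, map_one]
    · rw [← map_pow]
      intro h
      apply hu2
      apply hτinj
      rw [h, map_one]
    · rw [← map_pow, ← map_pow, hv2]
    · rw [← map_inv, ← map_mul, ← map_mul, ← map_inv, hvu]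
    · rw [← hψ u, huv]
    · rw [← hψ v, hvv, map_mul]
    · have hNK : N ≤ Subgroup.closure {τ u, τ v, c} := by
        intro n hn
        obtain ⟨i, j, hij⟩ := hgen (eN ⟨n, hn⟩)
        have h1 : n = τ u ^ (i : ℕ) * τ v ^ (j : ℕ) := by
          have h2 := hτe ⟨n, hn⟩
          rw [hij, map_mul, map_pow, map_pow] at h2
          exact h2.symm
        rw [h1]
        exact mul_mem (pow_mem (Subgroup.subset_closure (by simp)) _)
          (pow_mem (Subgroup.subset_closure (by simp)) _)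
      have hcK : Subgroup.zpowers c ≤ Subgroup.closure {τ u, τ v, c} := by
        rw [Subgroup.zpowers_le]
        exact Subgroup.subset_closure (by simp)
      have h8 : 8 ∣ Nat.card (Subgroup.closure {τ u, τ v, c}) := by
        rw [← hN8]
        exact Subgroup.card_dvd_of_le hNK
      have h3 : 3 ∣ Nat.card (Subgroup.closure {τ u, τ v, c}) := by
        have := Subgroup.card_dvd_of_le hcK
        rwa [Nat.card_zpowers, hoc] at this
      have h24 : 24 ∣ Nat.card (Subgroup.closure {τ u, τ v, c}) :=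
        Nat.Coprime.mul_dvd_of_dvd_of_dvd (by norm_num : Nat.Coprime 8 3) h8 h3
      have hle : Nat.card (Subgroup.closure {τ u, τ v, c}) ≤ 24 := by
        rw [← hcard]
        exact Subgroup.card_le_card_group _
      apply (Subgroup.card_eq_iff_eq_top _).mp
      rw [hcard]
      exact le_antisymm hle (Nat.le_of_dvd Nat.card_pos h24)
  obtain ⟨hx2, hxa, hxx, hgen1, hgen2⟩ := q8_key (ψ (a 1)) (ψ (xa 0))
    (by rw [← map_eq_ev, ← map_eq_ev, ← map_eq_ev]; exact hψ3 _)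
    (by rw [← map_eq_ev, ← map_eq_ev, ← map_eq_ev]; exact hψ3 _) hψ1
  rw [← map_eq_ev] at hxx
  obtain ⟨q1, q2, q3, q4⟩ := q8_a_one
  rcases hxx with hxx | hxx
  · exact key (a 1) (ψ (a 1)) q1 q2 hx2 hxa rfl hxx hgen1
  · refine key (a 1)⁻¹ (ψ (a 1))⁻¹ q3 q4 ?_ ?_ (map_inv ψ _) ?_ hgen2
    · rw [inv_pow, inv_pow, hx2]
    · rw [inv_inv, inv_inv]
      have h : (ψ (a 1))⁻¹ * (ψ (a 1) * a 1 * (ψ (a 1))⁻¹) * ψ (a 1) = a 1 := by group
      rw [hxa] at h
      exact h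
    · rw [map_inv, hxx, mul_inv_rev]

end Cfsg.Agent.Lib.helper62.SL23Rec
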