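import Mathlib

set_option autoImplicit false

/-!
# Linear maps normalising an irreducible cyclic group are semilinear over a finite field

If `a` is a linear automorphism of a finite `ZMod q`-space `V` with no proper non-zero invariant
subspace, then `V` is identified with the additive group of the finite field
`AdjoinRoot (minpoly a)` so that every linear automorphism `h` with `h a h⁻¹ = a ^ j` acts as
`x ↦ y * σ x`.
-/

namespace Cfsg.Agent.Lib.helper62.SemiLin

open Polynomial

variable {q : ℕ} [Fact q.Prime] {V : Type*} [AddCommGroup V] [Module (ZMod q) V]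

theorem irreducible_minpoly [Module.Finite (ZMod q) V] [Nontrivial V]
    (a : Module.End (ZMod q) V)
    (hirr : ∀ W : Submodule (ZMod q) V, (∀ v ∈ W, a v ∈ W) → W = ⊥ ∨ W = ⊤) :
    Irreducible (minpoly (ZMod q) a) := by
  have hint : IsIntegral (ZMod q) a := Algebra.IsIntegral.isIntegral a
  have hne : minpoly (ZMod q) a ≠ 0 := minpoly.ne_zero hint
  have hcomm : ∀ g : (ZMod q)[X], ∀ v : V, aeval a g (a v) = a (aeval a g v) := by
    intro g v
    have h1 : aeval a g * a = a * aeval a g := by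
      calc aeval a g * a = aeval a g * aeval a X := by rw [aeval_X]
        _ = aeval a (g * X) := (map_mul _ _ _).symm
        _ = aeval a (X * g) := by rw [mul_comm]
        _ = aeval a X * aeval a g := map_mul _ _ _
        _ = a * aeval a g := by rw [aeval_X]
    exact congrArg (fun T : Module.End (ZMod q) V => T v) h1
  have key : ∀ g h : (ZMod q)[X], minpoly (ZMod q) a = g * h → aeval a g = 0 → IsUnit h := by
    intro g h hgh hg0
    obtain ⟨k, hk⟩ := minpoly.dvd (ZMod q) a hg0
    have hg : g ≠ 0 := by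
      rintro rfl
      rw [zero_mul] at hgh
      exact hne hgh
    have h2 : g * 1 = g * (h * k) := by
      rw [mul_one, ← mul_assoc, ← hgh, ← hk]
    exact IsUnit.of_mul_eq_one k (mul_left_cancel₀ hg h2).symm
  refine irreducible_iff.mpr ⟨minpoly.not_isUnit _ _, ?_⟩
  intro g h hgh
  have hW : ∀ v ∈ LinearMap.ker (aeval a g), a v ∈ LinearMap.ker (aeval a g) := by
    intro v hv
    rw [LinearMap.mem_ker] at hv ⊢
    rw [hcomm, hv, map_zero]
  rcases hirr _ hW with hbot | htop
  · left
    have hh0 : aeval a h = 0 := by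
      ext v
      have h1 : aeval a g (aeval a h v) = 0 := by
        have : aeval a (g * h) = 0 := by rw [← hgh]; exact minpoly.aeval _ _
        rw [map_mul] at this
        exact congrArg (fun T : Module.End (ZMod q) V => T v) this
      have h2 : aeval a h v ∈ LinearMap.ker (aeval a g) := LinearMap.mem_ker.mpr h1
      rw [hbot] at h2
      simpa using h2
    exact key h g (by rw [hgh, mul_comm]) hh0
  · right
    exact key g h hgh (LinearMap.ker_eq_top.mp htop)

theorem exists_field [Finite V] [Nontrivial V] (a : V ≃ₗ[ZMod q] V)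
    (hirr : ∀ W : Submodule (ZMod q) V, (∀ v ∈ W, a v ∈ W) → W = ⊥ ∨ W = ⊤) :
    ∃ (F : Type) (_ : Field F) (_ : Fintype F) (e : V ≃+ F),
      (∀ h : V ≃ₗ[ZMod q] V, (∃ j : ℕ, h * a * h⁻¹ = a ^ j) →
        ∃ (y : F) (σ : F ≃+* F), ∀ v : V, e (h v) = y * σ (e v)) ∧
      (∀ h : V ≃ₗ[ZMod q] V, h * a = a * h → ∃ y : F, ∀ v : V, e (h v) = y * e v) := by
  classical
  have hfin : Module.Finite (ZMod q) V := Module.Finite.of_finite
  let a' : Module.End (ZMod q) V := a.toLinearMap
  have hirr' : ∀ W : Submodule (ZMod q) V, (∀ v ∈ W, a' v ∈ W) → W = ⊥ ∨ W = ⊤ := hirr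
  have hfirr : Irreducible (minpoly (ZMod q) a') := irreducible_minpoly a' hirr'
  have hfact : Fact (Irreducible (minpoly (ZMod q) a')) := ⟨hfirr⟩
  let Φ : AdjoinRoot (minpoly (ZMod q) a') →+* Module.End (ZMod q) V :=
    Ideal.Quotient.lift (Ideal.span {minpoly (ZMod q) a'}) (aeval a').toRingHom (by
      intro g hg
      obtain ⟨k, rfl⟩ := Ideal.mem_span_singleton.mp hg
      show aeval a' (minpoly (ZMod q) a' * k) = 0
      rw [map_mul, minpoly.aeval, zero_mul])
  have hΦmk : ∀ g : (ZMod q)[X], Φ (AdjoinRoot.mk (minpoly (ZMod q) a') g) = aeval a' g :=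
    fun g => rfl
  obtain ⟨v₀, hv₀⟩ := exists_ne (0 : V)
  let ψ : AdjoinRoot (minpoly (ZMod q) a') →+ V :=
    { toFun := fun x => Φ x v₀
      map_zero' := by rw [map_zero]; rfl
      map_add' := fun x y => by rw [map_add]; rfl }
  have hψ : ∀ x, ψ x = Φ x v₀ := fun x => rfl
  have hψinj : Function.Injective ψ := by
    rw [injective_iff_map_eq_zero]
    intro x hx
    by_contra hx0
    have h1 : Φ (x⁻¹) (Φ x v₀) = v₀ := by
      rw [← Module.End.mul_apply, ← map_mul, inv_mul_cancel₀ hx0, map_one]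
      rfl
    rw [← hψ, hx, map_zero] at h1
    exact hv₀ h1.symm
  have hψsurj : Function.Surjective ψ := by
    let W : Submodule (ZMod q) V := AddSubgroup.toZModSubmodule q ψ.range
    have hWmem : ∀ v : V, v ∈ W ↔ ∃ x, ψ x = v := fun v => Iff.rfl
    have hW : ∀ v ∈ W, a' v ∈ W := by
      intro v hv
      obtain ⟨x, rfl⟩ := (hWmem v).mp hv
      refine (hWmem _).mpr ⟨AdjoinRoot.root (minpoly (ZMod q) a') * x, ?_⟩
      rw [hψ, hψ, map_mul, ← AdjoinRoot.mk_X, hΦmk, aeval_X]
      rfl
    rcases hirr' W hW with h | h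
    · exfalso
      have h1 : v₀ ∈ W := (hWmem _).mpr ⟨1, by rw [hψ, map_one]; rfl⟩
      rw [h] at h1
      exact hv₀ ((Submodule.mem_bot _).mp h1)
    · intro v
      have h1 : v ∈ W := h ▸ Submodule.mem_top
      exact (hWmem v).mp h1
  have hfinK : Finite (AdjoinRoot (minpoly (ZMod q) a')) := Finite.of_injective ψ hψinj
  let e₀ : AdjoinRoot (minpoly (ZMod q) a') ≃+ V := AddEquiv.ofBijective ψ ⟨hψinj, hψsurj⟩
  have he₀ : ∀ x, e₀ x = Φ x v₀ := fun x => rfl
  have hsymm : ∀ v : V, Φ (e₀.symm v) v₀ = v := fun v => by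
    rw [← he₀, AddEquiv.apply_symm_apply]
  have hmk : ∀ (x : AdjoinRoot (minpoly (ZMod q) a')) (w : V), Φ x v₀ = w → e₀.symm w = x := by
    intro x w hw
    rw [← hw, ← he₀, AddEquiv.symm_apply_apply]
  -- conjugation
  have hconj : ∀ (h : V ≃ₗ[ZMod q] V) (T : Module.End (ZMod q) V) (w : V),
      (LinearEquiv.conjAlgEquiv (ZMod q) h T) (h w) = h (T w) := by
    intro h T w
    rw [LinearEquiv.conjAlgEquiv_apply]
    simp
  refine ⟨AdjoinRoot (minpoly (ZMod q) a'), inferInstance, Fintype.ofFinite _, e₀.symm, ?_, ?_⟩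
  · rintro h ⟨j, hj⟩
    have hca : LinearEquiv.conjAlgEquiv (ZMod q) h a' = a' ^ j := by
      have h1 : (LinearEquiv.conjAlgEquiv (ZMod q) h a') = (h * a * h⁻¹ : V ≃ₗ[ZMod q] V).toLinearMap := by
        rw [LinearEquiv.conjAlgEquiv_apply]
        rfl
      rw [h1, hj]
      exact map_pow (LinearEquiv.automorphismGroup.toLinearMapMonoidHom (R := ZMod q) (M := V)) a j
    have haev : ∀ g : (ZMod q)[X], aeval a' (g.comp (X ^ j)) =
        LinearEquiv.conjAlgEquiv (ZMod q) h (aeval a' g) := by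
      intro g
      rw [aeval_comp, map_pow, aeval_X, ← hca, aeval_algHom_apply]
    have hdvd : minpoly (ZMod q) a' ∣ (minpoly (ZMod q) a').comp (X ^ j) := by
      apply minpoly.dvd
      rw [haev, minpoly.aeval, map_zero]
    have hcomp : ∀ g : (ZMod q)[X], g.eval₂ (AdjoinRoot.of (minpoly (ZMod q) a'))
        (AdjoinRoot.root (minpoly (ZMod q) a') ^ j) =
        AdjoinRoot.mk (minpoly (ZMod q) a') (g.comp (X ^ j)) := by
      intro g
      rw [← AdjoinRoot.aeval_eq, aeval_comp, map_pow, aeval_X, aeval_def,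
        AdjoinRoot.algebraMap_eq]
    have h0 : (minpoly (ZMod q) a').eval₂ (AdjoinRoot.of (minpoly (ZMod q) a'))
        (AdjoinRoot.root (minpoly (ZMod q) a') ^ j) = 0 := by
      rw [hcomp]
      exact AdjoinRoot.mk_eq_zero.mpr hdvd
    let σ₀ : AdjoinRoot (minpoly (ZMod q) a') →+* AdjoinRoot (minpoly (ZMod q) a') :=
      AdjoinRoot.lift (AdjoinRoot.of (minpoly (ZMod q) a'))
        (AdjoinRoot.root (minpoly (ZMod q) a') ^ j) h0
    have hσΦ : ∀ x, Φ (σ₀ x) = LinearEquiv.conjAlgEquiv (ZMod q) h (Φ x) := by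
      intro x
      induction x using AdjoinRoot.induction_on with
      | ih g =>
        show Φ (AdjoinRoot.lift _ _ h0 (AdjoinRoot.mk _ g)) = _
        rw [AdjoinRoot.lift_mk, hcomp, hΦmk, hΦmk, haev]
    have hσinj : Function.Injective σ₀ := σ₀.injective
    let σ : AdjoinRoot (minpoly (ZMod q) a') ≃+* AdjoinRoot (minpoly (ZMod q) a') :=
      RingEquiv.ofBijective σ₀ ⟨hσinj, Finite.injective_iff_surjective.mp hσinj⟩
    refine ⟨e₀.symm (h v₀), σ, fun v => ?_⟩
    apply hmk
    rw [map_mul, Module.End.mul_apply]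
    show Φ (e₀.symm (h v₀)) (Φ (σ₀ (e₀.symm v)) v₀) = h v
    rw [← Module.End.mul_apply, ← map_mul, mul_comm, map_mul, Module.End.mul_apply, hsymm, hσΦ,
      hconj, hsymm]
  · intro h hh
    have hca : LinearEquiv.conjAlgEquiv (ZMod q) h a' = a' := by
      have h1 : (LinearEquiv.conjAlgEquiv (ZMod q) h a') = (h * a * h⁻¹ : V ≃ₗ[ZMod q] V).toLinearMap := by
        rw [LinearEquiv.conjAlgEquiv_apply]
        rfl
      rw [h1, hh, mul_inv_cancel_right]
    have hΦc : ∀ x, LinearEquiv.conjAlgEquiv (ZMod q) h (Φ x) = Φ x := by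
      intro x
      induction x using AdjoinRoot.induction_on with
      | ih g => rw [hΦmk, ← aeval_algHom_apply, hca]
    refine ⟨e₀.symm (h v₀), fun v => ?_⟩
    apply hmk
    rw [map_mul, Module.End.mul_apply]
    rw [← Module.End.mul_apply, ← map_mul, mul_comm, map_mul, Module.End.mul_apply, hsymm,
      ← hΦc, hconj, hsymm]

end Cfsg.Agent.Lib.helper62.SemiLin
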