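import Mathlib
import Cfsg.Agent.Lib.helper62.SemiLinA
import Cfsg.Agent.Lib.helper15.LinReg
import Cfsg.Agent.Lib.helper6.IndexTwo

set_option autoImplicit false

/-!
# Regular linear groups with an irreducible cyclic normal subgroup

Such a group is semilinear over a finite field, and in odd characteristic it has a normal
subgroup of index 2.
-/

namespace Cfsg.Agent.Lib.helper62.SemiLin

open scoped commutatorElement

/-- A finite group with a commutative quotient of even order has a normal subgroup of index 2. -/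
theorem exists_index_two_of_surj_even {G B : Type*} [Group G] [Finite G] [CommGroup B] [Finite B]
    (φ : G →* B) (hφ : Function.Surjective φ) (hB : Even (Nat.card B)) :
    ∃ N : Subgroup G, N.Normal ∧ N.index = 2 := by
  classical
  have hfact : Fact (Nat.Prime 2) := ⟨Nat.prime_two⟩
  obtain ⟨k, m, hm, hkm⟩ := Nat.exists_eq_two_pow_mul_odd (Nat.card_pos (α := B)).ne'
  let ψ : G →* B := (powMonoidHom m).comp φ
  have hψ : ∀ g, ψ g = φ g ^ m := fun g => rfl
  have hP : IsPGroup 2 ψ.range := by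
    rintro ⟨x, g, rfl⟩
    refine ⟨k, Subtype.ext ?_⟩
    show (ψ g) ^ 2 ^ k = 1
    rw [hψ, ← pow_mul, mul_comm, ← hkm, pow_card_eq_one']
  obtain ⟨j, hj⟩ := hP.exists_card_eq
  have hidx : ψ.ker.index = 2 ^ j := by rw [Subgroup.index_ker, hj]
  have hj0 : j ≠ 0 := by
    rintro rfl
    have h2 : 2 ∣ Nat.card B := even_iff_two_dvd.mp hB
    obtain ⟨t, ht⟩ := exists_prime_orderOf_dvd_card' 2 h2
    obtain ⟨g, rfl⟩ := hφ t
    have h1 : ψ.ker = ⊤ := Subgroup.index_eq_one.mp (by rw [hidx, pow_zero])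
    have h3 : g ∈ ψ.ker := h1 ▸ Subgroup.mem_top g
    have h4 : φ g ^ m = 1 := MonoidHom.mem_ker.mp h3
    have h5 : orderOf (φ g) ∣ m := orderOf_dvd_of_pow_eq_one h4
    rw [ht] at h5
    exact (Nat.not_even_iff_odd.mpr hm) (even_iff_two_dvd.mpr h5)
  obtain ⟨j', rfl⟩ := Nat.exists_eq_succ_of_ne_zero hj0
  have hcardQ : Nat.card (G ⧸ ψ.ker) = 2 ^ (j' + 1) := by
    rw [← Subgroup.index_eq_card, hidx]
  obtain ⟨M, hM⟩ := Sylow.exists_subgroup_card_pow_prime 2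
    (show 2 ^ j' ∣ Nat.card (G ⧸ ψ.ker) from ⟨2, by rw [hcardQ, pow_succ]⟩)
  have hMidx : M.index = 2 := by
    have h1 := M.card_mul_index
    rw [hM, hcardQ, pow_succ] at h1
    exact Nat.eq_of_mul_eq_mul_left (pow_pos two_pos j') h1
  have hidx2 : (M.comap (QuotientGroup.mk' ψ.ker)).index = 2 := by
    rw [Subgroup.index_comap_of_surjective _ (QuotientGroup.mk'_surjective _)]
    exact hMidx
  exact ⟨_, Subgroup.normal_of_index_eq_two hidx2, hidx2⟩

theorem commutatorElement_commute_of_conj_pow {X : Type*} [Group X] (g h₁ h₂ : X) (i j k : ℕ)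
    (h1 : h₁ * g * h₁⁻¹ = g ^ i) (h2 : h₂ * g * h₂⁻¹ = g ^ j)
    (h3 : (h₂ * h₁)⁻¹ * g * (h₂ * h₁) = g ^ k) : ⁅h₁, h₂⁆ * g = g * ⁅h₁, h₂⁆ := by
  have hu : h₁ * h₂ * g * (h₁ * h₂)⁻¹ = g ^ (i * j) := by
    calc h₁ * h₂ * g * (h₁ * h₂)⁻¹ = h₁ * (h₂ * g * h₂⁻¹) * h₁⁻¹ := by group
      _ = h₁ * g ^ j * h₁⁻¹ := by rw [h2]
      _ = (h₁ * g * h₁⁻¹) ^ j := (conj_pow).symm
      _ = g ^ (i * j) := by rw [h1, pow_mul]
  have hw : h₂ * h₁ * g * (h₂ * h₁)⁻¹ = g ^ (i * j) := by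
    calc h₂ * h₁ * g * (h₂ * h₁)⁻¹ = h₂ * (h₁ * g * h₁⁻¹) * h₂⁻¹ := by group
      _ = h₂ * g ^ i * h₂⁻¹ := by rw [h1]
      _ = (h₂ * g * h₂⁻¹) ^ i := (conj_pow).symm
      _ = g ^ (i * j) := by rw [h2, mul_comm i j, pow_mul]
  have hc : ⁅h₁, h₂⁆ * g * ⁅h₁, h₂⁆⁻¹ = g := by
    calc ⁅h₁, h₂⁆ * g * ⁅h₁, h₂⁆⁻¹
        = h₁ * h₂ * ((h₂ * h₁)⁻¹ * g * (h₂ * h₁)) * (h₁ * h₂)⁻¹ := by
          rw [commutatorElement_def]; group
      _ = h₁ * h₂ * g ^ k * (h₁ * h₂)⁻¹ := by rw [h3]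
      _ = (h₁ * h₂ * g * (h₁ * h₂)⁻¹) ^ k := (conj_pow).symm
      _ = (h₂ * h₁ * g * (h₂ * h₁)⁻¹) ^ k := by rw [hu, hw]
      _ = h₂ * h₁ * g ^ k * (h₂ * h₁)⁻¹ := conj_pow
      _ = g := by rw [← h3]; group
  exact mul_inv_eq_iff_eq_mul.mp hc

variable {q : ℕ} [Fact q.Prime] {V : Type*} [AddCommGroup V] [Module (ZMod q) V] [Finite V]
  [Nontrivial V]

theorem semilinear_case (H : Subgroup (V ≃ₗ[ZMod q] V))
    (hreg : ∀ v w : V, v ≠ 0 → w ≠ 0 → ∃! h : H, (h : V ≃ₗ[ZMod q] V) v = w)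
    (A : Subgroup H) (hAn : A.Normal) (hAc : IsCyclic A)
    (hA : ¬ ∃ W : Submodule (ZMod q) V, W ≠ ⊥ ∧ W ≠ ⊤ ∧
      ∀ a ∈ A, ∀ v ∈ W, ((a : H) : V ≃ₗ[ZMod q] V) v ∈ W) :
    (∃ (F : Type) (_ : Field F) (_ : Fintype F) (e : V ≃+ F),
        ∀ h : H, ∃ (y : F) (σ : F ≃+* F), ∀ v : V,
          e ((h : V ≃ₗ[ZMod q] V) v) = y * σ (e v)) ∧
    (q ≠ 2 → ∃ N : Subgroup H, N.Normal ∧ N.index = 2) := by
  classical
  have hfinE : Finite (V ≃ₗ[ZMod q] V) :=
    Finite.of_injective (fun e : V ≃ₗ[ZMod q] V => (e : V → V)) DFunLike.coe_injective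
  obtain ⟨g, hg⟩ := hAc.exists_generator
  have hpow : ∀ x : H, x ∈ A → ∃ k : ℕ, x = (g : H) ^ k := by
    intro x hx
    have h1 : (⟨x, hx⟩ : A) ∈ Subgroup.zpowers g := hg _
    rw [← mem_powers_iff_mem_zpowers] at h1
    obtain ⟨k, hk⟩ := h1
    refine ⟨k, ?_⟩
    have h2 := congrArg (Subtype.val) hk
    simpa using h2.symm
  have hirr : ∀ W : Submodule (ZMod q) V,
      (∀ v ∈ W, ((g : H) : V ≃ₗ[ZMod q] V) v ∈ W) → W = ⊥ ∨ W = ⊤ := by
    intro W hW
    by_contra hcon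
    push Not at hcon
    apply hA
    refine ⟨W, hcon.1, hcon.2, ?_⟩
    intro a ha v hv
    obtain ⟨k, rfl⟩ := hpow a ha
    induction k generalizing v with
    | zero => simpa using hv
    | succ n ih =>
      have h1 : (((g : H) ^ (n + 1) : H) : V ≃ₗ[ZMod q] V) v =
          ((g : H) : V ≃ₗ[ZMod q] V) ((((g : H) ^ n : H) : V ≃ₗ[ZMod q] V) v) := by
        rw [pow_succ']
        rfl
      rw [h1]
      exact hW _ (ih v hv (A.pow_mem g.2 n))
  have hnormH : ∀ h : H, ∃ j : ℕ, h * (g : H) * h⁻¹ = (g : H) ^ j := by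
    intro h
    exact hpow _ (hAn.conj_mem _ g.2 h)
  have hnorm : ∀ h : H, ∃ j : ℕ, (h : V ≃ₗ[ZMod q] V) * ((g : H) : V ≃ₗ[ZMod q] V) *
      (h : V ≃ₗ[ZMod q] V)⁻¹ = ((g : H) : V ≃ₗ[ZMod q] V) ^ j := by
    intro h
    obtain ⟨j, hj⟩ := hnormH h
    refine ⟨j, ?_⟩
    have h2 := congrArg (Subtype.val) hj
    simpa using h2
  obtain ⟨F, iF, iFt, e, he1, he2⟩ := exists_field ((g : H) : V ≃ₗ[ZMod q] V) hirr
  refine ⟨⟨F, iF, iFt, e, fun h => he1 _ (hnorm h)⟩, ?_⟩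
  intro hq2
  have hcardH : Nat.card H = q ^ Module.finrank (ZMod q) V - 1 :=
    Cfsg.Agent.Lib.helper15.LinReg.card_of_reg H hreg
  have hevenH : Even (Nat.card H) := by
    rw [hcardH]
    have hqodd : Odd q := (Fact.out : q.Prime).odd_of_ne_two hq2
    exact Nat.Odd.sub_odd hqodd.pow odd_one
  -- the centraliser of `g`
  have hCy : ∀ c : Subgroup.centralizer ({(g : H)} : Set H), ∃ y : F, ∀ v : V,
      e (((c : H) : V ≃ₗ[ZMod q] V) v) = y * e v := by
    intro c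
    apply he2
    have h1 : (g : H) * (c : H) = (c : H) * (g : H) :=
      (Subgroup.mem_centralizer_iff.mp c.2) (g : H) (Set.mem_singleton _)
    have h2 := congrArg (Subtype.val) h1
    simpa using h2.symm
  have he1' : ∀ w : F, e (e.symm w) = w := fun w => e.apply_symm_apply w
  have hχ : ∀ (c : Subgroup.centralizer ({(g : H)} : Set H)) (v : V),
      e (((c : H) : V ≃ₗ[ZMod q] V) v) = e (((c : H) : V ≃ₗ[ZMod q] V) (e.symm 1)) * e v := by
    intro c v
    obtain ⟨y, hy⟩ := hCy c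
    rw [hy v, hy (e.symm 1), he1', mul_one]
  let χ : Subgroup.centralizer ({(g : H)} : Set H) →* F :=
    { toFun := fun c => e (((c : H) : V ≃ₗ[ZMod q] V) (e.symm 1))
      map_one' := by
        show e (((1 : H) : V ≃ₗ[ZMod q] V) (e.symm 1)) = 1
        simp
      map_mul' := fun c c' => by
        show e ((((c : H) * (c' : H) : H) : V ≃ₗ[ZMod q] V) (e.symm 1)) = _
        have h1 : (((c : H) * (c' : H) : H) : V ≃ₗ[ZMod q] V) (e.symm 1) =
            ((c : H) : V ≃ₗ[ZMod q] V) (((c' : H) : V ≃ₗ[ZMod q] V) (e.symm 1)) := rfl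
        rw [h1, hχ c] }
  have hχinj : Function.Injective χ := by
    intro c c' hcc
    apply Subtype.ext
    apply Subtype.ext
    apply LinearEquiv.ext
    intro v
    apply e.injective
    rw [hχ c v, hχ c' v]
    exact congrArg (· * e v) hcc
  have hCcyc : IsCyclic (Subgroup.centralizer ({(g : H)} : Set H)) :=
    isCyclic_of_injective_ringHom χ hχinj
  have hcomm : commutator H ≤ Subgroup.centralizer ({(g : H)} : Set H) := by
    rw [commutator_def, Subgroup.commutator_le]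
    intro h₁ _ h₂ _
    obtain ⟨i, hi⟩ := hnormH h₁
    obtain ⟨j, hj⟩ := hnormH h₂
    obtain ⟨k, hk⟩ := hnormH (h₂ * h₁)⁻¹
    rw [inv_inv] at hk
    rw [Subgroup.mem_centralizer_iff]
    intro y hy
    rw [Set.mem_singleton_iff] at hy
    rw [hy]
    exact (commutatorElement_commute_of_conj_pow (g : H) h₁ h₂ i j k hi hj hk).symm
  by_cases hab : Even (Nat.card (Abelianization H))
  · exact exists_index_two_of_surj_even (Abelianization.of (G := H))
      (QuotientGroup.mk_surjective) hab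
  · have hfact : Fact (Nat.Prime 2) := ⟨Nat.prime_two⟩
    obtain ⟨T⟩ : Nonempty (Sylow 2 H) := inferInstance
    have hT : (T : Subgroup H) ≤ commutator H := by
      intro t ht
      rw [← Abelianization.ker_of, MonoidHom.mem_ker]
      obtain ⟨k, hk⟩ := T.isPGroup' ⟨t, ht⟩
      have hk' : t ^ 2 ^ k = 1 := by
        have := congrArg (Subtype.val) hk
        simpa using this
      have hd1 : orderOf (Abelianization.of t) ∣ 2 ^ k :=
        orderOf_dvd_of_pow_eq_one (by rw [← map_pow, hk', map_one])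
      have hd2 : orderOf (Abelianization.of t) ∣ Nat.card (Abelianization H) :=
        orderOf_dvd_natCard _
      have hodd : Odd (Nat.card (Abelianization H)) := Nat.not_even_iff_odd.mp hab
      have hcop : Nat.Coprime (2 ^ k) (Nat.card (Abelianization H)) :=
        Nat.Coprime.pow_left k (Nat.coprime_two_left.mpr hodd)
      exact orderOf_eq_one_iff.mp (Nat.eq_one_of_dvd_coprimes hcop hd1 hd2)
    have hTC : (T : Subgroup H) ≤ Subgroup.centralizer ({(g : H)} : Set H) := hT.trans hcomm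
    have hTcyc : IsCyclic T := Subgroup.isCyclic_of_le hTC
    obtain ⟨N, hN⟩ := Cfsg.Agent.Lib.helper6.exists_index_two_of_cyclic_sylow T hTcyc hevenH
    exact ⟨N, Subgroup.normal_of_index_eq_two hN, hN⟩

end Cfsg.Agent.Lib.helper62.SemiLin
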