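import Mathlib
import Cfsg.Agent.S3742
import Cfsg.Agent.Lib.helper62.SL23Rec
import Cfsg.Agent.Lib.helper62.SemiLinB
import Cfsg.Agent.Lib.helper62.FrobSolvB

set_option autoImplicit false

/-!
# Groups with a normal quaternion subgroup: index 2 subgroups, `SL(2,3)` and `SL(2,3) × C₅`
-/

namespace Cfsg.Agent.Lib.helper62.ExcReg

open Cfsg.Agent.Lib.helper3 Cfsg.Agent.Lib.helper62.SL23Rec Cfsg.Agent.Lib.helper62.SemiLin
  Cfsg.Agent.Lib.helper62.FrobSolv

/-- A normal subgroup whose index is a positive power of 2 lies in a subgroup of index 2. -/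
theorem exists_index_two_of_index_two_pow {G : Type*} [Group G] [Finite G] (K : Subgroup G)
    [K.Normal] (j : ℕ) (hK : K.index = 2 ^ (j + 1)) :
    ∃ N : Subgroup G, N.Normal ∧ N.index = 2 := by
  have hfact : Fact (Nat.Prime 2) := ⟨Nat.prime_two⟩
  have hcardQ : Nat.card (G ⧸ K) = 2 ^ (j + 1) := by
    rw [← Subgroup.index_eq_card, hK]
  obtain ⟨M, hM⟩ := Sylow.exists_subgroup_card_pow_prime 2
    (show 2 ^ j ∣ Nat.card (G ⧸ K) from ⟨2, by rw [hcardQ, pow_succ]⟩)
  have hMidx : M.index = 2 := by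
    have h1 := M.card_mul_index
    rw [hM, hcardQ, pow_succ] at h1
    exact Nat.eq_of_mul_eq_mul_left (pow_pos two_pos j) h1
  have hidx2 : (M.comap (QuotientGroup.mk' K)).index = 2 := by
    rw [Subgroup.index_comap_of_surjective _ (QuotientGroup.mk'_surjective _)]
    exact hMidx
  exact ⟨_, Subgroup.normal_of_index_eq_two hidx2, hidx2⟩

/-- If a group induces the full automorphism group on a normal quaternion subgroup, it has a
subgroup of index 2. -/
theorem exists_index_two_of_aut_q8 {G : Type*} [Group G] [Finite G] (N : Subgroup G) [N.Normal]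
    (eN : N ≃* QuaternionGroup 2)
    (h : Nat.card (MulAut.conjNormal : G →* MulAut N).range = 24) :
    ∃ M : Subgroup G, M.Normal ∧ M.index = 2 := by
  obtain ⟨σ⟩ := Cfsg.Agent.S3742.result
  let f : G →* MulAut N := MulAut.conjNormal
  have h24 : Nat.card (MulAut N) = 24 := by
    rw [Nat.card_congr (MulAut.congr eN).toEquiv, Nat.card_congr σ.toEquiv,
      Nat.card_eq_fintype_card, Fintype.card_perm]
    rfl
  have hfin : Finite (MulAut N) := Nat.finite_of_card_ne_zero (by rw [h24]; norm_num)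
  have htop : f.range = ⊤ := (Subgroup.card_eq_iff_eq_top _).mp (h.trans h24.symm)
  have hsurj : Function.Surjective f := MonoidHom.range_eq_top.mp htop
  let χ : G →* ℤˣ :=
    Equiv.Perm.sign.comp (σ.toMonoidHom.comp ((MulAut.congr eN).toMonoidHom.comp f))
  have hχ : Function.Surjective χ :=
    (Equiv.Perm.sign_surjective (Fin 4)).comp
      (σ.surjective.comp ((MulAut.congr eN).surjective.comp hsurj))
  exact exists_index_two_of_surj_even χ hχ
    (by rw [Nat.card_eq_fintype_card, Fintype.card_units_int]; exact even_two)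

/-- A group of order 24 with a normal quaternion subgroup whose centraliser has order
dividing 4 is `SL(2,3)`. -/
theorem sl23_of_card_24 {G : Type*} [Group G] [Finite G] (N : Subgroup G) [N.Normal]
    (eN : N ≃* QuaternionGroup 2) (hcard : Nat.card G = 24)
    (hker : Nat.card (MulAut.conjNormal : G →* MulAut N).ker ∣ 4) : Nonempty (G ≃* SL23) := by
  have hf3 : Fact (Nat.Prime 3) := ⟨Nat.prime_three⟩
  obtain ⟨c, hc⟩ := exists_prime_orderOf_dvd_card' (G := G) 3 (by rw [hcard]; norm_num)
  have hc3 : c ^ 3 = 1 := by rw [← hc]; exact pow_orderOf_eq_one c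
  refine sl23_of_normal_q8 N eN c hc3 ?_ hcard
  by_contra hcon
  push Not at hcon
  have hmem : c ∈ (MulAut.conjNormal : G →* MulAut N).ker := by
    rw [MonoidHom.mem_ker]
    apply MulEquiv.ext
    intro n
    apply Subtype.ext
    rw [MulAut.conjNormal_apply]
    exact hcon n n.2
  have h3 : 3 ∣ Nat.card (MulAut.conjNormal : G →* MulAut N).ker := by
    have := Subgroup.card_dvd_of_le ((Subgroup.zpowers_le).mpr hmem)
    rwa [Nat.card_zpowers, hc] at this
  have := h3.trans hker
  norm_num at this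

/-- A group of order 120 with a normal quaternion subgroup whose centraliser has order 10 is
`SL(2,3) × C₅`. -/
theorem sl23_prod_of_card_120 {G : Type*} [Group G] [Finite G] (N : Subgroup G) [N.Normal]
    (eN : N ≃* QuaternionGroup 2) (hcard : Nat.card G = 120)
    (hker : Nat.card (MulAut.conjNormal : G →* MulAut N).ker = 10) :
    Nonempty (G ≃* SL23 × Multiplicative (ZMod 5)) := by
  classical
  have hf3 : Fact (Nat.Prime 3) := ⟨Nat.prime_three⟩
  have hf5 : Fact (Nat.Prime 5) := ⟨Nat.prime_five⟩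
  let f : G →* MulAut N := MulAut.conjNormal
  have hker' : Nat.card f.ker = 10 := hker
  have hK : ∀ k ∈ f.ker, ∀ n ∈ N, k * n = n * k := by
    intro k hk n hn
    have h1 := mem_centralizer_of_conjNormal_eq_one N (MonoidHom.mem_ker.mp hk)
    exact ((Subgroup.mem_centralizer_iff.mp h1) n hn).symm
  have hN8 : Nat.card N = 8 := by
    rw [Nat.card_congr eN.toEquiv, Nat.card_eq_fintype_card, QuaternionGroup.card]
  -- an element of order 3
  obtain ⟨c, hc⟩ := exists_prime_orderOf_dvd_card' (G := G) 3 (by rw [hcard]; norm_num)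
  have hc3 : c ^ 3 = 1 := by rw [← hc]; exact pow_orderOf_eq_one c
  have hcN : ∃ n ∈ N, c * n * c⁻¹ ≠ n := by
    by_contra hcon
    push Not at hcon
    have hmem : c ∈ f.ker := by
      rw [MonoidHom.mem_ker]
      apply MulEquiv.ext
      intro n
      apply Subtype.ext
      rw [MulAut.conjNormal_apply]
      exact hcon n n.2
    have h3 : 3 ∣ Nat.card f.ker := by
      have := Subgroup.card_dvd_of_le ((Subgroup.zpowers_le).mpr hmem)
      rwa [Nat.card_zpowers, hc] at this
    rw [hker'] at h3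
    norm_num at h3
  -- an element of order 5 in the kernel
  obtain ⟨t', ht'⟩ := exists_prime_orderOf_dvd_card' (G := f.ker) 5 (by rw [hker']; norm_num)
  have ht : orderOf (t' : G) = 5 := by rw [Subgroup.orderOf_coe, ht']
  have ht5 : (t' : G) ^ 5 = 1 := by rw [← ht]; exact pow_orderOf_eq_one _
  have hidx : (Subgroup.zpowers t').index = 2 := by
    have h1 := (Subgroup.zpowers t').card_mul_index
    rw [Nat.card_zpowers, ht', hker'] at h1
    omega
  have hxmem : c * (t' : G) * c⁻¹ ∈ f.ker :=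
    (inferInstance : f.ker.Normal).conj_mem _ t'.2 c
  obtain ⟨j, hj⟩ : ∃ j : ℕ, c * (t' : G) * c⁻¹ = (t' : G) ^ j := by
    have h1 := Subgroup.mul_self_mem_of_index_two hidx ⟨c * (t' : G) * c⁻¹, hxmem⟩
    have h2 : (⟨c * (t' : G) * c⁻¹, hxmem⟩ : f.ker) ^ 5 = 1 := by
      apply Subtype.ext
      show (c * (t' : G) * c⁻¹) ^ 5 = 1
      rw [conj_pow, ht5]
      group
    have h3 : (⟨c * (t' : G) * c⁻¹, hxmem⟩ : f.ker) ∈ Subgroup.zpowers t' := by
      have h4 : (⟨c * (t' : G) * c⁻¹, hxmem⟩ : f.ker)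
          = (⟨c * (t' : G) * c⁻¹, hxmem⟩ * ⟨c * (t' : G) * c⁻¹, hxmem⟩) ^ 3 := by
        rw [← pow_two, ← pow_mul, show 2 * 3 = 5 + 1 from rfl, pow_succ, h2, one_mul]
      rw [h4]
      exact pow_mem h1 3
    rw [← mem_powers_iff_mem_zpowers] at h3
    obtain ⟨j, hj⟩ := h3
    exact ⟨j, (congrArg Subtype.val hj).symm⟩
  have hct : c * (t' : G) * c⁻¹ = (t' : G) := by
    have h1 : c ^ 3 * (t' : G) * (c ^ 3)⁻¹ = (t' : G) ^ (j * (j * j)) := by
      calc c ^ 3 * (t' : G) * (c ^ 3)⁻¹ = c * (c * (c * (t' : G) * c⁻¹) * c⁻¹) * c⁻¹ := by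
            simp only [pow_succ, pow_zero, one_mul, mul_inv_rev, mul_assoc]
        _ = c * (c * (t' : G) ^ j * c⁻¹) * c⁻¹ := by rw [hj]
        _ = c * (c * (t' : G) * c⁻¹) ^ j * c⁻¹ := by rw [conj_pow]
        _ = c * ((t' : G) ^ j) ^ j * c⁻¹ := by rw [hj]
        _ = c * (t' : G) ^ (j * j) * c⁻¹ := by rw [← pow_mul]
        _ = (c * (t' : G) * c⁻¹) ^ (j * j) := by rw [conj_pow]
        _ = ((t' : G) ^ j) ^ (j * j) := by rw [hj]
        _ = (t' : G) ^ (j * (j * j)) := by rw [← pow_mul]
    rw [hc3] at h1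
    simp only [inv_one, one_mul, mul_one] at h1
    have h2 : (t' : G) ^ 1 = (t' : G) ^ (j * (j * j)) := by rw [pow_one]; exact h1
    rw [pow_eq_pow_iff_modEq, ht] at h2
    have h3 : j % 5 = 1 := by
      have h7 : 1 % 5 = (j * (j * j)) % 5 := h2
      have h5 : j % 5 < 5 := Nat.mod_lt _ (by norm_num)
      rw [Nat.mul_mod, Nat.mul_mod j j] at h7
      generalize j % 5 = r at h5 h7 ⊢
      interval_cases r <;> first | rfl | (norm_num at h7)
    rw [hj, ← pow_mod_orderOf, ht, h3, pow_one]
  -- `t` is central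
  have hcent : Subgroup.centralizer ({(t' : G)} : Set G) = ⊤ := by
    have hNC : N ≤ Subgroup.centralizer ({(t' : G)} : Set G) := by
      intro n hn
      rw [Subgroup.mem_centralizer_iff]
      rintro _ rfl
      exact hK t' t'.2 n hn
    have htC : Subgroup.zpowers (t' : G) ≤ Subgroup.centralizer ({(t' : G)} : Set G) := by
      rw [Subgroup.zpowers_le, Subgroup.mem_centralizer_iff]
      rintro _ rfl
      rfl
    have hcC : Subgroup.zpowers c ≤ Subgroup.centralizer ({(t' : G)} : Set G) := by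
      rw [Subgroup.zpowers_le, Subgroup.mem_centralizer_iff]
      rintro _ rfl
      calc (t' : G) * c = c * (t' : G) * c⁻¹ * c := by rw [hct]
        _ = c * (t' : G) := by group
    have h8 : 8 ∣ Nat.card (Subgroup.centralizer ({(t' : G)} : Set G)) :=
      hN8 ▸ Subgroup.card_dvd_of_le hNC
    have h5 : 5 ∣ Nat.card (Subgroup.centralizer ({(t' : G)} : Set G)) := by
      have := Subgroup.card_dvd_of_le htC
      rwa [Nat.card_zpowers, ht] at this
    have h3 : 3 ∣ Nat.card (Subgroup.centralizer ({(t' : G)} : Set G)) := by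
      have := Subgroup.card_dvd_of_le hcC
      rwa [Nat.card_zpowers, hc] at this
    have h40 : 40 ∣ Nat.card (Subgroup.centralizer ({(t' : G)} : Set G)) :=
      Nat.Coprime.mul_dvd_of_dvd_of_dvd (by norm_num : Nat.Coprime 8 5) h8 h5
    have h120 : 120 ∣ Nat.card (Subgroup.centralizer ({(t' : G)} : Set G)) :=
      Nat.Coprime.mul_dvd_of_dvd_of_dvd (by norm_num : Nat.Coprime 40 3) h40 h3
    apply (Subgroup.card_eq_iff_eq_top _).mp
    rw [hcard]
    exact le_antisymm (hcard ▸ Subgroup.card_le_card_group _)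
      (Nat.le_of_dvd Nat.card_pos h120)
  have htc : ∀ g : G, Commute g (t' : G) := by
    intro g
    have hg : g ∈ Subgroup.centralizer ({(t' : G)} : Set G) := hcent ▸ Subgroup.mem_top g
    exact ((Subgroup.mem_centralizer_iff.mp hg) _ rfl).symm
  -- the subgroup `K = N ⟨c⟩` of order 24
  let K : Subgroup G := N ⊔ Subgroup.zpowers c
  have hNK : N ≤ K := le_sup_left
  have hcK' : Subgroup.zpowers c ≤ K := le_sup_right
  have hcK : c ∈ K := hcK' (Subgroup.mem_zpowers c)
  have hK24 : Nat.card K = 24 := by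
    have h8 : 8 ∣ Nat.card K := hN8 ▸ Subgroup.card_dvd_of_le hNK
    have h3 : 3 ∣ Nat.card K := by
      have := Subgroup.card_dvd_of_le hcK'
      rwa [Nat.card_zpowers, hc] at this
    have h24 : 24 ∣ Nat.card K :=
      Nat.Coprime.mul_dvd_of_dvd_of_dvd (by norm_num : Nat.Coprime 8 3) h8 h3
    have hle : Nat.card K ≤ 24 := by
      have hsurj : Function.Surjective (fun x : N × Subgroup.zpowers c =>
          (⟨(x.1 : G) * (x.2 : G), mul_mem (hNK x.1.2) (hcK' x.2.2)⟩ : K)) := by
        rintro ⟨k, hk⟩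
        obtain ⟨y, hy, z, hz, rfl⟩ := Subgroup.mem_sup_of_normal_left.mp hk
        exact ⟨(⟨y, hy⟩, ⟨z, hz⟩), rfl⟩
      have := Nat.card_le_card_of_surjective _ hsurj
      rw [Nat.card_prod, hN8, Nat.card_zpowers, hc] at this
      exact this
    exact le_antisymm hle (Nat.le_of_dvd Nat.card_pos h24)
  -- `K ≅ SL(2,3)`
  have hKiso : Nonempty (K ≃* SL23) := by
    obtain ⟨n, hn, hne⟩ := hcN
    refine sl23_of_normal_q8 (N.subgroupOf K) ((Subgroup.subgroupOfEquivOfLe hNK).trans eN)
      ⟨c, hcK⟩ (Subtype.ext (by simpa using hc3)) ⟨⟨n, hNK hn⟩, ?_, ?_⟩ hK24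
    · exact Subgroup.mem_subgroupOf.mpr hn
    · intro h
      exact hne (congrArg Subtype.val h)
  obtain ⟨eK⟩ := hKiso
  -- the direct product decomposition
  let Z : Subgroup G := Subgroup.zpowers (t' : G)
  have hZ5 : Nat.card Z = 5 := by rw [Nat.card_zpowers, ht]
  have hcomm : ∀ (k : K) (z : Z), Commute (K.subtype k) (Z.subtype z) := by
    intro k z
    obtain ⟨i, hi⟩ := Subgroup.mem_zpowers_iff.mp z.2
    show Commute (k : G) (z : G)
    rw [← hi]
    exact (htc k).zpow_right i
  let φ : K × Z →* G := MonoidHom.noncommCoprod K.subtype Z.subtype hcomm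
  have hφinj : Function.Injective φ := by
    rw [MonoidHom.noncommCoprod_injective]
    refine ⟨K.subtype_injective, Z.subtype_injective, ?_⟩
    rw [Subgroup.range_subtype, Subgroup.range_subtype]
    exact Subgroup.disjoint_of_coprime_natCard (by rw [hK24, hZ5]; norm_num)
  have hφbij : Function.Bijective φ := by
    rw [Nat.bijective_iff_injective_and_card]
    exact ⟨hφinj, by rw [Nat.card_prod, hK24, hZ5, hcard]⟩
  have eZ : Z ≃* Multiplicative (ZMod 5) := mulEquivOfPrimeCardEq (p := 5) hZ5 (by simp)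
  exact ⟨(MulEquiv.ofBijective φ hφbij).symm.trans (MulEquiv.prodCongr eK eZ)⟩

end Cfsg.Agent.Lib.helper62.ExcReg
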