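import Mathlib
import Cfsg.Agent.S0685
import Cfsg.Agent.S3742
import Cfsg.Agent.Lib.helper15.LinReg
import Cfsg.Agent.Lib.helper62.LinRegQ8A
import Cfsg.Agent.Lib.helper62.LinRegQ8B
import Cfsg.Agent.Lib.helper62.FrobSolvB
import Cfsg.Agent.Lib.helper62.ExcRegA

set_option autoImplicit false

/-!
# The exceptional soluble regular linear groups: index 2 subgroups, `SL(2,3)`, `SL(2,3) × C₅`
-/

namespace Cfsg.Agent.Lib.helper62.ExcReg

open Cfsg.Agent.Lib.helper15.LinReg Cfsg.Agent.Lib.helper62.LinRegQ8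
  Cfsg.Agent.Lib.helper62.FrobExtract Cfsg.Agent.Lib.helper62.FrobSolv Cfsg.Agent.Lib.helper3

theorem arith7 : ∀ κ ≤ 6, ∀ ρ ≤ 24, κ * ρ = 48 ∧ κ ∣ 6 ∧ ρ ∣ 24 → ρ = 8 ∨ ρ = 24 := by
  decide

theorem arith11 : ∀ κ ≤ 10, ∀ ρ ≤ 24, κ * ρ = 120 ∧ κ ∣ 10 ∧ ρ ∣ 24 → κ = 10 ∨ ρ = 24 := by
  decide

theorem arith23 : ∀ κ ≤ 22, ∀ ρ ≤ 24, κ * ρ = 528 ∧ κ ∣ 22 ∧ ρ ∣ 24 → ρ = 24 := by
  decide

/-- A soluble linear group over the prime field, regular on the non-zero vectors and without
irreducible cyclic normal subgroup, has a subgroup of index 2, or is `SL(2,3)` on 25 points, or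
`SL(2,3) × C₅` on 121 points. -/
theorem exceptional_case {p : ℕ} [Fact p.Prime] {V : Type*} [AddCommGroup V] [Module (ZMod p) V]
    [Finite V] (H : Subgroup (V ≃ₗ[ZMod p] V))
    (hreg : ∀ v w : V, v ≠ 0 → w ≠ 0 → ∃! h : H, (h : V ≃ₗ[ZMod p] V) v = w)
    (hI : ∀ A : Subgroup H, A.Normal → IsCyclic A → ∃ W : Submodule (ZMod p) V, W ≠ ⊥ ∧ W ≠ ⊤ ∧
      ∀ a ∈ A, ∀ v ∈ W, ((a : H) : V ≃ₗ[ZMod p] V) v ∈ W)
    (hsolv : Group.IsSolvable H) :
    (∃ N : Subgroup H, N.Normal ∧ N.index = 2) ∨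
    (Nat.card V = 25 ∧ Nonempty (H ≃* SL23)) ∨
    (Nat.card V = 121 ∧ Nonempty (H ≃* SL23 × Multiplicative (ZMod 5))) := by
  classical
  have hfinE : Finite (V ≃ₗ[ZMod p] V) :=
    Finite.of_injective (fun e : V ≃ₗ[ZMod p] V => (e : V → V)) DFunLike.coe_injective
  -- `V` is nontrivial
  obtain ⟨W₀, hW₀b, hW₀t, -⟩ := hI ⊥ inferInstance inferInstance
  have hnt : Nontrivial V := by
    by_contra hn
    rw [not_nontrivial_iff_subsingleton] at hn
    exact hW₀b (Submodule.eq_bot_of_subsingleton)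
  have hcardH : Nat.card H = p ^ Module.finrank (ZMod p) V - 1 := card_of_reg H hreg
  have hfd : Module.Finite (ZMod p) V := Module.Finite.of_finite
  have hd : 0 < Module.finrank (ZMod p) V := Module.finrank_pos
  have hpp : p.Prime := Fact.out
  -- a maximal normal abelian subgroup
  obtain ⟨A, -, hAmaxl⟩ := Finite.exists_le_maximal
    (p := fun B : Subgroup H => B.Normal ∧ IsMulCommutative B) (a := ⊥)
    ⟨inferInstance, inferInstance⟩
  have hAn : A.Normal := hAmaxl.prop.1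
  have hAc : IsMulCommutative A := hAmaxl.prop.2
  have hAmax : ∀ B : Subgroup H, B.Normal → IsMulCommutative B → A ≤ B → B = A :=
    fun B hBn hBc hAB => le_antisymm (hAmaxl.le_of_ge ⟨hBn, hBc⟩ hAB) hAB
  obtain ⟨hlt, -⟩ := Cfsg.Agent.S0685.result H hreg hI A hAn hAc hAmax
  -- the fixed-point-free module
  have hpH : ¬ p ∣ Nat.card H := by
    rw [hcardH]
    intro hdvd
    have h1 : p ∣ p ^ Module.finrank (ZMod p) V := dvd_pow_self p hd.ne'
    have h2 : 1 ≤ p ^ Module.finrank (ZMod p) V := Nat.one_le_pow _ _ hpp.pos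
    have h3 : p ∣ 1 := by
      have := Nat.dvd_sub h1 hdvd
      rwa [Nat.sub_sub_self h2] at this
    exact hpp.one_lt.ne' (Nat.dvd_one.mp h3)
  have hfpf : HasFpfMod H := ⟨p, inferInstance, V, inferInstance, inferInstance, hpH,
    inferInstance, hnt,
    fun x => by rw [← Nat.cast_smul_eq_nsmul (ZMod p), ZMod.natCast_self, zero_smul],
    fun a ha x hx => by
      by_contra hx0
      exact ha (free_of_reg H hreg a x hx0 hx)⟩
  have hsolvI : Group.IsSolvable H := hsolv
  obtain ⟨N, hNn, ⟨eN⟩⟩ := exists_normal_q8 hfpf A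
    (fun a ha b hb => congrArg Subtype.val (hAc.is_comm.comm ⟨a, ha⟩ ⟨b, hb⟩))
    (fun B hBn hBc hAB => hAmax B hBn ⟨⟨fun a b => Subtype.ext (hBc a a.2 b b.2)⟩⟩ hAB)
    (not_le_of_gt hlt)
  -- the conjugation action on `N`
  let f : H →* MulAut N := MulAut.conjNormal
  have hK : ∀ k ∈ f.ker, ∀ n ∈ N, k * n = n * k := by
    intro k hk n hn
    have h1 := mem_centralizer_of_conjNormal_eq_one N (MonoidHom.mem_ker.mp hk)
    exact ((Subgroup.mem_centralizer_iff.mp h1) n hn).symm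
  obtain ⟨hp2, k, hdk, hKdvd⟩ := card_dvd_of_commute_q8 H hreg N eN f.ker hK
  have h1 : Nat.card f.ker * f.ker.index = Nat.card H := Subgroup.card_mul_index f.ker
  have h2 : f.ker.index = Nat.card f.range := Subgroup.index_ker f
  have h24 : Nat.card (MulAut N) = 24 := by
    obtain ⟨σ⟩ := Cfsg.Agent.S3742.result
    rw [Nat.card_congr (MulAut.congr eN).toEquiv, Nat.card_congr σ.toEquiv,
      Nat.card_eq_fintype_card, Fintype.card_perm]
    rfl
  have h3 : Nat.card f.range ∣ 24 := h24 ▸ Subgroup.card_subgroup_dvd_card f.range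
  -- arithmetic
  obtain ⟨s, hs⟩ : ∃ s : ℕ, s = p ^ k := ⟨_, rfl⟩
  have hk0 : 0 < k := by omega
  have hp3 : 3 ≤ p := by
    have := hpp.two_le
    omega
  have hs3 : 3 ≤ s := by
    rw [hs]
    calc 3 ≤ p := hp3
      _ = p ^ 1 := (pow_one p).symm
      _ ≤ p ^ k := Nat.pow_le_pow_right hpp.pos hk0
  have hcardV : Nat.card V = s * s := by
    rw [Module.natCard_eq_pow_finrank (K := ZMod p) (V := V), Nat.card_zmod, hdk, hs, two_mul,
      pow_add]
  have hcardH' : Nat.card H = s * s - 1 := by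
    rw [hcardH, hdk, hs, two_mul, pow_add]
  have hdiv : s + 1 ∣ 24 := by
    obtain ⟨j, hj⟩ := hKdvd
    rw [← hs] at hj
    have hKpos : 0 < Nat.card f.ker := Nat.card_pos
    have e1 : Nat.card f.ker * Nat.card f.range = Nat.card f.ker * (j * (s + 1)) := by
      rw [← h2, h1, hcardH']
      have : s * s - 1 = (s - 1) * (s + 1) := by
        have h1s : 1 ≤ s := by omega
        zify [h1s, Nat.one_le_iff_ne_zero.mpr (Nat.mul_ne_zero (by omega : s ≠ 0) (by omega : s ≠ 0))]
        ring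
      rw [this, hj]
      ring
    have e2 : Nat.card f.range = j * (s + 1) := Nat.eq_of_mul_eq_mul_left hKpos e1
    exact (Dvd.intro_left j e2.symm).trans h3
  have hsval : s = 3 ∨ s = 5 ∨ s = 7 ∨ s = 11 ∨ s = 23 := by
    have hmem : s + 1 ∈ Nat.divisors 24 := Nat.mem_divisors.mpr ⟨hdiv, by norm_num⟩
    have hdivs : Nat.divisors 24 = {1, 2, 3, 4, 6, 8, 12, 24} := by decide
    rw [hdivs] at hmem
    simp only [Finset.mem_insert, Finset.mem_singleton] at hmem
    omega
  have hκρ : Nat.card f.ker * Nat.card f.range = s * s - 1 := by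
    rw [← h2, h1, hcardH']
  have hκ : Nat.card f.ker ∣ s - 1 := by rw [hs]; exact hKdvd
  rcases hsval with h | h | h | h | h
  · -- `|V| = 9` is impossible
    exfalso
    have hp3' : p = 3 := by
      have hdvd : p ∣ 3 := by
        rw [← h, hs]
        exact dvd_pow_self p hk0.ne'
      exact (Nat.prime_dvd_prime_iff_eq hpp Nat.prime_three).mp hdvd
    have hk1 : k = 1 := by
      rw [hs, hp3'] at h
      exact Nat.pow_right_injective (by norm_num : 2 ≤ 3) (by simpa using h)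
    subst hk1
    have hH8 : Nat.card H = 8 := by rw [hcardH', h]
    -- a cyclic subgroup of order 4, normal of index 2
    have ho : orderOf ((eN.symm (QuaternionGroup.a 1) : N) : H) = 4 := by
      rw [Subgroup.orderOf_coe, MulEquiv.orderOf_eq, QuaternionGroup.orderOf_a_one]
    have hc4 : Nat.card (Subgroup.zpowers ((eN.symm (QuaternionGroup.a 1) : N) : H)) = 4 := by
      rw [Nat.card_zpowers, ho]
    have hidx : (Subgroup.zpowers ((eN.symm (QuaternionGroup.a 1) : N) : H)).index = 2 := by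
      have := Subgroup.card_mul_index (Subgroup.zpowers ((eN.symm (QuaternionGroup.a 1) : N) : H))
      rw [hc4, hH8] at this
      omega
    obtain ⟨W, hWb, hWt, hWinv⟩ := hI _ (Subgroup.normal_of_index_eq_two hidx) inferInstance
    have hdvd := card_dvd_of_invariant H hreg _ W hWinv
    rw [hc4] at hdvd
    have hlt2 : Module.finrank (ZMod p) W < Module.finrank (ZMod p) V :=
      Submodule.finrank_lt hWt
    have hne0 : Module.finrank (ZMod p) W ≠ 0 := by
      intro h0
      exact hWb (Submodule.finrank_eq_zero.mp h0)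
    have hW1 : Module.finrank (ZMod p) W = 1 := by omega
    rw [hW1, hp3'] at hdvd
    norm_num at hdvd
  · -- `|V| = 25`
    right; left
    refine ⟨by rw [hcardV, h], sl23_of_card_24 N eN (by rw [hcardH', h]) ?_⟩
    rw [h] at hκ
    exact hκ
  · -- `|V| = 49`
    left
    rw [h] at hκ hκρ
    rcases arith7 _ (Nat.le_of_dvd (by norm_num) hκ) _ (Nat.le_of_dvd (by norm_num) h3)
      ⟨hκρ, hκ, h3⟩ with hρ | hρ
    · exact exists_index_two_of_index_two_pow f.ker 2 (by rw [h2, hρ]; rfl)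
    · exact exists_index_two_of_aut_q8 N eN hρ
  · -- `|V| = 121`
    rw [h] at hκ hκρ
    rcases arith11 _ (Nat.le_of_dvd (by norm_num) hκ) _ (Nat.le_of_dvd (by norm_num) h3)
      ⟨hκρ, hκ, h3⟩ with hκ10 | hρ
    · right; right
      exact ⟨by rw [hcardV, h], sl23_prod_of_card_120 N eN (by rw [hcardH', h]) hκ10⟩
    · left
      exact exists_index_two_of_aut_q8 N eN hρ
  · -- `|V| = 529`
    left
    rw [h] at hκ hκρ
    have hρ := arith23 _ (Nat.le_of_dvd (by norm_num) hκ) _ (Nat.le_of_dvd (by norm_num) h3)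
      ⟨hκρ, hκ, h3⟩
    exact exists_index_two_of_aut_q8 N eN hρ

end Cfsg.Agent.Lib.helper62.ExcReg
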