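import Mathlib

set_option autoImplicit false

namespace Cfsg.Agent.Lib.helper62

open MulAction

section
variable {G : Type*} [Group G] {Ω : Type*} [MulAction G Ω]

/-- In a faithful primitive action with a nontrivial point stabilizer `G_α`, no other point has
the same stabilizer. -/
theorem stabilizer_ne_of_ne [FaithfulSMul G Ω] (hprim : IsPreprimitive G Ω) {α β : Ω}
    (hα : stabilizer G α ≠ ⊥) (hβ : β ≠ α) : stabilizer G β ≠ stabilizer G α := by
  intro heq
  haveI : Nontrivial Ω := ⟨⟨β, α, hβ⟩⟩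
  have hco : IsCoatom (stabilizer G α) := IsPreprimitive.isCoatom_stabilizer_of_isPreprimitive G α
  obtain ⟨g, hg⟩ := exists_smul_eq G α β
  have hgN : g ∈ Subgroup.normalizer (stabilizer G α : Set G) := by
    rw [Subgroup.mem_normalizer_iff]
    intro x
    have h1 : g * x * g⁻¹ ∈ stabilizer G α ↔ g * x * g⁻¹ ∈ stabilizer G β := by rw [heq]
    rw [h1, mem_stabilizer_iff, mem_stabilizer_iff, ← hg, mul_smul, mul_smul, inv_smul_smul]
    exact (smul_left_cancel_iff g).symm
  have hgnot : g ∉ stabilizer G α := by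
    rw [mem_stabilizer_iff, hg]
    exact hβ
  have hlt : stabilizer G α < Subgroup.normalizer (stabilizer G α : Set G) :=
    lt_of_le_of_ne Subgroup.le_normalizer (fun h => hgnot (h ▸ hgN))
  have htop : Subgroup.normalizer (stabilizer G α : Set G) = ⊤ := hco.2 _ hlt
  have hnormal : (stabilizer G α).Normal := Subgroup.normalizer_eq_top_iff.mp htop
  apply hα
  rw [Subgroup.eq_bot_iff_forall]
  intro k hk
  apply FaithfulSMul.eq_of_smul_eq_smul (α := Ω)
  intro x
  obtain ⟨g', rfl⟩ := exists_smul_eq G α x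
  have h2 : g'⁻¹ * k * g' ∈ stabilizer G α := by
    have := hnormal.conj_mem k hk g'⁻¹
    simpa using this
  rw [mem_stabilizer_iff, mul_smul, mul_smul] at h2
  rw [one_smul]
  have h3 := congrArg (fun y => g' • y) h2
  simpa using h3

/-- A set invariant under two distinct point stabilizers of a primitive action is invariant
under the whole group. -/
theorem invariant_of_two_stabilizers (hprim : IsPreprimitive G Ω) {α β : Ω}
    (hne : stabilizer G β ≠ stabilizer G α) (S : Set Ω)
    (hα : ∀ g ∈ stabilizer G α, ∀ x ∈ S, g • x ∈ S)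
    (hβ : ∀ g ∈ stabilizer G β, ∀ x ∈ S, g • x ∈ S) : ∀ g : G, ∀ x ∈ S, g • x ∈ S := by
  have hαβ : β ≠ α := fun h => hne (by rw [h])
  haveI : Nontrivial Ω := ⟨⟨β, α, hαβ⟩⟩
  have hcoα : IsCoatom (stabilizer G α) := IsPreprimitive.isCoatom_stabilizer_of_isPreprimitive G α
  have hcoβ : IsCoatom (stabilizer G β) := IsPreprimitive.isCoatom_stabilizer_of_isPreprimitive G β
  let T : Subgroup G :=
    { carrier := {g | ∀ x, g • x ∈ S ↔ x ∈ S}
      mul_mem' := by
        intro a b ha hb x
        rw [mul_smul, ha (b • x), hb x]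
      one_mem' := by intro x; rw [one_smul]
      inv_mem' := by
        intro a ha x
        have := ha (a⁻¹ • x)
        rw [smul_inv_smul] at this
        exact this.symm }
  have hTα : stabilizer G α ≤ T := by
    intro g hg x
    constructor
    · intro hx
      have := hα g⁻¹ (inv_mem hg) _ hx
      rwa [inv_smul_smul] at this
    · exact hα g hg x
  have hTβ : stabilizer G β ≤ T := by
    intro g hg x
    constructor
    · intro hx
      have := hβ g⁻¹ (inv_mem hg) _ hx
      rwa [inv_smul_smul] at this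
    · exact hβ g hg x
  have hT : T = ⊤ := by
    by_contra hT
    have h1 : T = stabilizer G α := (hcoα.le_iff_eq hT).mp hTα
    have h2 : T = stabilizer G β := (hcoβ.le_iff_eq hT).mp hTβ
    exact hne (h2.symm.trans h1)
  intro g x hx
  have hg : g ∈ T := by rw [hT]; exact Subgroup.mem_top g
  exact (hg x).mpr hx

/-- A nonempty set invariant under two distinct point stabilizers of a primitive action is
everything. -/
theorem eq_univ_of_two_stabilizers (hprim : IsPreprimitive G Ω) {α β : Ω}
    (hne : stabilizer G β ≠ stabilizer G α) (S : Set Ω) (hS : S.Nonempty)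
    (hα : ∀ g ∈ stabilizer G α, ∀ x ∈ S, g • x ∈ S)
    (hβ : ∀ g ∈ stabilizer G β, ∀ x ∈ S, g • x ∈ S) : S = Set.univ := by
  have h := invariant_of_two_stabilizers hprim hne S hα hβ
  obtain ⟨x, hx⟩ := hS
  ext y
  simp only [Set.mem_univ, iff_true]
  obtain ⟨g, rfl⟩ := exists_smul_eq G x y
  exact h g x hx

/-- Paired suborbits have the same size. -/
theorem ncard_orbit_stabilizer_comm [IsPretransitive G Ω] [Finite Ω] (β γ : Ω) :
    (orbit (stabilizer G β) γ).ncard = (orbit (stabilizer G γ) β).ncard := by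
  have key : ∀ b c : Ω, (orbit (stabilizer G b) c).ncard * Nat.card Ω =
      (stabilizer G c ⊓ stabilizer G b).index := by
    intro b c
    have h1 : (stabilizer G c).subgroupOf (stabilizer G b) = stabilizer (stabilizer G b) c := by
      ext; rfl
    rw [← index_stabilizer, ← h1, ← index_stabilizer_of_transitive G b]
    change (stabilizer G c).relIndex (stabilizer G b) * _ = _
    rw [← Subgroup.inf_relIndex_right, Subgroup.relIndex_mul_index inf_le_right]
  have h2 := key β γ
  have h3 := key γ β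
  rw [inf_comm] at h3
  have hpos : 0 < Nat.card Ω := by
    haveI : Nonempty Ω := ⟨β⟩
    exact Nat.card_pos
  exact Nat.eq_of_mul_eq_mul_right hpos (h2.trans h3.symm)

end


section
variable {G : Type*} [Group G] {Ω : Type*} [MulAction G Ω]

/-- Manning's theorem: in a finite faithful primitive group whose point stabilizer `G_α` is
nontrivial and primitive on each of its orbits, `G_α` acts faithfully on each orbit other
than `{α}`. -/
theorem manning [Finite Ω] [FaithfulSMul G Ω]
    (hprim : IsPreprimitive G Ω) (α : Ω) (hH : stabilizer G α ≠ ⊥)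
    (hep : ∀ ω : Ω, IsPreprimitive (stabilizer G α) (orbit (stabilizer G α) ω))
    (ω : Ω) (hω : ω ≠ α) (h : stabilizer G α)
    (hfix : ∀ x ∈ orbit (stabilizer G α) ω, h • x = x) : h = 1 := by
  classical
  haveI : IsPretransitive G Ω := hprim.toIsPretransitive
  -- K : kernel of (stabilizer G α) on the orbit of ω
  let K : Subgroup (stabilizer G α) := (toPermHom (stabilizer G α) (orbit (stabilizer G α) ω)).ker
  have hKn : K.Normal := MonoidHom.normal_ker _
  have hKmem : ∀ k : (stabilizer G α), k ∈ K ↔ ∀ x ∈ orbit (stabilizer G α) ω, k • x = x := by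
    intro k
    rw [MonoidHom.mem_ker]
    constructor
    · intro hk x hx
      have := congrArg (fun σ : Equiv.Perm (orbit (stabilizer G α) ω) => (σ ⟨x, hx⟩ : Ω)) hk
      simpa using this
    · intro hk
      ext ⟨x, hx⟩
      simpa using hk x hx
  suffices hK : K = ⊥ by
    have : h ∈ K := (hKmem h).mpr hfix
    rw [hK] at this
    exact Subgroup.mem_bot.mp this
  by_contra hK
  -- fixed point set
  let F : Set Ω := {x | ∀ k ∈ K, k • x = x}
  have hαF : α ∈ F := fun k _ => k.2
  have hωF : ∀ x ∈ orbit (stabilizer G α) ω, x ∈ F := fun x hx k hk => (hKmem k).mp hk x hx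
  -- some point not in F
  have hexγ : ∃ γ, γ ∉ F := by
    by_contra hall
    push Not at hall
    apply hK
    rw [Subgroup.eq_bot_iff_forall]
    intro k hk
    apply Subtype.ext
    apply FaithfulSMul.eq_of_smul_eq_smul (α := Ω)
    intro x
    have := hall x k hk
    rw [Subgroup.coe_one, one_smul]
    exact this
  -- transitivity of K on (stabilizer G α)-orbits of points not in F
  have htrans : ∀ γ, γ ∉ F → ∀ x ∈ orbit (stabilizer G α) γ, ∃ k ∈ K, k • γ = x := by
    intro γ hγ x hx
    haveI := hep γ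
    have hne : fixedPoints K (orbit (stabilizer G α) γ) ≠ Set.univ := by
      intro huniv
      apply hγ
      intro k hk
      have h1 : (⟨γ, mem_orbit_self γ⟩ : orbit (stabilizer G α) γ) ∈ fixedPoints K (orbit (stabilizer G α) γ) := by
        rw [huniv]; trivial
      have h2 := h1 ⟨k, hk⟩
      exact congrArg Subtype.val h2
    haveI : IsPretransitive K (orbit (stabilizer G α) γ) := IsQuasiPreprimitive.isPretransitive_of_normal hne
    obtain ⟨k, hk⟩ := exists_smul_eq K (⟨γ, mem_orbit_self γ⟩ : orbit (stabilizer G α) γ) ⟨x, hx⟩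
    exact ⟨k.1, k.2, congrArg Subtype.val hk⟩
  -- choose β ∈ F \ {α} with maximal orbit, γ ∉ F with maximal orbit
  obtain ⟨β, ⟨hβF, hβα⟩, hβmax⟩ := Set.exists_max_image {x | x ∈ F ∧ x ≠ α}
    (fun x => (orbit (stabilizer G α) x).ncard) (Set.toFinite _) ⟨ω, hωF ω (mem_orbit_self ω), hω⟩
  obtain ⟨γ, hγF, hγmax⟩ := Set.exists_max_image {x | x ∉ F}
    (fun x => (orbit (stabilizer G α) x).ncard) (Set.toFinite _) hexγ
  have hγα : γ ≠ α := fun hh => hγF (hh ▸ hαF)
  have hneβ : stabilizer G β ≠ stabilizer G α := stabilizer_ne_of_ne hprim hH hβα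
  have hneγ : stabilizer G γ ≠ stabilizer G α := stabilizer_ne_of_ne hprim hH hγα
  have hKβ : ∀ k ∈ K, (k : G) ∈ stabilizer G β := fun k hk => hβF k hk
  have hsub1 : orbit (stabilizer G α) γ ⊆ orbit (stabilizer G β) γ := by
    intro x hx
    obtain ⟨k, hk, hkx⟩ := htrans γ hγF x hx
    exact ⟨⟨(k : G), hKβ k hk⟩, hkx⟩
  obtain ⟨g₀, hg₀⟩ := exists_smul_eq G α β
  have hcard1 : (orbit (stabilizer G β) γ).ncard = (orbit (stabilizer G α) (g₀⁻¹ • γ)).ncard := by
    have hset : orbit (stabilizer G β) γ = (fun x => g₀ • x) '' orbit (stabilizer G α) (g₀⁻¹ • γ) := by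
      ext x
      constructor
      · rintro ⟨⟨g, hg⟩, rfl⟩
        refine ⟨g₀⁻¹ • g • γ, ⟨⟨g₀⁻¹ * g * g₀, ?_⟩, ?_⟩, ?_⟩
        · rw [mem_stabilizer_iff, mul_smul, mul_smul, hg₀, mem_stabilizer_iff.mp hg, ← hg₀,
            inv_smul_smul]
        · change (g₀⁻¹ * g * g₀) • g₀⁻¹ • γ = g₀⁻¹ • g • γ
          rw [mul_smul, mul_smul, smul_inv_smul]
        · change g₀ • g₀⁻¹ • g • γ = g • γ
          rw [smul_inv_smul]
      · rintro ⟨y, ⟨⟨g, hg⟩, rfl⟩, rfl⟩
        refine ⟨⟨g₀ * g * g₀⁻¹, ?_⟩, ?_⟩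
        · rw [mem_stabilizer_iff, mul_smul, mul_smul, ← hg₀, inv_smul_smul]
          rw [mem_stabilizer_iff] at hg
          rw [hg]
        · change (g₀ * g * g₀⁻¹) • γ = g₀ • g • g₀⁻¹ • γ
          rw [mul_smul, mul_smul]
    rw [hset, Set.ncard_image_of_injective _ (MulAction.injective g₀)]
  have hγ'α : g₀⁻¹ • γ ≠ α := by
    intro hh
    apply hγF
    have : γ = β := by rw [← hg₀, ← hh, smul_inv_smul]
    rw [this]
    exact hβF
  -- Step (i)
  have hlt : (orbit (stabilizer G α) γ).ncard < (orbit (stabilizer G β) γ).ncard := by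
    by_contra hnot
    push Not at hnot
    have heq : orbit (stabilizer G α) γ = orbit (stabilizer G β) γ :=
      Set.eq_of_subset_of_ncard_le hsub1 hnot (Set.toFinite _)
    have huniv : orbit (stabilizer G α) γ = Set.univ := by
      apply eq_univ_of_two_stabilizers hprim hneβ _ ⟨γ, mem_orbit_self γ⟩
      · rintro g hg _ ⟨g', rfl⟩
        exact ⟨⟨g, hg⟩ * g', mul_smul _ _ _⟩
      · rw [heq]
        rintro g hg _ ⟨g', rfl⟩
        exact ⟨⟨g, hg⟩ * g', mul_smul _ _ _⟩
    have hα : α ∈ orbit (stabilizer G α) γ := by rw [huniv]; trivial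
    obtain ⟨g, hg⟩ := hα
    apply hγα
    have h1 : (g : G) • γ = α := hg
    have h2 : (g : G) • α = α := g.2
    have h3 : (g : G) • γ = (g : G) • α := h1.trans h2.symm
    exact MulAction.injective (g : G) h3
  have hγ'F : g₀⁻¹ • γ ∈ F := by
    by_contra hh
    have := hγmax _ hh
    omega
  have hle : (orbit (stabilizer G α) (g₀⁻¹ • γ)).ncard ≤ (orbit (stabilizer G α) β).ncard := hβmax _ ⟨hγ'F, hγ'α⟩
  -- Step (ii)
  have hsub2 : orbit (stabilizer G α) β ⊆ orbit (stabilizer G γ) β := by
    rintro _ ⟨g, rfl⟩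
    have hmem : g⁻¹ • γ ∈ orbit (stabilizer G α) γ := ⟨g⁻¹, rfl⟩
    obtain ⟨k, hk, hkx⟩ := htrans γ hγF _ hmem
    refine ⟨⟨(g : G) * (k : G), ?_⟩, ?_⟩
    · rw [mem_stabilizer_iff, mul_smul]
      have h1 : (k : G) • γ = (g : G)⁻¹ • γ := hkx
      rw [h1, smul_inv_smul]
    · change ((g : G) * (k : G)) • β = (g : G) • β
      rw [mul_smul]
      have h1 : (k : G) • β = β := hβF k hk
      rw [h1]
  have hcard2 : (orbit (stabilizer G γ) β).ncard ≤ (orbit (stabilizer G α) β).ncard := by
    rw [ncard_orbit_stabilizer_comm γ β, hcard1]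
    exact hle
  have heq2 : orbit (stabilizer G α) β = orbit (stabilizer G γ) β :=
    Set.eq_of_subset_of_ncard_le hsub2 hcard2 (Set.toFinite _)
  have huniv2 : orbit (stabilizer G α) β = Set.univ := by
    apply eq_univ_of_two_stabilizers hprim hneγ _ ⟨β, mem_orbit_self β⟩
    · rintro g hg _ ⟨g', rfl⟩
      exact ⟨⟨g, hg⟩ * g', mul_smul _ _ _⟩
    · rw [heq2]
      rintro g hg _ ⟨g', rfl⟩
      exact ⟨⟨g, hg⟩ * g', mul_smul _ _ _⟩
  have hα : α ∈ orbit (stabilizer G α) β := by rw [huniv2]; trivial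
  obtain ⟨g, hg⟩ := hα
  apply hβα
  have h1 : (g : G) • β = α := hg
  have h2 : (g : G) • α = α := g.2
  have h3 : (g : G) • β = (g : G) • α := h1.trans h2.symm
  exact MulAction.injective (g : G) h3

end

end Cfsg.Agent.Lib.helper62
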