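import Mathlib
import Cfsg.Agent.Lib.helper62.ExtPrim

set_option autoImplicit false

namespace Cfsg.Agent.Lib.helper62

open MulAction

section
variable {G : Type*} [Group G] {Ω : Type*} [MulAction G Ω]

/-- In an extremely primitive group, a nontrivial normal subgroup of a point stabilizer has the
same orbits as the point stabilizer. -/
theorem ext_prim_orbit_eq [Finite Ω] [FaithfulSMul G Ω]
    (hprim : IsPreprimitive G Ω) (α : Ω) (hH : stabilizer G α ≠ ⊥)
    (hep : ∀ ω : Ω, IsPreprimitive (stabilizer G α) (orbit (stabilizer G α) ω))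
    (M : Subgroup G) (hM : M ≠ ⊥) (hMle : M ≤ stabilizer G α)
    (hMn : stabilizer G α ≤ Subgroup.normalizer (M : Set G)) (ω : Ω) :
    orbit M ω = orbit (stabilizer G α) ω := by
  apply Set.eq_of_subset_of_subset
  · rintro _ ⟨m, rfl⟩
    exact ⟨⟨m, hMle m.2⟩, rfl⟩
  · rintro x hx
    by_cases hω : ω = α
    · subst hω
      obtain ⟨g, rfl⟩ := hx
      refine ⟨1, ?_⟩
      change (1 : M) • ω = g • ω
      rw [one_smul]
      exact g.2.symm
    · haveI := hep ω
      have hMnormal : (M.subgroupOf (stabilizer G α)).Normal := by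
        rw [Subgroup.normal_subgroupOf_iff hMle]
        intro h k hh hk
        exact ((hMn hk) h).mp hh
      have hne : fixedPoints (M.subgroupOf (stabilizer G α)) (orbit (stabilizer G α) ω) ≠ Set.univ := by
        intro huniv
        apply hM
        rw [Subgroup.eq_bot_iff_forall]
        intro m hm
        have h1 : (⟨m, hMle hm⟩ : stabilizer G α) = 1 := by
          apply manning hprim α hH hep ω hω
          intro y hy
          have h2 : (⟨y, hy⟩ : orbit (stabilizer G α) ω) ∈
              fixedPoints (M.subgroupOf (stabilizer G α)) (orbit (stabilizer G α) ω) := by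
            rw [huniv]; trivial
          have h3 := h2 ⟨⟨m, hMle hm⟩, hm⟩
          exact congrArg Subtype.val h3
        exact congrArg Subtype.val h1
      haveI : IsPretransitive (M.subgroupOf (stabilizer G α)) (orbit (stabilizer G α) ω) :=
        IsQuasiPreprimitive.isPretransitive_of_normal hne
      obtain ⟨m, hm⟩ := exists_smul_eq (M.subgroupOf (stabilizer G α))
        (⟨ω, mem_orbit_self ω⟩ : orbit (stabilizer G α) ω) ⟨x, hx⟩
      exact ⟨⟨((m : stabilizer G α) : G), m.2⟩, congrArg Subtype.val hm⟩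

/-- In an affine extremely primitive group `G = N ⋊ G_α`, a nontrivial normal subgroup `M` of
`G_α` normalizes no proper nontrivial subgroup of `N`. -/
theorem ext_prim_affine_irred [Finite Ω] [FaithfulSMul G Ω]
    (hprim : IsPreprimitive G Ω) (α : Ω) (hH : stabilizer G α ≠ ⊥)
    (hep : ∀ ω : Ω, IsPreprimitive (stabilizer G α) (orbit (stabilizer G α) ω))
    (N : Subgroup G) [N.Normal] (hNc : IsMulCommutative N)
    (hNtr : IsPretransitive N Ω) (hNreg : ∀ ω : Ω, stabilizer N ω = ⊥)
    (M : Subgroup G) (hM : M ≠ ⊥) (hMle : M ≤ stabilizer G α)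
    (hMn : stabilizer G α ≤ Subgroup.normalizer (M : Set G))
    (L : Subgroup G) (hLN : L ≤ N) (hML : M ≤ Subgroup.normalizer (L : Set G)) :
    L = ⊥ ∨ L = N := by
  have horb := fun ω => ext_prim_orbit_eq hprim α hH hep M hM hMle hMn ω
  have hreg : ∀ n ∈ N, n • α = α → n = 1 := by
    intro n hn hfix
    have h1 : (⟨n, hn⟩ : N) ∈ stabilizer N α := hfix
    rw [hNreg α] at h1
    exact congrArg Subtype.val (Subgroup.mem_bot.mp h1)
  have hS : ∀ g ∈ stabilizer G α, ∀ l ∈ L, ∃ l' ∈ L, g • l • α = l' • α := by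
    intro g hg l hl
    have h1 : g • l • α ∈ orbit (stabilizer G α) (l • α) := ⟨⟨g, hg⟩, rfl⟩
    rw [← horb] at h1
    obtain ⟨m, hm⟩ := h1
    refine ⟨(m : G) * l * (m : G)⁻¹, ((hML m.2) l).mp hl, ?_⟩
    rw [← hm]
    change (m : G) • l • α = ((m : G) * l * (m : G)⁻¹) • α
    rw [mul_smul, mul_smul]
    have h2 : (m : G)⁻¹ • α = α := by
      have h3 : (m : G)⁻¹ ∈ stabilizer G α := hMle (M.inv_mem m.2)
      exact h3
    rw [h2]
  have hGαL : stabilizer G α ≤ Subgroup.normalizer (L : Set G) := by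
    rw [Subgroup.le_normalizer_iff]
    intro g hg l hl
    obtain ⟨l', hl', hll'⟩ := hS g hg l hl
    have h1 : g * l * g⁻¹ ∈ N := ‹N.Normal›.conj_mem l (hLN hl) g
    have h2 : (l'⁻¹ * (g * l * g⁻¹)) • α = α := by
      rw [mul_smul, mul_smul, mul_smul]
      have h3 : g⁻¹ • α = α := by
        have h4 : g⁻¹ ∈ stabilizer G α := inv_mem hg
        exact h4
      rw [h3, hll', inv_smul_smul]
    have h3 := hreg _ (N.mul_mem (N.inv_mem (hLN hl')) h1) h2
    have h4 : g * l * g⁻¹ = l' := by
      rw [inv_mul_eq_one] at h3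
      exact h3.symm
    rw [h4]
    exact hl'
  have hNL : N ≤ Subgroup.normalizer (L : Set G) := by
    rw [Subgroup.le_normalizer_iff]
    intro n hn l hl
    have h1 : n * l = l * n := setLike_mul_comm hn (hLN hl)
    rw [h1, mul_inv_cancel_right]
    exact hl
  -- a point different from α
  obtain ⟨β, hβ⟩ : ∃ β : Ω, β ≠ α := by
    by_contra hall
    push Not at hall
    apply hH
    rw [Subgroup.eq_bot_iff_forall]
    intro g _
    apply FaithfulSMul.eq_of_smul_eq_smul (α := Ω)
    intro x
    rw [hall x, hall (g • α), one_smul]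
  haveI : Nontrivial Ω := ⟨⟨β, α, hβ⟩⟩
  obtain ⟨n, hn⟩ := exists_smul_eq N α β
  have hnot : (n : G) ∉ stabilizer G α := by
    intro h1
    apply hβ
    rw [← hn]
    exact h1
  have hco : IsCoatom (stabilizer G α) := IsPreprimitive.isCoatom_stabilizer_of_isPreprimitive G α
  have hlt : stabilizer G α < Subgroup.normalizer (L : Set G) :=
    lt_of_le_of_ne hGαL (fun h => hnot (h ▸ hNL n.2))
  have htop : Subgroup.normalizer (L : Set G) = ⊤ := hco.2 _ hlt
  haveI hLnormal : L.Normal := Subgroup.normalizer_eq_top_iff.mp htop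
  by_cases hfp : fixedPoints L Ω = Set.univ
  · left
    rw [Subgroup.eq_bot_iff_forall]
    intro l hl
    apply FaithfulSMul.eq_of_smul_eq_smul (α := Ω)
    intro x
    have h1 : x ∈ fixedPoints L Ω := by rw [hfp]; trivial
    rw [one_smul]
    exact h1 ⟨l, hl⟩
  · right
    haveI : IsPretransitive L Ω := IsQuasiPreprimitive.isPretransitive_of_normal hfp
    apply le_antisymm hLN
    intro n' hn'
    obtain ⟨l, hl⟩ := exists_smul_eq L α (n' • α)
    have hl' : (l : G) • α = n' • α := hl
    have h2 : ((l : G)⁻¹ * n') • α = α := by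
      rw [mul_smul, ← hl', inv_smul_smul]
    have h3 := hreg _ (N.mul_mem (N.inv_mem (hLN l.2)) hn') h2
    rw [inv_mul_eq_one] at h3
    rw [← h3]
    exact l.2

end

end Cfsg.Agent.Lib.helper62
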