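import Mathlib

/-!
# Fixed-point-free automorphisms of order dividing four (helper62)

* `avg_prod_smul_eq_pow_card`: abstract trace (averaging) lemma (same statement as helper1's
  `prod_smul_eq_pow_card`; reproved here to keep this file free of other imports).
* `restrictAut4`, `quotAut4`, `quotAut4_fpf`: restriction / quotient of an automorphism.
* `odd_card_of_fpf_four`: a finite group with a fixed-point-free automorphism `φ`, `φ⁴ = 1`, has
  odd order.
* `act_trivial_of_fpf_four`: the averaging lemma in the form used below.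
* `fpf_four_aux`: a finite solvable group with a fixed-point-free automorphism `φ`, `φ⁴ = 1`, has
  nilpotent derived subgroup.
-/

set_option autoImplicit false

namespace Cfsg.Agent.Lib.helper62

open scoped commutatorElement

section trace

theorem list_range_map_prod4 {M : Type*} [CommMonoid M] (g : ℕ → M) (n : ℕ) :
    ((List.range n).map g).prod = ∏ i ∈ Finset.range n, g i := by
  induction n with
  | zero => simp
  | succ n ih =>
    rw [List.range_succ, List.map_append, List.prod_append, ih, Finset.prod_range_succ]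
    simp

/-- **Abstract trace lemma.**  `Q` acts on the commutative group `A` via `ρ`; `f` is an
endomorphism of `A` compatible with an endomorphism `σ` of `Q`, with `∏_{i<r} f^i = 1` on `A` and
`z ↦ z σ^i(z)⁻¹` bijective for `0 < i < r`.  Then `∏_{w ∈ Q} w • a = a ^ |Q|`. -/
theorem avg_prod_smul_eq_pow_card {A : Type*} [CommGroup A] {Q : Type*} [Group Q] [Fintype Q]
    (ρ : Q →* MulAut A) (f : A →* A) (σ : Q →* Q)
    (hcompat : ∀ z a, f (ρ z a) = ρ (σ z) (f a))
    (r : ℕ) (hr : 0 < r) (htrace : ∀ a, ∏ i ∈ Finset.range r, f^[i] a = 1)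
    (hbij : ∀ i, 0 < i → i < r → Function.Bijective (fun z : Q => z * (σ^[i] z)⁻¹)) (a : A) :
    ∏ w : Q, ρ w a = a ^ Fintype.card Q := by
  have hit : ∀ (i : ℕ) (z : Q) (a : A), f^[i] (ρ z a) = ρ (σ^[i] z) (f^[i] a) := by
    intro i
    induction i with
    | zero => intro z a; rfl
    | succ i ih =>
      intro z a
      rw [Function.iterate_succ_apply', Function.iterate_succ_apply', Function.iterate_succ_apply',
        ih, hcompat]
  have hσinv : ∀ (i : ℕ) (z : Q), σ^[i] z⁻¹ = (σ^[i] z)⁻¹ := by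
    intro i z
    induction i with
    | zero => rfl
    | succ i ih => rw [Function.iterate_succ_apply', Function.iterate_succ_apply', ih, map_inv]
  have h1 : ∀ z : Q, ∏ i ∈ Finset.range r, ρ (z * (σ^[i] z)⁻¹) (f^[i] a) = 1 := by
    intro z
    have h2 : ∀ i, ρ (z * (σ^[i] z)⁻¹) (f^[i] a) = ρ z (f^[i] (ρ z⁻¹ a)) := by
      intro i
      rw [hit, hσinv, map_mul]
      rfl
    simp_rw [h2]
    rw [← map_prod (ρ z), htrace, map_one]
  have h3 : ∏ z : Q, ∏ i ∈ Finset.range r, ρ (z * (σ^[i] z)⁻¹) (f^[i] a) = 1 := by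
    simp_rw [h1]
    exact Finset.prod_const_one
  rw [Finset.prod_comm] at h3
  obtain ⟨r', rfl⟩ : ∃ r', r = r' + 1 := ⟨r - 1, by omega⟩
  rw [Finset.prod_range_succ'] at h3
  have h0 : ∏ z : Q, ρ (z * (σ^[0] z)⁻¹) (f^[0] a) = a ^ Fintype.card Q := by
    simp
  let S : A →* A := ∏ w : Q, ((ρ w : A ≃* A) : A →* A)
  have hS : ∀ b, S b = ∏ w : Q, ρ w b := fun b => by simp [S]
  have hi : ∀ i ∈ Finset.range r',
      ∏ z : Q, ρ (z * (σ^[i + 1] z)⁻¹) (f^[i + 1] a) = S (f^[i + 1] a) := by
    intro i hi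
    rw [hS]
    exact Function.Bijective.prod_comp
      (hbij (i + 1) (Nat.succ_pos i) (by simpa using hi)) (fun w => ρ w (f^[i + 1] a))
  rw [Finset.prod_congr rfl hi, ← map_prod, h0] at h3
  have h4 : ∏ i ∈ Finset.range r', f^[i + 1] a = a⁻¹ := by
    have := htrace a
    rw [Finset.prod_range_succ'] at this
    exact eq_inv_of_mul_eq_one_left this
  rw [h4, map_inv, hS] at h3
  exact inv_mul_eq_one.mp h3

end trace

section aut

variable {G : Type*} [Group G]

/-- restriction of an automorphism to an invariant subgroup of a finite group -/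
noncomputable def restrictAut4 [Finite G] (φ : G ≃* G) (H : Subgroup G) (hH : ∀ h ∈ H, φ h ∈ H) :
    ↥H ≃* ↥H :=
  MulEquiv.ofBijective
    ({ toFun := fun h => ⟨φ (h : G), hH h h.2⟩
       map_one' := Subtype.ext (map_one φ)
       map_mul' := fun x y => Subtype.ext (map_mul φ (x : G) (y : G)) } : ↥H →* ↥H)
    (Finite.injective_iff_bijective.mp
      (fun _ _ hab => Subtype.ext (φ.injective (congrArg Subtype.val hab))))

theorem restrictAut4_apply [Finite G] (φ : G ≃* G) (H : Subgroup G) (hH : ∀ h ∈ H, φ h ∈ H)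
    (h : H) : (restrictAut4 φ H hH h : G) = φ h := rfl

theorem restrictAut4_iterate [Finite G] (φ : G ≃* G) (H : Subgroup G) (hH : ∀ h ∈ H, φ h ∈ H)
    (i : ℕ) (h : H) : (((⇑(restrictAut4 φ H hH))^[i] h : H) : G) = (⇑φ)^[i] h := by
  induction i with
  | zero => rfl
  | succ i ih =>
    rw [Function.iterate_succ_apply', Function.iterate_succ_apply', restrictAut4_apply, ih]

theorem map_eq_of_forall_mem [Finite G] (φ : G ≃* G) (N : Subgroup G) (hN : ∀ n ∈ N, φ n ∈ N) :
    N.map φ.toMonoidHom = N := by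
  apply Subgroup.eq_of_le_of_card_ge
  · rintro _ ⟨n, hn, rfl⟩
    exact hN n hn
  · rw [Subgroup.card_map_of_injective φ.injective]

theorem symm_mem_of_forall_mem [Finite G] (φ : G ≃* G) (N : Subgroup G) (hN : ∀ n ∈ N, φ n ∈ N) :
    ∀ n ∈ N, φ.symm n ∈ N := by
  intro n hn
  rw [← map_eq_of_forall_mem φ N hN] at hn
  obtain ⟨y, hy, rfl⟩ := hn
  simpa using hy

/-- the automorphism induced on the quotient by an invariant normal subgroup -/
noncomputable def quotAut4 [Finite G] (φ : G ≃* G) (N : Subgroup G) [N.Normal]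
    (hN : ∀ n ∈ N, φ n ∈ N) : G ⧸ N ≃* G ⧸ N :=
  QuotientGroup.congr N N φ (map_eq_of_forall_mem φ N hN)

theorem quotAut4_mk [Finite G] (φ : G ≃* G) (N : Subgroup G) [N.Normal]
    (hN : ∀ n ∈ N, φ n ∈ N) (x : G) :
    quotAut4 φ N hN (QuotientGroup.mk x) = QuotientGroup.mk (φ x) := rfl

theorem quotAut4_iterate [Finite G] (φ : G ≃* G) (N : Subgroup G) [N.Normal]
    (hN : ∀ n ∈ N, φ n ∈ N) (i : ℕ) (x : G) :
    (⇑(quotAut4 φ N hN))^[i] (QuotientGroup.mk x) = QuotientGroup.mk ((⇑φ)^[i] x) := by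
  induction i with
  | zero => rfl
  | succ i ih =>
    rw [Function.iterate_succ_apply', Function.iterate_succ_apply', ih, quotAut4_mk]

theorem quotAut4_fpf [Finite G] (φ : G ≃* G) (hφ : ∀ g, φ g = g → g = 1) (N : Subgroup G)
    [hNn : N.Normal] (hN : ∀ n ∈ N, φ n ∈ N) : ∀ y : G ⧸ N, quotAut4 φ N hN y = y → y = 1 := by
  intro y hy
  obtain ⟨x, rfl⟩ := QuotientGroup.mk_surjective y
  rw [quotAut4_mk] at hy
  rw [QuotientGroup.eq_one_iff]
  have h1 : (φ x)⁻¹ * x ∈ N := QuotientGroup.eq.mp hy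
  have h2 : x * (φ x)⁻¹ ∈ N := by
    have := hNn.conj_mem _ h1 (φ x)
    simpa [mul_assoc] using this
  have hfp : MonoidHom.FixedPointFree (restrictAut4 φ N hN).toMonoidHom :=
    fun a ha => Subtype.ext (hφ a (congrArg Subtype.val ha))
  obtain ⟨m, hm⟩ := hfp.commutatorMap_surjective ⟨x * (φ x)⁻¹, h2⟩
  have hm' : (m : G) * (φ m)⁻¹ = x * (φ x)⁻¹ := by
    have := congrArg Subtype.val hm
    simpa [MonoidHom.commutatorMap, div_eq_mul_inv, restrictAut4_apply] using this
  have h3 : φ ((m : G)⁻¹ * x) = (m : G)⁻¹ * x := by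
    rw [map_mul, map_inv]
    have e : (φ (m : G))⁻¹ = (m : G)⁻¹ * (x * (φ x)⁻¹) := by rw [← hm']; group
    rw [e]; group
  have h4 := hφ _ h3
  have h5 : x = m := by
    have := congrArg (fun t => (m : G) * t) h4
    simpa using this
  rw [h5]
  exact m.2

/-- a finite group with a fixed-point-free automorphism `φ`, `φ⁴ = 1`, has odd order -/
theorem odd_card_of_fpf_four [Finite G] (φ : G ≃* G) (hφ : ∀ g, φ g = g → g = 1)
    (h4 : ∀ g, (⇑φ)^[4] g = g) : Odd (Nat.card G) := by
  classical
  let _ : Fintype G := Fintype.ofFinite G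
  have : Fact (Nat.Prime 2) := ⟨Nat.prime_two⟩
  let f : Function.End G := (⇑φ : G → G)
  have hf : f ^ 2 ^ 2 = 1 := by
    funext g
    exact h4 g
  have h := Equiv.Perm.card_fixedPoints_modEq (α := G) (f := f) (p := 2) (n := 2) hf
  have hfix : Fintype.card (Function.fixedPoints f) = 1 := by
    rw [Fintype.card_eq_one_iff]
    exact ⟨⟨1, map_one φ⟩, fun x => Subtype.ext (hφ x.1 x.2)⟩
  rw [hfix] at h
  rw [Nat.card_eq_fintype_card, Nat.odd_iff]
  exact h

end aut

section avg

/-- **Averaging lemma.** `Q` acts on the commutative group `A` via `ρ`, compatibly with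
fixed-point-free automorphisms `f` of `A` and `ψ` of `Q` of order dividing `4`.  If `W ≤ Q` is a
`ψ`-invariant subgroup of odd order, inverted elementwise by `ψ²`, of order prime to `|A|`, then
`W` acts trivially on `A`. -/
theorem act_trivial_of_fpf_four {A : Type*} [CommGroup A] [Finite A] {Q : Type*} [Group Q]
    [Finite Q] (ρ : Q →* MulAut A) (f : A ≃* A) (ψ : Q ≃* Q)
    (hcompat : ∀ z a, f (ρ z a) = ρ (ψ z) (f a))
    (hf : ∀ v, f v = v → v = 1) (hf4 : ∀ v, (⇑f)^[4] v = v)
    (hψ : ∀ q, ψ q = q → q = 1) (hψ4 : ∀ q, (⇑ψ)^[4] q = q)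
    (W : Subgroup Q) (hW : ∀ w ∈ W, ψ w ∈ W) (hinv : ∀ w ∈ W, ψ (ψ w) = w⁻¹)
    (hodd : Odd (Nat.card W)) (hcop : (Nat.card W).Coprime (Nat.card A)) :
    ∀ w ∈ W, ∀ v, ρ w v = v := by
  classical
  let _ : Fintype ↥W := Fintype.ofFinite _
  let ρW : ↥W →* MulAut A := ρ.comp W.subtype
  let σ : ↥W →* ↥W := (restrictAut4 ψ W hW).toMonoidHom
  have hσ : ∀ (i : ℕ) (z : ↥W), (((⇑σ)^[i] z : ↥W) : Q) = (⇑ψ)^[i] z :=
    fun i z => restrictAut4_iterate ψ W hW i z
  have hcompat' : ∀ z a, f.toMonoidHom (ρW z a) = ρW (σ z) (f.toMonoidHom a) :=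
    fun z a => hcompat z a
  have hfpf : MonoidHom.FixedPointFree f.toMonoidHom := fun a ha => hf a ha
  have hfr : (⇑f.toMonoidHom)^[4] = id := funext fun a => hf4 a
  have htrace : ∀ a, ∏ i ∈ Finset.range 4, (⇑f.toMonoidHom)^[i] a = 1 := by
    intro a
    rw [← list_range_map_prod4]
    exact hfpf.prod_pow_eq_one hfr a
  have hbij : ∀ i, 0 < i → i < 4 → Function.Bijective (fun z : ↥W => z * ((⇑σ)^[i] z)⁻¹) := by
    intro i hi0 hi4
    apply Finite.injective_iff_bijective.mp
    intro z z' hzz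
    have hzz' : z * ((⇑σ)^[i] z)⁻¹ = z' * ((⇑σ)^[i] z')⁻¹ := hzz
    have h1 : (⇑σ)^[i] (z'⁻¹ * z) = z'⁻¹ * z := by
      rw [iterate_map_mul, iterate_map_inv]
      have e : z'⁻¹ * z = ((⇑σ)^[i] z')⁻¹ * (⇑σ)^[i] z := by
        calc z'⁻¹ * z = z'⁻¹ * (z * ((⇑σ)^[i] z)⁻¹) * (⇑σ)^[i] z := by group
          _ = z'⁻¹ * (z' * ((⇑σ)^[i] z')⁻¹) * (⇑σ)^[i] z := by rw [hzz']
          _ = ((⇑σ)^[i] z')⁻¹ * (⇑σ)^[i] z := by group
      exact e.symm
    have h2 : (⇑ψ)^[i] ((z'⁻¹ * z : ↥W) : Q) = ((z'⁻¹ * z : ↥W) : Q) := by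
      rw [← hσ, h1]
    have huW : ((z'⁻¹ * z : ↥W) : Q) ∈ W := (z'⁻¹ * z).2
    have hu1 : ((z'⁻¹ * z : ↥W) : Q) = 1 := by
      generalize ((z'⁻¹ * z : ↥W) : Q) = u at h2 huW
      interval_cases i
      · exact hψ u h2
      · have h3 : u⁻¹ = u := by
          rw [← hinv u huW]
          exact h2
        have h4 : u ^ 2 = 1 := by
          rw [pow_two]
          nth_rewrite 1 [← h3]
          exact inv_mul_cancel u
        have h5 : orderOf u ∣ 2 := orderOf_dvd_of_pow_eq_one h4
        have h6 : orderOf u ∣ Nat.card W := by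
          have := orderOf_dvd_natCard (⟨u, huW⟩ : ↥W)
          rwa [Subgroup.orderOf_mk] at this
        have h7 : Odd (orderOf u) := hodd.of_dvd_nat h6
        have h8 : orderOf u = 1 := by
          rcases (Nat.dvd_prime Nat.prime_two).mp h5 with h | h
          · exact h
          · rw [h] at h7
            exact absurd h7 (by decide)
        exact orderOf_eq_one_iff.mp h8
      · have h3 : ψ u = u := by
          have h5 := hψ4 u
          rw [show (4 : ℕ) = 3 + 1 from rfl, Function.iterate_succ_apply', h2] at h5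
          exact h5
        exact hψ u h3
    have h5 : z'⁻¹ * z = 1 := Subtype.ext hu1
    exact (inv_mul_eq_one.mp h5).symm
  have key := avg_prod_smul_eq_pow_card ρW f.toMonoidHom σ hcompat' 4 (by norm_num) htrace hbij
  intro x hx v
  have hkey := key v
  have hinvp : ρW ⟨x, hx⟩ (∏ z : ↥W, ρW z v) = ∏ z : ↥W, ρW z v := by
    rw [map_prod]
    exact Fintype.prod_equiv (Equiv.mulLeft (⟨x, hx⟩ : ↥W)) _ _ (fun z => by
      rw [Equiv.coe_mulLeft, map_mul]
      rfl)
  rw [hkey] at hinvp
  have h5 : (ρ x v) ^ Fintype.card ↥W = v ^ Fintype.card ↥W := by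
    rw [← map_pow]
    exact hinvp
  have hcop2 : (Nat.card A).Coprime (Fintype.card ↥W) := by
    rw [← Nat.card_eq_fintype_card]
    exact hcop.symm
  exact (powCoprime hcop2).injective h5

end avg

section main

universe u

open scoped IsMulCommutative in
/-- A finite solvable group with a fixed-point-free automorphism `φ`, `φ⁴ = 1`, has nilpotent
derived subgroup. -/
theorem fpf_four_aux : ∀ (n : ℕ) (G : Type u) [Group G] [Finite G], Nat.card G = n →
    Group.IsSolvable G → ∀ φ : G ≃* G, (∀ g, φ g = g → g = 1) → (∀ g, (⇑φ)^[4] g = g) →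
    Group.IsNilpotent (commutator G) := by
  intro n
  induction n using Nat.strong_induction_on with
  | _ n ih =>
    intro G _ _ hn hsolv φ hφ h4
    classical
    rcases subsingleton_or_nontrivial G with hsub | hnt
    · infer_instance
    have IHquot : ∀ (N : Subgroup G) [N.Normal] (hN : ∀ x ∈ N, φ x ∈ N), N ≠ ⊥ →
        Group.IsNilpotent (commutator (G ⧸ N)) := by
      intro N _ hN hne
      have hlt : Nat.card (G ⧸ N) < n := by
        rw [← hn, ← Subgroup.index_eq_card, ← Subgroup.index_mul_card N]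
        have h1 : 1 < Nat.card N := by
          rw [Finite.one_lt_card_iff_nontrivial]
          exact (Subgroup.nontrivial_iff_ne_bot N).mpr hne
        have h2 : 0 < N.index := Nat.pos_of_ne_zero Subgroup.index_ne_zero_of_finite
        nlinarith
      exact ih _ hlt (G ⧸ N) rfl inferInstance (quotAut4 φ N hN) (quotAut4_fpf φ hφ N hN)
        (fun y => by
          obtain ⟨x, rfl⟩ := QuotientGroup.mk_surjective y
          rw [quotAut4_iterate, h4])
    -- a minimal nontrivial φ-invariant normal subgroup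
    have hex : ∃ k, ∃ N : Subgroup G, N.Normal ∧ (∀ x ∈ N, φ x ∈ N) ∧ N ≠ ⊥ ∧ Nat.card N = k :=
      ⟨_, ⊤, inferInstance, fun _ _ => Subgroup.mem_top _, top_ne_bot, rfl⟩
    obtain ⟨V, hVn, hVφ, hVne, hVk⟩ := Nat.find_spec hex
    have hmin : ∀ N : Subgroup G, N.Normal → (∀ x ∈ N, φ x ∈ N) → N ≠ ⊥ → N ≤ V → N = V := by
      intro N hNn hNφ hNne hNV
      have h1 : Nat.find hex ≤ Nat.card N := Nat.find_min' hex ⟨N, hNn, hNφ, hNne, rfl⟩
      exact Subgroup.eq_of_le_of_card_ge hNV (by rw [hVk]; exact h1)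
    have hmapV : V.map φ.toMonoidHom = V := map_eq_of_forall_mem φ V hVφ
    have hVφs : ∀ x ∈ V, φ.symm x ∈ V := symm_mem_of_forall_mem φ V hVφ
    -- V is abelian
    have hVab : ∀ a ∈ V, ∀ b ∈ V, a * b = b * a := by
      have hD : ⁅V, V⁆ = ⊥ ∨ ⁅V, V⁆ = V := by
        by_cases h : ⁅V, V⁆ = ⊥
        · exact Or.inl h
        · right
          refine hmin _ (Subgroup.commutator_normal V V) ?_ h (Subgroup.commutator_le_left V V)
          intro x hx
          have : φ x ∈ (⁅V, V⁆).map φ.toMonoidHom := Subgroup.mem_map_of_mem _ hx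
          rwa [Subgroup.map_commutator, hmapV] at this
      rcases hD with hD | hD
      · intro a ha b hb
        have : ⁅a, b⁆ ∈ ⁅V, V⁆ := Subgroup.commutator_mem_commutator ha hb
        rw [hD, Subgroup.mem_bot, commutatorElement_eq_one_iff_commute] at this
        exact this.eq
      · exfalso
        have hle : ∀ k, V ≤ derivedSeries G k := by
          intro k
          induction k with
          | zero => exact le_top
          | succ k ihk =>
            rw [derivedSeries_succ]
            calc V = ⁅V, V⁆ := hD.symm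
              _ ≤ ⁅derivedSeries G k, derivedSeries G k⁆ := Subgroup.commutator_mono ihk ihk
        obtain ⟨k, hk⟩ := hsolv.solvable
        exact hVne (le_bot_iff.mp (hk ▸ hle k))
    -- V has prime exponent
    have hcard1 : Nat.card V ≠ 1 := fun h => hVne (Subgroup.card_eq_one.mp h)
    obtain ⟨p, hp, hpd⟩ := Nat.exists_prime_and_dvd hcard1
    haveI : Fact p.Prime := ⟨hp⟩
    have hVp : ∀ v ∈ V, v ^ p = 1 := by
      let W : Subgroup G :=
        { carrier := {v | v ∈ V ∧ v ^ p = 1}
          one_mem' := ⟨Subgroup.one_mem _, one_pow p⟩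
          mul_mem' := fun {a b} ha hb => ⟨Subgroup.mul_mem _ ha.1 hb.1, by
            rw [(show Commute a b from hVab a ha.1 b hb.1).mul_pow, ha.2, hb.2, one_mul]⟩
          inv_mem' := fun {a} ha => ⟨Subgroup.inv_mem _ ha.1, by rw [inv_pow, ha.2, inv_one]⟩ }
      have hWmem : ∀ v, v ∈ W ↔ v ∈ V ∧ v ^ p = 1 := fun v => Iff.rfl
      have hWn : W.Normal := ⟨fun w hw g => (hWmem _).mpr ⟨hVn.conj_mem w ((hWmem w).mp hw).1 g, by
        rw [conj_pow, ((hWmem w).mp hw).2]; simp⟩⟩
      have hWne : W ≠ ⊥ := by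
        obtain ⟨v, hv⟩ := exists_prime_orderOf_dvd_card' p hpd
        intro h
        have hvW : (v : G) ∈ W := (hWmem _).mpr ⟨v.2, by
          have := pow_orderOf_eq_one v
          rw [hv] at this
          exact congrArg Subtype.val this⟩
        rw [h, Subgroup.mem_bot] at hvW
        have : v = 1 := Subtype.ext hvW
        rw [this, orderOf_one] at hv
        exact hp.one_lt.ne hv
      have hWφ : ∀ w ∈ W, φ w ∈ W := fun w hw => (hWmem _).mpr
        ⟨hVφ w ((hWmem w).mp hw).1, by rw [← map_pow, ((hWmem w).mp hw).2, map_one]⟩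
      have hWV : W = V := hmin W hWn hWφ hWne (fun w hw => ((hWmem w).mp hw).1)
      intro v hv
      rw [← hWV] at hv
      exact ((hWmem v).mp hv).2
    have hVpg : IsPGroup p V := fun v => ⟨1, by rw [pow_one]; exact Subtype.ext (hVp v v.2)⟩
    haveI : IsMulCommutative ↥V := ⟨⟨fun a b => Subtype.ext (hVab a a.2 b b.2)⟩⟩
    -- the centralizer of V and the quotient Q = G / C
    obtain ⟨C, hCdef⟩ : ∃ C : Subgroup G, C = Subgroup.centralizer (V : Set G) := ⟨_, rfl⟩
    have hCmem : ∀ g, g ∈ C ↔ ∀ v ∈ V, v * g = g * v := by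
      intro g
      rw [hCdef, Subgroup.mem_centralizer_iff]
      rfl
    haveI hCn : C.Normal := by
      rw [hCdef]
      exact Subgroup.normal_centralizer
    have hVC : V ≤ C := fun a ha => (hCmem a).mpr (fun b hb => hVab b hb a ha)
    have hCne : C ≠ ⊥ := fun h => hVne (le_bot_iff.mp (h ▸ hVC))
    have hCφ : ∀ x ∈ C, φ x ∈ C := by
      intro x hx
      rw [hCmem] at hx ⊢
      intro v hv
      have h1 := hx (φ.symm v) (hVφs v hv)
      have h2 := congrArg φ h1
      simpa using h2
    have hMnil : Group.IsNilpotent (commutator (G ⧸ C)) := IHquot C hCφ hCne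
    obtain ⟨ψ, hψmk, hψ, hψ4⟩ : ∃ ψ : G ⧸ C ≃* G ⧸ C,
        (∀ x : G, ψ (QuotientGroup.mk x) = QuotientGroup.mk (φ x)) ∧ (∀ q, ψ q = q → q = 1) ∧
        (∀ q, (⇑ψ)^[4] q = q) :=
      ⟨quotAut4 φ C hCφ, fun x => rfl, quotAut4_fpf φ hφ C hCφ, fun y => by
        obtain ⟨x, rfl⟩ := QuotientGroup.mk_surjective y
        rw [quotAut4_iterate, h4]⟩
    have hψ4' : ∀ q, ψ (ψ (ψ (ψ q))) = q := fun q => hψ4 q
    have hQodd : Odd (Nat.card (G ⧸ C)) := odd_card_of_fpf_four ψ hψ hψ4
    -- the action of Q on V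
    have hker : ∀ g : G, MulAut.conjNormal (H := V) g = 1 ↔ g ∈ C := by
      intro g
      rw [hCmem]
      constructor
      · intro h v hv
        have h1 : g * v * g⁻¹ = v :=
          congrArg (fun e : MulAut ↥V => ((e ⟨v, hv⟩ : ↥V) : G)) h
        calc v * g = (g * v * g⁻¹) * g := by rw [h1]
          _ = g * v := by group
      · intro h
        apply MulEquiv.ext
        intro v
        apply Subtype.ext
        have h1 := h v v.2
        show g * v * g⁻¹ = v
        calc g * v * g⁻¹ = (v * g) * g⁻¹ := by rw [h1]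
          _ = v := by group
    obtain ⟨ρ, hρ⟩ : ∃ ρ : G ⧸ C →* MulAut ↥V,
        ∀ (g : G) (v : ↥V), ((ρ (QuotientGroup.mk g) v : ↥V) : G) = g * v * g⁻¹ :=
      ⟨QuotientGroup.lift C (MulAut.conjNormal (H := V)) (fun g hg => (hker g).mpr hg),
        fun g v => rfl⟩
    have hρinj : ∀ q, ρ q = 1 → q = 1 := by
      intro q hq
      obtain ⟨g, rfl⟩ := QuotientGroup.mk_surjective q
      rw [QuotientGroup.eq_one_iff, hCmem]
      intro v hv
      have h1 : g * v * g⁻¹ = v := by
        have := congrArg (fun e : MulAut ↥V => ((e ⟨v, hv⟩ : ↥V) : G)) hq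
        simpa [hρ] using this
      calc v * g = (g * v * g⁻¹) * g := by rw [h1]
        _ = g * v := by group
    obtain ⟨f, hf⟩ : ∃ f : ↥V ≃* ↥V, ∀ v : ↥V, ((f v : ↥V) : G) = φ v :=
      ⟨restrictAut4 φ V hVφ, fun v => rfl⟩
    have hffp : ∀ v, f v = v → v = 1 := fun v hv =>
      Subtype.ext (hφ v (by rw [← hf, hv]))
    have hfit : ∀ (i : ℕ) (v : ↥V), (((⇑f)^[i] v : ↥V) : G) = (⇑φ)^[i] v := by
      intro i v
      induction i with
      | zero => rfl
      | succ i ih => rw [Function.iterate_succ_apply', Function.iterate_succ_apply', hf, ih]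
    have hf4 : ∀ v, (⇑f)^[4] v = v := fun v => Subtype.ext (by rw [hfit, h4])
    have hcompat : ∀ (z : G ⧸ C) (a : ↥V), f (ρ z a) = ρ (ψ z) (f a) := by
      intro z a
      obtain ⟨g, rfl⟩ := QuotientGroup.mk_surjective z
      apply Subtype.ext
      rw [hf, hρ, hψmk, hρ, hf, map_mul, map_mul, map_inv]
    -- (G1): a normal ψ-invariant p-subgroup of Q is trivial
    have hG1 : ∀ Y : Subgroup (G ⧸ C), Y.Normal → (∀ y ∈ Y, ψ.symm y ∈ Y) → IsPGroup p Y →
        Y = ⊥ := by
      intro Y hYn hYψ hYp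
      let N : Subgroup G :=
        { carrier := {g | g ∈ V ∧ ∀ y : G, (QuotientGroup.mk y : G ⧸ C) ∈ Y → y * g * y⁻¹ = g}
          one_mem' := ⟨V.one_mem, fun y _ => by group⟩
          mul_mem' := fun {a b} ha hb => ⟨V.mul_mem ha.1 hb.1, fun y hy => by
            calc y * (a * b) * y⁻¹ = (y * a * y⁻¹) * (y * b * y⁻¹) := by group
              _ = a * b := by rw [ha.2 y hy, hb.2 y hy]⟩
          inv_mem' := fun {a} ha => ⟨V.inv_mem ha.1, fun y hy => by
            calc y * a⁻¹ * y⁻¹ = (y * a * y⁻¹)⁻¹ := by group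
              _ = a⁻¹ := by rw [ha.2 y hy]⟩ }
      have hNmem : ∀ g, g ∈ N ↔
          g ∈ V ∧ ∀ y : G, (QuotientGroup.mk y : G ⧸ C) ∈ Y → y * g * y⁻¹ = g := fun g => Iff.rfl
      have hNn : N.Normal := ⟨fun g hg h => (hNmem _).mpr
        ⟨hVn.conj_mem g ((hNmem g).mp hg).1 h, fun y hy => by
          have hy' : (QuotientGroup.mk (h⁻¹ * y * h) : G ⧸ C) ∈ Y := by
            have := hYn.conj_mem _ hy (QuotientGroup.mk h⁻¹ : G ⧸ C)
            simpa using this
          have h1 := ((hNmem g).mp hg).2 _ hy'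
          calc y * (h * g * h⁻¹) * y⁻¹
              = h * ((h⁻¹ * y * h) * g * (h⁻¹ * y * h)⁻¹) * h⁻¹ := by group
            _ = h * g * h⁻¹ := by rw [h1]⟩⟩
      have hNφ : ∀ x ∈ N, φ x ∈ N := by
        intro x hx
        refine (hNmem _).mpr ⟨hVφ x ((hNmem x).mp hx).1, fun y hy => ?_⟩
        have hy' : (QuotientGroup.mk (φ.symm y) : G ⧸ C) ∈ Y := by
          have h1 := hYψ _ hy
          have e : ψ.symm (QuotientGroup.mk y) = (QuotientGroup.mk (φ.symm y) : G ⧸ C) := by
            rw [MulEquiv.symm_apply_eq, hψmk, MulEquiv.apply_symm_apply]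
          rwa [e] at h1
        have h1 := ((hNmem x).mp hx).2 _ hy'
        have h2 := congrArg φ h1
        simpa using h2
      have hNV : N ≤ V := fun g hg => ((hNmem g).mp hg).1
      have hNne : N ≠ ⊥ := by
        letI : MulAction ↥Y ↥V := MulAction.compHom ↥V (ρ.comp Y.subtype)
        have hsmul : ∀ (y : ↥Y) (v : ↥V), y • v = ρ y v := fun y v => rfl
        have h1 : (1 : ↥V) ∈ MulAction.fixedPoints ↥Y ↥V := fun y => by rw [hsmul, map_one]
        obtain ⟨b, hb, hb1⟩ :=
          hYp.exists_fixed_point_of_prime_dvd_card_of_fixed_point ↥V hpd h1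
        intro hbot
        apply hb1
        have hbN : (b : G) ∈ N := by
          refine (hNmem _).mpr ⟨b.2, fun y hy => ?_⟩
          have h2 := hb ⟨QuotientGroup.mk y, hy⟩
          rw [hsmul] at h2
          have h3 := congrArg Subtype.val h2
          rw [hρ] at h3
          exact h3
        rw [hbot, Subgroup.mem_bot] at hbN
        exact (Subtype.ext hbN).symm
      have hNV' : N = V := hmin N hNn hNφ hNne hNV
      rw [eq_bot_iff]
      intro q hq
      obtain ⟨g, rfl⟩ := QuotientGroup.mk_surjective q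
      rw [Subgroup.mem_bot, QuotientGroup.eq_one_iff, hCmem]
      intro v hv
      have hvN : v ∈ N := hNV' ▸ hv
      have h1 := ((hNmem v).mp hvN).2 g hq
      calc v * g = (g * v * g⁻¹) * g := by rw [h1]
        _ = g * v := by group
    -- (F): a normal ψ-invariant nilpotent subgroup of Q has order prime to p
    have hF : ∀ Z : Subgroup (G ⧸ C), Z.Normal → (∀ z ∈ Z, ψ z ∈ Z) → Group.IsNilpotent ↥Z →
        ¬ p ∣ Nat.card ↥Z := by
      intro Z hZn hZψ hZnil hpZ
      have hZψs : ∀ z ∈ Z, ψ.symm z ∈ Z := symm_mem_of_forall_mem ψ Z hZψ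
      obtain ⟨P⟩ : Nonempty (Sylow p ↥Z) := inferInstance
      have hPn : (P : Subgroup ↥Z).Normal := inferInstance
      have hsub : Subsingleton (Sylow p ↥Z) := (Sylow.unique_of_normal P hPn).instSubsingleton
      -- every p-element of Z lies in P
      have hPall : ∀ (z : G ⧸ C) (hz : z ∈ Z) (k : ℕ), z ^ p ^ k = 1 →
          (⟨z, hz⟩ : ↥Z) ∈ (P : Subgroup ↥Z) := by
        intro z hz k hk
        have hzk : (⟨z, hz⟩ : ↥Z) ^ p ^ k = 1 := Subtype.ext hk
        have hzp : IsPGroup p (Subgroup.zpowers (⟨z, hz⟩ : ↥Z)) := by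
          rintro ⟨x, hx⟩
          obtain ⟨i, rfl⟩ := Subgroup.mem_zpowers_iff.mp hx
          refine ⟨k, Subtype.ext ?_⟩
          show ((⟨z, hz⟩ : ↥Z) ^ i) ^ p ^ k = 1
          rw [← zpow_natCast, ← zpow_mul, mul_comm, zpow_mul, zpow_natCast, hzk, one_zpow]
        obtain ⟨P', hP'⟩ := hzp.exists_le_sylow
        have : P' = P := Subsingleton.elim _ _
        rw [this] at hP'
        exact hP' (Subgroup.mem_zpowers _)
      let Y : Subgroup (G ⧸ C) := (P : Subgroup ↥Z).map Z.subtype
      have hYmem : ∀ y, y ∈ Y ↔ ∃ hy : y ∈ Z, (⟨y, hy⟩ : ↥Z) ∈ (P : Subgroup ↥Z) := by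
        intro y
        constructor
        · rintro ⟨w, hw, rfl⟩
          exact ⟨w.2, hw⟩
        · rintro ⟨hy, hw⟩
          exact ⟨⟨y, hy⟩, hw, rfl⟩
      have hYp : IsPGroup p Y := P.isPGroup'.map _
      have hYpow : ∀ y ∈ Y, ∃ k : ℕ, y ^ p ^ k = 1 := by
        intro y hy
        obtain ⟨k, hk⟩ := hYp ⟨y, hy⟩
        exact ⟨k, congrArg Subtype.val hk⟩
      have hYn : Y.Normal := ⟨fun y hy g => by
        obtain ⟨hyZ, -⟩ := (hYmem y).mp hy
        obtain ⟨k, hk⟩ := hYpow y hy
        exact (hYmem _).mpr ⟨hZn.conj_mem y hyZ g, hPall _ _ k (by rw [conj_pow, hk]; group)⟩⟩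
      have hYψ : ∀ y ∈ Y, ψ.symm y ∈ Y := by
        intro y hy
        obtain ⟨hyZ, -⟩ := (hYmem y).mp hy
        obtain ⟨k, hk⟩ := hYpow y hy
        exact (hYmem _).mpr ⟨hZψs y hyZ, hPall _ _ k (by rw [← map_pow, hk, map_one])⟩
      have hYbot := hG1 Y hYn hYψ hYp
      have hPbot : (P : Subgroup ↥Z) = ⊥ :=
        (Subgroup.map_eq_bot_iff_of_injective _ (Subgroup.subtype_injective _)).mp hYbot
      exact P.ne_bot_of_dvd_card hpZ hPbot
    -- (5a) an element of prime order r ≠ p inverted by ψ² does not exist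
    have h5a : ∀ k : G ⧸ C, ψ (ψ k) = k⁻¹ → ∀ r : ℕ, r.Prime → orderOf k = r → r ≠ p → False := by
      intro k hk r hr hkr hrp
      haveI : Fact r.Prime := ⟨hr⟩
      have hk1 : k ≠ 1 := by
        rintro rfl
        rw [orderOf_one] at hkr
        exact hr.one_lt.ne hkr
      have hkr' : k ^ r = 1 := by rw [← hkr]; exact pow_orderOf_eq_one k
      have hcomm : k * ψ k = ψ k * k := by
        have hfp : MonoidHom.FixedPointFree ψ.toMonoidHom := fun a ha => hψ a ha
        have h := hfp.prod_pow_eq_one (n := 4) (funext fun a => hψ4 a) k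
        have h' : k * (ψ k * (ψ (ψ k) * ψ (ψ (ψ k)))) = 1 := by
          simpa [List.range_succ, mul_assoc] using h
        rw [hk, map_inv] at h'
        have h2 : k * ψ k * k⁻¹ * (ψ k)⁻¹ = 1 := by rw [← h']; group
        rw [mul_inv_eq_one, mul_inv_eq_iff_eq_mul] at h2
        exact h2
      obtain ⟨W, hWdef⟩ : ∃ W : Subgroup (G ⧸ C), W = Subgroup.closure {k, ψ k} := ⟨_, rfl⟩
      have hkW : k ∈ W := by rw [hWdef]; exact Subgroup.subset_closure (by simp)
      have hk'W : ψ k ∈ W := by rw [hWdef]; exact Subgroup.subset_closure (by simp)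
      have hWcomm : ∀ a ∈ W, ∀ b ∈ W, a * b = b * a := by
        have hS : ∀ a ∈ ({k, ψ k} : Set (G ⧸ C)), ∀ b ∈ ({k, ψ k} : Set (G ⧸ C)),
            a * b = b * a := by
          intro a ha b hb
          rcases ha with rfl | rfl <;> rcases hb with rfl | rfl
          · rfl
          · exact hcomm
          · exact hcomm.symm
          · rfl
        have h1 : W ≤ Subgroup.centralizer ({k, ψ k} : Set (G ⧸ C)) := by
          rw [hWdef, Subgroup.closure_le]
          intro a ha
          exact Subgroup.mem_centralizer_iff.mpr (fun b hb => hS b hb a ha)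
        have h2 : W ≤ Subgroup.centralizer (W : Set (G ⧸ C)) := by
          nth_rewrite 1 [hWdef]
          rw [Subgroup.closure_le]
          intro a ha
          rw [SetLike.mem_coe, Subgroup.mem_centralizer_iff]
          intro b hb
          exact ((Subgroup.mem_centralizer_iff.mp (h1 hb)) a ha).symm
        intro a ha b hb
        exact (Subgroup.mem_centralizer_iff.mp (h2 hb)) a ha
      have hWψ : ∀ w ∈ W, ψ w ∈ W := by
        intro w hw
        have h1 : W.map ψ.toMonoidHom ≤ W := by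
          nth_rewrite 1 [hWdef]
          rw [MonoidHom.map_closure, Subgroup.closure_le]
          rintro _ ⟨a, ha, rfl⟩
          rcases ha with rfl | rfl
          · exact hk'W
          · show ψ (ψ k) ∈ W
            rw [hk]
            exact W.inv_mem hkW
        exact h1 (Subgroup.mem_map_of_mem _ hw)
      have hWinv : ∀ w ∈ W, ψ (ψ w) = w⁻¹ := by
        intro w hw
        have hw' : w ∈ Subgroup.closure ({k, ψ k} : Set (G ⧸ C)) := hWdef ▸ hw
        refine Subgroup.closure_induction (p := fun w _ => ψ (ψ w) = w⁻¹) ?_ ?_ ?_ ?_ hw'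
        · intro x hx
          rcases hx with rfl | rfl
          · exact hk
          · rw [hk, map_inv]
        · simp
        · intro x y hx hy ihx ihy
          rw [map_mul, map_mul, ihx, ihy, mul_inv_rev]
          exact hWcomm _ (W.inv_mem (hWdef ▸ hx)) _ (W.inv_mem (hWdef ▸ hy))
        · intro x hx ihx
          rw [map_inv, map_inv, ihx]
      have hWr : ∀ w ∈ W, w ^ r = 1 := by
        intro w hw
        have hw' : w ∈ Subgroup.closure ({k, ψ k} : Set (G ⧸ C)) := hWdef ▸ hw
        refine Subgroup.closure_induction (p := fun w _ => w ^ r = 1) ?_ ?_ ?_ ?_ hw'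
        · intro x hx
          rcases hx with rfl | rfl
          · exact hkr'
          · rw [← map_pow, hkr', map_one]
        · exact one_pow r
        · intro x y hx hy ihx ihy
          rw [(show Commute x y from hWcomm x (hWdef ▸ hx) y (hWdef ▸ hy)).mul_pow, ihx, ihy,
            one_mul]
        · intro x hx ihx
          rw [inv_pow, ihx, inv_one]
      have hWp : IsPGroup r W := fun w => ⟨1, by rw [pow_one]; exact Subtype.ext (hWr w w.2)⟩
      obtain ⟨j, hj⟩ := IsPGroup.iff_card.mp hWp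
      obtain ⟨i, hi⟩ := IsPGroup.iff_card.mp hVpg
      have hcop : (Nat.card W).Coprime (Nat.card ↥V) := by
        rw [hj, hi]
        exact Nat.Coprime.pow _ _ ((Nat.coprime_primes hr hp).mpr hrp)
      have hWodd : Odd (Nat.card W) := hQodd.of_dvd_nat (Subgroup.card_subgroup_dvd_card W)
      have htriv := act_trivial_of_fpf_four ρ f ψ hcompat hffp hf4 hψ hψ4 W hWψ hWinv hWodd hcop
      have hρk : ρ k = 1 := by
        apply MulEquiv.ext
        intro v
        exact htriv k hkW v
      exact hk1 (hρinj k hρk)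
    -- (5b) an element of order prime to p inverted by ψ² is trivial
    have h5b : ∀ k : G ⧸ C, ψ (ψ k) = k⁻¹ → ¬ p ∣ orderOf k → k = 1 := by
      intro k hk hpk
      by_contra hk1
      have ho : orderOf k ≠ 1 := fun h => hk1 (orderOf_eq_one_iff.mp h)
      obtain ⟨r, hr, hrd⟩ := Nat.exists_prime_and_dvd ho
      obtain ⟨m, hm⟩ := hrd
      have hm0 : m ≠ 0 := by
        rintro rfl
        rw [mul_zero] at hm
        exact (orderOf_pos k).ne' hm
      have hk2 : orderOf (k ^ m) = r := by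
        rw [orderOf_pow_of_dvd hm0 ⟨r, by rw [hm, mul_comm]⟩, hm,
          Nat.mul_div_cancel _ (Nat.pos_of_ne_zero hm0)]
      refine h5a (k ^ m) ?_ r hr hk2 ?_
      · rw [map_pow, map_pow, hk, inv_pow]
      · rintro rfl
        exact hpk ⟨m, hm⟩
    -- (5c) ψ² centralizes the derived subgroup M of Q
    have hMψ : ∀ m ∈ commutator (G ⧸ C), ψ m ∈ commutator (G ⧸ C) := by
      intro m hm
      have h1 := (Subgroup.characteristic_iff_map_eq.mp
        (inferInstance : (commutator (G ⧸ C)).Characteristic)) ψ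
      rw [← h1]
      exact Subgroup.mem_map_of_mem _ hm
    have hMp : ¬ p ∣ Nat.card (commutator (G ⧸ C)) := hF _ inferInstance hMψ hMnil
    have h5c : ∀ m ∈ commutator (G ⧸ C), ψ (ψ m) = m := by
      intro m hm
      have hy : m⁻¹ * ψ (ψ m) ∈ commutator (G ⧸ C) :=
        Subgroup.mul_mem _ (Subgroup.inv_mem _ hm) (hMψ _ (hMψ _ hm))
      have hyinv : ψ (ψ (m⁻¹ * ψ (ψ m))) = (m⁻¹ * ψ (ψ m))⁻¹ := by
        rw [map_mul, map_mul, map_inv, map_inv, hψ4' m]
        group
      have hpy : ¬ p ∣ orderOf (m⁻¹ * ψ (ψ m)) := by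
        intro hd
        have h1 : orderOf (m⁻¹ * ψ (ψ m)) ∣ Nat.card (commutator (G ⧸ C)) := by
          have := orderOf_dvd_natCard (⟨_, hy⟩ : commutator (G ⧸ C))
          rwa [Subgroup.orderOf_mk] at this
        exact hMp (hd.trans h1)
      have h2 := h5b _ hyinv hpy
      exact (inv_mul_eq_one.mp h2).symm
    -- (5e) elements inverted by ψ² centralize M
    have h5e : ∀ k : G ⧸ C, ψ (ψ k) = k⁻¹ →
        k ∈ Subgroup.centralizer (commutator (G ⧸ C) : Set (G ⧸ C)) := by
      intro k hk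
      rw [Subgroup.mem_centralizer_iff]
      intro m hm
      have hc : k * m * k⁻¹ * m⁻¹ ∈ commutator (G ⧸ C) :=
        Subgroup.mul_mem _
          ((inferInstance : (commutator (G ⧸ C)).Normal).conj_mem m hm k) (Subgroup.inv_mem _ hm)
      have h1 := h5c _ hc
      simp only [map_mul, map_inv, hk, h5c m hm, inv_inv] at h1
      have h3 : k⁻¹ * m * k = k * m * k⁻¹ := mul_right_cancel h1
      have h2 : (k * k) * m = m * (k * k) := by
        calc (k * k) * m = k * (k * m * k⁻¹) * k := by group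
          _ = k * (k⁻¹ * m * k) * k := by rw [h3]
          _ = m * (k * k) := by group
      have hodd : Odd (orderOf k) := hQodd.of_dvd_nat (orderOf_dvd_natCard k)
      obtain ⟨j, hj⟩ := hodd
      have hkj : (k * k) ^ (j + 1) = k := by
        rw [← pow_two, ← pow_mul]
        have e : 2 * (j + 1) = orderOf k + 1 := by omega
        rw [e, pow_succ, pow_orderOf_eq_one, one_mul]
      have h4 : Commute (k * k) m := h2
      have h5 := h4.pow_left (j + 1)
      rw [hkj] at h5
      exact h5.eq.symm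
    -- Z = C_Q(M) is nilpotent, normal and ψ-invariant
    obtain ⟨Z, hZdef⟩ : ∃ Z : Subgroup (G ⧸ C),
        Z = Subgroup.centralizer (commutator (G ⧸ C) : Set (G ⧸ C)) := ⟨_, rfl⟩
    have hZmem : ∀ z, z ∈ Z ↔ ∀ m ∈ commutator (G ⧸ C), m * z = z * m := by
      intro z
      rw [hZdef, Subgroup.mem_centralizer_iff]
      rfl
    have hZn : Z.Normal := by
      rw [hZdef]
      exact Subgroup.normal_centralizer
    have hZψ : ∀ z ∈ Z, ψ z ∈ Z := by
      intro z hz
      rw [hZmem] at hz ⊢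
      intro m hm
      have hm' : ψ.symm m ∈ commutator (G ⧸ C) :=
        symm_mem_of_forall_mem ψ (commutator (G ⧸ C)) hMψ m hm
      have h1 := hz _ hm'
      have h2 := congrArg ψ h1
      simpa using h2
    have hZnil : Group.IsNilpotent ↥Z := by
      let g : ↥Z →* Abelianization (G ⧸ C) := (Abelianization.of).comp Z.subtype
      refine Subgroup.isNilpotent_of_ker_le_center g ?_
      intro x hx
      rw [MonoidHom.mem_ker] at hx
      have hxM : (x : G ⧸ C) ∈ commutator (G ⧸ C) := by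
        have h1 : Abelianization.of (x : G ⧸ C) = 1 := hx
        rwa [← MonoidHom.mem_ker, Abelianization.ker_of] at h1
      rw [Subgroup.mem_center_iff]
      intro y
      apply Subtype.ext
      exact ((hZmem y).mp y.2 x hxM).symm
    have hZp : ¬ p ∣ Nat.card ↥Z := hF Z hZn hZψ hZnil
    have h5g : ∀ k : G ⧸ C, ψ (ψ k) = k⁻¹ → k = 1 := by
      intro k hk
      apply h5b k hk
      intro hd
      have hkZ : k ∈ Z := by rw [hZdef]; exact h5e k hk
      have h1 : orderOf k ∣ Nat.card ↥Z := by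
        have := orderOf_dvd_natCard (⟨k, hkZ⟩ : ↥Z)
        rwa [Subgroup.orderOf_mk] at this
      exact hZp (hd.trans h1)
    have hτ : ∀ q : G ⧸ C, ψ (ψ q) = q := by
      intro q
      have h := h5g (q⁻¹ * ψ (ψ q)) (by
        rw [map_mul, map_mul, map_inv, map_inv, hψ4' q]
        group)
      exact (inv_mul_eq_one.mp h).symm
    have hQc : ∀ a b : G ⧸ C, a * b = b * a := by
      have hfp : MonoidHom.FixedPointFree ψ.toMonoidHom := fun a ha => hψ a ha
      intro a b
      exact (hfp.commute_all_of_involutive (fun q => hτ q) a b).eq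
    -- hence G' centralizes V
    have hGC : commutator G ≤ C := by
      rw [commutator_eq_closure, Subgroup.closure_le]
      rintro _ ⟨a, b, rfl⟩
      show ⁅a, b⁆ ∈ C
      rw [← QuotientGroup.eq_one_iff]
      have e : (QuotientGroup.mk ⁅a, b⁆ : G ⧸ C) =
          ⁅(QuotientGroup.mk a : G ⧸ C), (QuotientGroup.mk b : G ⧸ C)⁆ := rfl
      rw [e, commutatorElement_eq_one_iff_commute]
      exact hQc _ _
    have hnilV : Group.IsNilpotent (commutator (G ⧸ V)) := IHquot V hVφ hVne
    have hmap : (commutator G).map (QuotientGroup.mk' V) ≤ commutator (G ⧸ V) := by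
      rw [commutator_def, commutator_def, Subgroup.map_commutator]
      exact Subgroup.commutator_mono le_top le_top
    let g : ↥(commutator G) →* ↥(commutator (G ⧸ V)) :=
      ((QuotientGroup.mk' V).comp (commutator G).subtype).codRestrict (commutator (G ⧸ V))
        (fun x => hmap (Subgroup.mem_map_of_mem _ x.2))
    refine Subgroup.isNilpotent_of_ker_le_center g ?_
    intro x hx
    rw [MonoidHom.mem_ker] at hx
    have hxV : (x : G) ∈ V := by
      have h1 := congrArg Subtype.val hx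
      have h2 : (QuotientGroup.mk (x : G) : G ⧸ V) = 1 := h1
      rwa [QuotientGroup.eq_one_iff] at h2
    rw [Subgroup.mem_center_iff]
    intro y
    apply Subtype.ext
    have hyC : (y : G) ∈ C := hGC y.2
    exact ((hCmem _).mp hyC x hxV).symm

end main

end Cfsg.Agent.Lib.helper62
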