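import Mathlib
import Cfsg.Agent.Lib.helper62.FpfLift

/-!
Fixed-point-free representations in characteristic zero (helper62).

* `exists_rep_of_int` : if no nonzero integer lies in the integral trace ideal `IL ℤ G`, then over
  every field `K` of characteristic zero there is a nonzero finite-dimensional representation of
  `G` in which the trace of every element of prime order vanishes.
* `exists_matrix_rep` : such a representation contains an irreducible faithful matrix
  representation in which no non-identity element has a nonzero fixed vector.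
-/

set_option autoImplicit false

namespace Cfsg.Agent.Lib.helper62.FpfRep

open Cfsg.Agent.Lib.helper62.FpfLift
open scoped TensorProduct

universe u v w

section BaseChange

/-- The integral trace-zero quotient of the group ring. -/
abbrev MZ (G : Type u) [Group G] : Type u := MonoidAlgebra ℤ G ⧸ IL ℤ G

/-- `G` acting on `MZ G` by left multiplication. -/
noncomputable def rhoZ (G : Type u) [Group G] : G →* Module.End ℤ (MZ G) where
  toFun g := (DistribSMul.toAddMonoidHom (MZ G) (MonoidAlgebra.of ℤ G g)).toIntLinearMap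
  map_one' := by
    refine LinearMap.ext fun x => ?_
    show (MonoidAlgebra.of ℤ G 1) • x = x
    rw [map_one, one_smul]
  map_mul' g h := by
    refine LinearMap.ext fun x => ?_
    show (MonoidAlgebra.of ℤ G (g * h)) • x = (MonoidAlgebra.of ℤ G g) • (MonoidAlgebra.of ℤ G h) • x
    rw [map_mul, mul_smul]

theorem rhoZ_mk (G : Type u) [Group G] (g : G) (x : MonoidAlgebra ℤ G) :
    rhoZ G g (Submodule.Quotient.mk x) = (IL ℤ G).mkQ (MonoidAlgebra.of ℤ G g * x) := rfl

theorem rhoZ_tz (G : Type u) [Group G] (c : G) (hc : (orderOf c).Prime) :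
    ∑ i ∈ Finset.range (orderOf c), rhoZ G (c ^ i) = 0 := by
  refine LinearMap.ext fun x => ?_
  obtain ⟨x, rfl⟩ := Submodule.Quotient.mk_surjective _ x
  simp only [LinearMap.sum_apply, LinearMap.zero_apply, rhoZ_mk]
  rw [← map_sum, ← Finset.sum_mul, Submodule.mkQ_apply, Submodule.Quotient.mk_eq_zero]
  exact tr_mul_mem ℤ c hc x

variable (G : Type u) [Group G] [Finite G] (K : Type v) [Field K] [CharZero K]

theorem exists_rep_of_int (hZ : ∀ r : ℤ, (r : MonoidAlgebra ℤ G) ∈ IL ℤ G → r = 0) :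
    ∃ (V : Type (max u v)) (_ : AddCommGroup V) (_ : Module K V) (_ : Module.Finite K V)
      (_ : Nontrivial V) (ρ : G →* Module.End K V),
      ∀ c : G, (orderOf c).Prime → ∑ i ∈ Finset.range (orderOf c), ρ (c ^ i) = 0 := by
  let ρ : G →* Module.End K (K ⊗[ℤ] MZ G) :=
    ((Module.End.baseChangeHom ℤ K (MZ G)).toRingHom :
      Module.End ℤ (MZ G) →* Module.End K (K ⊗[ℤ] MZ G)).comp (rhoZ G)
  have hρ : ∀ c : G, (orderOf c).Prime →
      ∑ i ∈ Finset.range (orderOf c), ρ (c ^ i) = 0 := by
    intro c hc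
    have h : ∀ i : ℕ, ρ (c ^ i) = Module.End.baseChangeHom ℤ K (MZ G) (rhoZ G (c ^ i)) :=
      fun i => rfl
    simp only [h]
    rw [← map_sum, rhoZ_tz G c hc, map_zero]
  have hfinM : Module.Finite ℤ (MZ G) := by
    have : Module.Finite ℤ (MonoidAlgebra ℤ G) := inferInstance
    exact Module.Finite.of_surjective ((IL ℤ G).mkQ.toAddMonoidHom.toIntLinearMap)
      (Submodule.Quotient.mk_surjective _)
  have hfin : Module.Finite K (K ⊗[ℤ] MZ G) := inferInstance
  have hnt : Nontrivial (K ⊗[ℤ] MZ G) := by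
    let j : ℤ →ₗ[ℤ] MZ G := LinearMap.toSpanSingleton ℤ (MZ G) (Submodule.Quotient.mk 1)
    have hj : Function.Injective j := by
      rw [injective_iff_map_eq_zero]
      intro r hr
      apply hZ r
      have h1 : j r = Submodule.Quotient.mk ((r : MonoidAlgebra ℤ G)) := by
        show r • (Submodule.Quotient.mk (1 : MonoidAlgebra ℤ G) : MZ G) = _
        rw [← Submodule.Quotient.mk_smul]
        congr 1
        simp
      rw [h1, Submodule.Quotient.mk_eq_zero] at hr
      exact hr
    have hinj := Module.Flat.lTensor_preserves_injective_linearMap (M := K) j hj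
    refine ⟨⟨(j.lTensor K) ((1 : K) ⊗ₜ[ℤ] (1 : ℤ)), 0, ?_⟩⟩
    rw [← map_zero (j.lTensor K)]
    intro h
    have h2 := hinj h
    have h3 := congrArg (TensorProduct.rid ℤ K) h2
    simp at h3
  exact ⟨K ⊗[ℤ] MZ G, inferInstance, inferInstance, hfin, hnt, ρ, hρ⟩

end BaseChange

section Mat

variable {K : Type v} [Field K] [CharZero K] {G : Type u} [Group G] [Finite G]
  {V : Type w} [AddCommGroup V] [Module K V]

theorem fpf_of_tz_charZero (ρ : G →* Module.End K V)
    (hρ : ∀ c : G, (orderOf c).Prime → ∑ i ∈ Finset.range (orderOf c), ρ (c ^ i) = 0)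
    (g : G) (hg : g ≠ 1) (x : V) (hx : ρ g x = x) : x = 0 := by
  have ho : orderOf g ≠ 1 := fun h => hg (orderOf_eq_one_iff.mp h)
  obtain ⟨ℓ, hℓ, hdvd⟩ := Nat.exists_prime_and_dvd ho
  have hoc : orderOf (g ^ (orderOf g / ℓ)) = ℓ :=
    orderOf_pow_orderOf_div (orderOf_pos g).ne' hdvd
  have hax : ∀ n : ℕ, ρ (g ^ n) x = x := fun n => by
    induction n with
    | zero => simp
    | succ n ih => rw [pow_succ, map_mul, Module.End.mul_apply, hx, ih]
  have h1 := congrArg (fun f : Module.End K V => f x)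
    (hρ (g ^ (orderOf g / ℓ)) (by rw [hoc]; exact hℓ))
  simp only [LinearMap.sum_apply, LinearMap.zero_apply] at h1
  have h1' : ∑ d ∈ Finset.range (orderOf (g ^ (orderOf g / ℓ))),
      ρ ((g ^ (orderOf g / ℓ)) ^ d) x
      = ∑ _d ∈ Finset.range (orderOf (g ^ (orderOf g / ℓ))), x :=
    Finset.sum_congr rfl (fun i _ => by rw [← pow_mul]; exact hax _)
  rw [h1', Finset.sum_const, Finset.card_range, hoc] at h1
  have h2 : (ℓ : K) • x = 0 := by rw [Nat.cast_smul_eq_nsmul]; exact h1
  rcases smul_eq_zero.mp h2 with h | h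
  · exact absurd (Nat.cast_eq_zero.mp h) hℓ.ne_zero
  · exact h

theorem exists_matrix_rep [Module.Finite K V] [Nontrivial V] (ρ : G →* Module.End K V)
    (hρ : ∀ c : G, (orderOf c).Prime → ∑ i ∈ Finset.range (orderOf c), ρ (c ^ i) = 0) :
    ∃ (n : ℕ) (σ : G →* GL (Fin n) K), 0 < n ∧ Function.Injective σ ∧
      (∀ W : Submodule K (Fin n → K),
        (∀ g : G, ∀ w ∈ W,
          ((σ g : GL (Fin n) K) : Matrix (Fin n) (Fin n) K).mulVec w ∈ W) → W = ⊥ ∨ W = ⊤) ∧
      ∀ g : G, g ≠ 1 → ∀ x : Fin n → K,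
        ((σ g : GL (Fin n) K) : Matrix (Fin n) (Fin n) K).mulVec x = x → x = 0 := by
  classical
  have hfpf := fpf_of_tz_charZero ρ hρ
  have hP : ∃ d : ℕ, ∃ W : Submodule K V, W ≠ ⊥ ∧ (∀ g : G, ∀ w ∈ W, ρ g w ∈ W) ∧
      Module.finrank K W = d :=
    ⟨_, ⊤, top_ne_bot, fun _ _ _ => Submodule.mem_top, rfl⟩
  obtain ⟨W, hW0, hWinv, hWd⟩ := Nat.find_spec hP
  have hmin : ∀ U : Submodule K V, U ≠ ⊥ → (∀ g : G, ∀ w ∈ U, ρ g w ∈ U) → U ≤ W → U = W := by
    intro U hU0 hUinv hUW
    have h1 : Nat.find hP ≤ Module.finrank K U := Nat.find_min' hP ⟨U, hU0, hUinv, rfl⟩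
    rw [← hWd] at h1
    exact Submodule.eq_of_le_of_finrank_le hUW h1
  have hWnt : Nontrivial W := Submodule.nontrivial_iff_ne_bot.mpr hW0
  have hnpos : 0 < Module.finrank K W := Module.finrank_pos
  let b : Module.Basis (Fin (Module.finrank K W)) K W := Module.finBasis K W
  let τ : G →* Module.End K W :=
    { toFun := fun g => (ρ g).restrict (hWinv g)
      map_one' := by
        refine LinearMap.ext fun w => Subtype.ext ?_
        simp
      map_mul' := fun g h => by
        refine LinearMap.ext fun w => Subtype.ext ?_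
        simp [map_mul] }
  have hτ : ∀ (g : G) (w : W), ((τ g w : W) : V) = ρ g (w : V) := fun g w => rfl
  let σ₀ : G →* Matrix (Fin (Module.finrank K W)) (Fin (Module.finrank K W)) K :=
    ((LinearMap.toMatrixAlgEquiv b : Module.End K W ≃ₐ[K] _) : Module.End K W →* _).comp τ
  let σ : G →* GL (Fin (Module.finrank K W)) K := σ₀.toHomUnits
  have hσ : ∀ (g : G) (w : W),
      ((σ g : GL (Fin (Module.finrank K W)) K) : Matrix _ _ K).mulVec (b.equivFun w)
        = b.equivFun (τ g w) := by
    intro g w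
    have h1 : ((σ g : GL (Fin (Module.finrank K W)) K) : Matrix _ _ K)
        = LinearMap.toMatrix b b (τ g) := rfl
    rw [h1]
    exact LinearMap.toMatrix_mulVec_repr b b (τ g) w
  have hfpfσ : ∀ g : G, g ≠ 1 → ∀ x : Fin (Module.finrank K W) → K,
      ((σ g : GL (Fin (Module.finrank K W)) K) : Matrix _ _ K).mulVec x = x → x = 0 := by
    intro g hg x hx
    obtain ⟨w, rfl⟩ := b.equivFun.surjective x
    rw [hσ] at hx
    have h1 : τ g w = w := b.equivFun.injective hx
    have h2 : ρ g (w : V) = w := by rw [← hτ, h1]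
    have h3 : (w : V) = 0 := hfpf g hg _ h2
    have h4 : w = 0 := Subtype.ext h3
    rw [h4, map_zero]
  refine ⟨Module.finrank K W, σ, hnpos, ?_, ?_, hfpfσ⟩
  · rw [injective_iff_map_eq_one]
    intro g hg
    by_contra hg1
    have h1 := hfpfσ g hg1 (fun _ => 1) (by rw [hg]; simp)
    have h2 := congrFun h1 ⟨0, hnpos⟩
    simp at h2
  · intro U hU
    let U' : Submodule K V := (U.comap b.equivFun.toLinearMap).map W.subtype
    have hU'mem : ∀ x : V, x ∈ U' ↔ ∃ w : W, b.equivFun w ∈ U ∧ (w : V) = x := by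
      intro x
      simp only [U', Submodule.mem_map, Submodule.mem_comap]
      rfl
    have hU'W : U' ≤ W := by
      intro x hx
      obtain ⟨w, -, rfl⟩ := (hU'mem x).mp hx
      exact w.2
    have hU'inv : ∀ g : G, ∀ x ∈ U', ρ g x ∈ U' := by
      intro g x hx
      obtain ⟨w, hw, rfl⟩ := (hU'mem x).mp hx
      refine (hU'mem _).mpr ⟨τ g w, ?_, hτ g w⟩
      rw [← hσ]
      exact hU g _ hw
    by_cases hU'0 : U' = ⊥
    · left
      rw [Submodule.eq_bot_iff]
      intro x hx
      obtain ⟨w, rfl⟩ := b.equivFun.surjective x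
      have h1 : (w : V) ∈ U' := (hU'mem _).mpr ⟨w, hx, rfl⟩
      rw [hU'0, Submodule.mem_bot] at h1
      have h2 : w = 0 := Subtype.ext h1
      rw [h2, map_zero]
    · right
      have h1 := hmin U' hU'0 hU'inv hU'W
      rw [Submodule.eq_top_iff']
      intro x
      obtain ⟨w, rfl⟩ := b.equivFun.surjective x
      have h2 : (w : V) ∈ U' := by rw [h1]; exact w.2
      obtain ⟨w', hw', hww'⟩ := (hU'mem _).mp h2
      have h3 : w' = w := Subtype.ext hww'
      rw [← h3]
      exact hw'

end Mat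

end Cfsg.Agent.Lib.helper62.FpfRep
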