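import Mathlib
import Cfsg.Prelude.Def_Transfer

/-!
# Normal `p`-complements from an abelian quotient by a `p'`-subgroup

If `C` is a normal subgroup of `G` of order prime to `p` with `G ⧸ C` abelian, then `G` has a
normal `p`-complement and abelian Sylow `p`-subgroups.
-/

set_option autoImplicit false

namespace Cfsg.Agent.Lib.helper62.Hup

theorem normal_p_complement_of_abelian_quotient {G : Type*} [Group G] [Finite G] (p : ℕ)
    [Fact p.Prime] (C : Subgroup G) (hCn : C.Normal) (hCp : ¬ p ∣ Nat.card C)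
    (hab : ∀ g h : G, g * h * g⁻¹ * h⁻¹ ∈ C) :
    Cfsg.HasNormalPComplement p G ∧ ∀ Q : Sylow p G, IsMulCommutative (Q : Subgroup G) := by
  classical
  have hp : p.Prime := Fact.out
  have hcopC : ∀ k : ℕ, Nat.Coprime (p ^ k) (Nat.card C) := fun k =>
    Nat.Coprime.pow_left k ((Nat.Prime.coprime_iff_not_dvd hp).mpr hCp)
  -- elements of `p`-power order in `C` are trivial
  have hmeet : ∀ (x : G) (k : ℕ), x ^ p ^ k = 1 → x ∈ C → x = 1 := by
    intro x k hk hxC
    have h1 : orderOf x ∣ p ^ k := orderOf_dvd_of_pow_eq_one hk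
    have h2 : orderOf x ∣ Nat.card C := by
      have := orderOf_dvd_natCard (⟨x, hxC⟩ : C)
      rwa [Subgroup.orderOf_mk] at this
    have h3 : orderOf x = 1 := Nat.eq_one_of_dvd_coprimes (hcopC k) h1 h2
    exact orderOf_eq_one_iff.mp h3
  refine ⟨?_, ?_⟩
  · -- the normal `p`-complement
    letI : CommGroup (G ⧸ C) :=
      { (inferInstance : Group (G ⧸ C)) with
        mul_comm := by
          intro x y
          induction x using QuotientGroup.induction_on with
          | H g =>
            induction y using QuotientGroup.induction_on with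
            | H h =>
              rw [← QuotientGroup.mk_mul, ← QuotientGroup.mk_mul, QuotientGroup.eq]
              have h1 := hab h⁻¹ g⁻¹
              have h2 : (g * h)⁻¹ * (h * g) = h⁻¹ * g⁻¹ * h⁻¹⁻¹ * g⁻¹⁻¹ := by group
              rw [h2]
              exact h1 }
    obtain ⟨a, m, hm, hGam⟩ := Nat.exists_eq_pow_mul_and_not_dvd (Nat.card_pos (α := G)).ne' p
      hp.ne_one
    let f : G →* G ⧸ C := (powMonoidHom m).comp (QuotientGroup.mk' C)
    have hf : ∀ g : G, f g = (QuotientGroup.mk g : G ⧸ C) ^ m := fun g => rfl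
    have hKn : f.ker.Normal := inferInstance
    -- the index of the kernel is a power of `p`
    have hrange : IsPGroup p f.range := by
      rintro ⟨y, g, rfl⟩
      refine ⟨a, Subtype.ext ?_⟩
      show (f g) ^ p ^ a = 1
      rw [hf, ← pow_mul, mul_comm, ← hGam, ← QuotientGroup.mk_pow, pow_card_eq_one',
        QuotientGroup.mk_one]
    obtain ⟨b, hb⟩ := IsPGroup.iff_card.mp hrange
    have hidx : f.ker.index = p ^ b := by rw [Subgroup.index_ker, hb]
    -- the kernel has order prime to `p`
    have hKp : ¬ p ∣ Nat.card f.ker := by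
      intro hdvd
      obtain ⟨k, hk⟩ := exists_prime_orderOf_dvd_card' p hdvd
      have hk1 : (k : G) ^ p = 1 := by
        have := pow_orderOf_eq_one k
        rw [hk] at this
        exact congrArg Subtype.val this
      have h1 : (QuotientGroup.mk (k : G) : G ⧸ C) ^ m = 1 := by
        rw [← hf]
        exact MonoidHom.mem_ker.mp k.2
      have h2 : (QuotientGroup.mk (k : G) : G ⧸ C) ^ p = 1 := by
        rw [← QuotientGroup.mk_pow, hk1, QuotientGroup.mk_one]
      have h3 : (QuotientGroup.mk (k : G) : G ⧸ C) ^ (Nat.gcd m p) = 1 := pow_gcd_eq_one.mpr ⟨h1, h2⟩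
      have hgcd : Nat.gcd m p = 1 := by
        rw [Nat.gcd_comm]
        exact (Nat.Prime.coprime_iff_not_dvd hp).mpr hm
      rw [hgcd, pow_one] at h3
      have hkC : (k : G) ∈ C := (QuotientGroup.eq_one_iff _).mp h3
      have hk0 : (k : G) = 1 := hmeet (k : G) 1 (by rwa [pow_one]) hkC
      have hk0' : k = 1 := Subtype.ext hk0
      rw [hk0', orderOf_one] at hk
      exact hp.one_lt.ne hk
    obtain ⟨P⟩ : Nonempty (Sylow p G) := inferInstance
    obtain ⟨c, hc⟩ := IsPGroup.iff_card.mp P.2
    have hPidx : ¬ p ∣ (P : Subgroup G).index := P.not_dvd_index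
    have hcard1 : Nat.card f.ker * p ^ b = Nat.card G := by
      rw [← hidx, Subgroup.card_mul_index]
    have hcard2 : p ^ c * (P : Subgroup G).index = Nat.card G := by
      rw [← hc, Subgroup.card_mul_index]
    have hcopK : Nat.Coprime (p ^ c) (Nat.card f.ker) :=
      Nat.Coprime.pow_left c ((Nat.Prime.coprime_iff_not_dvd hp).mpr hKp)
    have hcopI : Nat.Coprime (p ^ b) ((P : Subgroup G).index) :=
      Nat.Coprime.pow_left b ((Nat.Prime.coprime_iff_not_dvd hp).mpr hPidx)
    have hcb : c = b := by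
      have h1 : p ^ c ∣ Nat.card f.ker * p ^ b := by
        rw [hcard1, ← hcard2]
        exact dvd_mul_right _ _
      have h2 : p ^ c ∣ p ^ b := hcopK.dvd_of_dvd_mul_left h1
      have h3 : p ^ b ∣ p ^ c * (P : Subgroup G).index := by
        rw [hcard2, ← hcard1]
        exact dvd_mul_left _ _
      have h4 : p ^ b ∣ p ^ c := hcopI.dvd_of_dvd_mul_right h3
      exact le_antisymm ((Nat.pow_dvd_pow_iff_le_right hp.one_lt).mp h2)
        ((Nat.pow_dvd_pow_iff_le_right hp.one_lt).mp h4)
    refine ⟨P, f.ker, hKn, ?_⟩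
    apply Subgroup.isComplement'_of_coprime
    · rw [hc, hcb]
      exact hcard1
    · rw [hc]
      exact hcopK.symm
  · intro Q
    refine ⟨⟨?_⟩⟩
    rintro ⟨x, hx⟩ ⟨y, hy⟩
    apply Subtype.ext
    show x * y = y * x
    have hmem : x * y * x⁻¹ * y⁻¹ ∈ (Q : Subgroup G) :=
      Q.1.mul_mem (Q.1.mul_mem (Q.1.mul_mem hx hy) (Q.1.inv_mem hx)) (Q.1.inv_mem hy)
    obtain ⟨k, hk⟩ := Q.2 ⟨_, hmem⟩
    have hk' : (x * y * x⁻¹ * y⁻¹) ^ p ^ k = 1 := congrArg Subtype.val hk
    have h1 : x * y * x⁻¹ * y⁻¹ = 1 := hmeet _ k hk' (hab x y)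
    calc x * y = x * y * x⁻¹ * y⁻¹ * (y * x) := by group
      _ = y * x := by rw [h1, one_mul]

end Cfsg.Agent.Lib.helper62.Hup
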