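import Mathlib

set_option autoImplicit false

/-!
# Basic facts for Huppert's theorem: order of a transitive linear group, maximal normal abelian
subgroups
-/

namespace Cfsg.Agent.Lib.helper62.Hup

theorem exists_max_normal_abelian (G : Type*) [Group G] [Finite G] :
    ∃ M : Subgroup G, M.Normal ∧ (∀ a ∈ M, ∀ b ∈ M, a * b = b * a) ∧
      ∀ A : Subgroup G, A.Normal → (∀ a ∈ A, ∀ b ∈ A, a * b = b * a) → M ≤ A → A = M := by
  classical
  let S : Set (Subgroup G) := {A | A.Normal ∧ ∀ a ∈ A, ∀ b ∈ A, a * b = b * a}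
  have hS : S.Nonempty := by
    refine ⟨⊥, inferInstance, ?_⟩
    intro a ha b hb
    rw [Subgroup.mem_bot] at ha hb
    rw [ha, hb]
  obtain ⟨M, hMS, hmax⟩ := (wellFounded_gt (α := Subgroup G)).has_min S hS
  refine ⟨M, hMS.1, hMS.2, ?_⟩
  intro A hAn hAab hMA
  by_contra hne
  exact hmax A ⟨hAn, hAab⟩ (lt_of_le_of_ne hMA (Ne.symm hne))

variable {q : ℕ} [Fact q.Prime] {V : Type*} [AddCommGroup V] [Module (ZMod q) V] [Finite V]
  {G : Type*} [Group G] [Finite G]

theorem card_nonzero : Nat.card {v : V // v ≠ 0} = q ^ Module.finrank (ZMod q) V - 1 := by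
  classical
  have : Fintype V := Fintype.ofFinite V
  rw [Nat.card_eq_fintype_card, Fintype.card_subtype_compl, Fintype.card_subtype_eq,
    ← Nat.card_eq_fintype_card, Module.natCard_eq_pow_finrank (K := ZMod q), Nat.card_zmod]

theorem card_dvd_of_trans [Nontrivial V] (ρ : G →* (V ≃ₗ[ZMod q] V))
    (htrans : ∀ v w : V, v ≠ 0 → w ≠ 0 → ∃ g : G, ρ g v = w) :
    q ^ Module.finrank (ZMod q) V - 1 ∣ Nat.card G := by
  classical
  obtain ⟨v₀, hv₀⟩ := exists_ne (0 : V)
  let S : Subgroup G :=
    { carrier := {g | ρ g v₀ = v₀}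
      one_mem' := by simp
      mul_mem' := by
        intro a b ha hb
        simp only [Set.mem_ofPred_eq] at ha hb ⊢
        rw [map_mul]
        show ρ a (ρ b v₀) = v₀
        rw [hb, ha]
      inv_mem' := by
        intro a ha
        simp only [Set.mem_ofPred_eq] at ha ⊢
        rw [map_inv]
        show (ρ a).symm v₀ = v₀
        rw [LinearEquiv.symm_apply_eq, ha] }
  have hmemS : ∀ g : G, g ∈ S ↔ ρ g v₀ = v₀ := fun g => Iff.rfl
  let φ : G → {v : V // v ≠ 0} := fun g => ⟨ρ g v₀, (LinearEquiv.map_ne_zero_iff _).mpr hv₀⟩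
  have hφ : ∀ a b : G, φ a = φ b ↔ a⁻¹ * b ∈ S := by
    intro a b
    rw [hmemS, map_mul, map_inv]
    show _ ↔ (ρ a).symm (ρ b v₀) = v₀
    rw [LinearEquiv.symm_apply_eq]
    constructor
    · intro h
      exact (congrArg Subtype.val h).symm
    · intro h
      exact Subtype.ext h.symm
  let ψ : G ⧸ S → {v : V // v ≠ 0} := Quotient.lift φ (by
    intro a b hab
    exact (hφ a b).mpr (QuotientGroup.leftRel_apply.mp hab))
  have hψ : Function.Bijective ψ := by
    constructor
    · intro x y
      induction x using QuotientGroup.induction_on with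
      | H a =>
        induction y using QuotientGroup.induction_on with
        | H b =>
          intro h
          exact QuotientGroup.eq.mpr ((hφ a b).mp h)
    · rintro ⟨w, hw⟩
      obtain ⟨g, hg⟩ := htrans v₀ w hv₀ hw
      exact ⟨QuotientGroup.mk g, Subtype.ext hg⟩
  have h1 : Nat.card (G ⧸ S) = q ^ Module.finrank (ZMod q) V - 1 := by
    rw [Nat.card_congr (Equiv.ofBijective ψ hψ), card_nonzero (q := q)]
  rw [Subgroup.card_eq_card_quotient_mul_card_subgroup S, h1]
  exact dvd_mul_right _ _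

end Cfsg.Agent.Lib.helper62.Hup
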