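import Mathlib
import Cfsg.Agent.Lib.helper25.HupDimTwo

/-!
# Huppert's theorem, the two-dimensional case: structural form

`config_two` is helper25's `case_two` (Lib/helper25/HupDimTwo.lean) stopped before the final
arithmetic: it returns the configuration `M ≤ N` (`M` maximal normal abelian, `N / M` of order
`2 ^ 2`, `N` of class two) instead of the list of possible `|V|`.
-/

set_option autoImplicit false

namespace Cfsg.Agent.Lib.helper62.Hup

theorem config_two {q : ℕ} [Fact q.Prime] {V : Type*} [AddCommGroup V] [Module (ZMod q) V] [Finite V]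
    [Nontrivial V]
    {G : Type*} [Group G] [Finite G] (hsol : Group.IsSolvable G) (ρ : G →* (V ≃ₗ[ZMod q] V))
    (hρ : Function.Injective ρ)
    (htrans : ∀ v w : V, v ≠ 0 → w ≠ 0 → ∃ g : G, ρ g v = w)
    (hn : Module.finrank (ZMod q) V = 2)
    (hI : ∀ A : Subgroup G, A.Normal → IsCyclic A → ∃ W : Submodule (ZMod q) V,
      W ≠ ⊥ ∧ W ≠ ⊤ ∧ ∀ a ∈ A, ∀ v ∈ W, ρ a v ∈ W) :
    ∃ (m : ℕ) (M N : Subgroup G), M.Normal ∧ N.Normal ∧ M ≤ N ∧
      (∀ A : Subgroup G, A.Normal → (∀ a ∈ A, ∀ b ∈ A, a * b = b * a) → M ≤ A → A = M) ∧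
      (∀ a ∈ M, ∀ v : V, v ≠ 0 → ρ a v = v → a = 1) ∧
      (∀ g ∈ N, ∀ z ∈ M, g * z = z * g) ∧
      (∀ g ∈ N, ∀ h ∈ N, g * h * g⁻¹ * h⁻¹ ∈ M) ∧
      (∀ g ∈ N, g ^ 2 ∈ M) ∧
      (∀ g ∈ N, (∀ h ∈ N, g * h = h * g) → g ∈ M) ∧
      1 ≤ m ∧ (2 ^ m + 1).Prime ∧ Module.finrank (ZMod q) V = 2 ^ m ∧
      Nat.card N = Nat.card M * 2 ^ (2 * m) := by
  have hq : q.Prime := Fact.out
  have hfin : Module.Finite (ZMod q) V := Module.Finite.of_finite
  have hcardV : Nat.card V = q ^ 2 := by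
    rw [Module.natCard_eq_pow_finrank (K := ZMod q) (V := V), Nat.card_zmod, hn]
  have hGV : Nat.card V ≤ Nat.card G + 1 := Cfsg.Agent.Lib.helper25.Hup.card_le_succ_of_trans ρ htrans
  obtain ⟨M, hMn, hMab, hMmax⟩ := Cfsg.Agent.Lib.helper25.Hup.exists_max_normal_abelian G
  have hfree : ∀ a ∈ M, ∀ v : V, v ≠ 0 → ρ a v = v → a = 1 :=
    Cfsg.Agent.Lib.helper71.Hup.semiregular_of_normal_abelian ρ hρ htrans M hMn hMab
  have hMcyc : IsCyclic M :=
    Cfsg.Agent.Lib.helper39.Hup.isCyclic_of_semiregular_abelian ρ M hMab hfree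
  obtain ⟨W, hW0, hWtop, hWinv⟩ := hI M hMn hMcyc
  have hW1 : Module.finrank (ZMod q) W = 1 := by
    have h1 : Module.finrank (ZMod q) W < Module.finrank (ZMod q) V :=
      Submodule.finrank_lt hWtop
    have h2 : Module.finrank (ZMod q) W ≠ 0 := by
      intro h0
      exact hW0 (Submodule.finrank_eq_zero.mp h0)
    omega
  have hMdvd : Nat.card M ∣ q - 1 := by
    have h := Cfsg.Agent.Lib.helper39.Hup.card_dvd_of_semiregular ρ M hfree W hWinv
    rwa [hW1, pow_one] at h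
  have hMle : Nat.card M ≤ q - 1 :=
    Nat.le_of_dvd (by have := hq.two_le; omega) hMdvd
  -- the centralizer of `M` is strictly bigger than `M`
  have hCn : (Subgroup.centralizer (M : Set G)).Normal := Subgroup.normal_centralizer
  have hMC : M ≤ Subgroup.centralizer (M : Set G) := by
    intro a ha
    rw [Subgroup.mem_centralizer_iff]
    intro b hb
    exact hMab b hb a ha
  have hC : ∀ g ∈ Subgroup.centralizer (M : Set G), ∀ z ∈ M, g * z = z * g := by
    intro g hg z hz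
    exact ((Subgroup.mem_centralizer_iff.mp hg) z hz).symm
  have hMltC : M < Subgroup.centralizer (M : Set G) := by
    refine lt_of_le_of_ne hMC ?_
    intro heq
    have h1 := Cfsg.Agent.Lib.helper15.LinReg.card_le_of_cyclic_normal G M
    rw [← heq] at h1
    have h2 : Nat.card M * Nat.card M ≤ (q - 1) * (q - 1) := Nat.mul_le_mul hMle hMle
    have h3 : q ^ 2 ≤ (q - 1) * (q - 1) + 1 := by
      rw [← hcardV]; omega
    obtain ⟨t, rfl⟩ : ∃ t, q = t + 1 := ⟨q - 1, by have := hq.two_le; omega⟩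
    have ht : 1 ≤ t := by have := hq.two_le; omega
    simp only [Nat.add_sub_cancel] at h3
    nlinarith
  obtain ⟨r, N, hr, hNn, hMN, hNC, hcomm, hexp, hZ⟩ :=
    Cfsg.Agent.Lib.helper74.Hup.exists_class_two hsol M (Subgroup.centralizer (M : Set G)) hMn hCn
      hMab hMmax hMltC hC
  have hcent : ∀ g ∈ N, ∀ z ∈ M, g * z = z * g := fun g hg => hC g (hNC hg)
  obtain ⟨m, hcard⟩ :=
    Cfsg.Agent.Lib.helper83.Hup.card_eq_mul_sq r hr M N hMN.le hMcyc hcent hcomm hexp hZ
  have hm : 1 ≤ m := by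
    by_contra h0
    have hm0 : m = 0 := by omega
    rw [hm0, Nat.mul_zero, pow_zero, mul_one] at hcard
    exact hMN.ne (Subgroup.eq_of_le_of_card_ge hMN.le hcard.le)
  have hidx : r ^ (2 * m) ≤ Module.finrank (ZMod q) V * Module.finrank (ZMod q) V :=
    Cfsg.Agent.Lib.helper62.Hup.index_le_sq
      ((LinearEquiv.automorphismGroup.toLinearMapMonoidHom (R := ZMod q) (M := V)).comp ρ) M N
      hMN.le hfree hcent hcomm hZ (r ^ (2 * m)) hcard
  rw [hn] at hidx
  have hr2 : 2 ≤ r := hr.two_le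
  have hm1 : m = 1 := by
    by_contra hne
    have h2 : 2 ≤ m := by omega
    have h3 : 2 ^ (2 * 2) ≤ r ^ (2 * m) :=
      (Nat.pow_le_pow_left hr2 _).trans (Nat.pow_le_pow_right (by omega) (by omega))
    norm_num at h3
    omega
  subst hm1
  have hreq : r = 2 := by
    by_contra hne
    have h3 : 3 ≤ r := by omega
    have h4 : 3 ^ (2 * 1) ≤ r ^ (2 * 1) := Nat.pow_le_pow_left h3 _
    norm_num at h4 hidx
    omega
  subst hreq
  exact ⟨1, M, N, hMn, hNn, hMN.le, hMmax, hfree, hcent, hcomm, hexp, hZ, le_rfl, by norm_num,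
    by rw [hn]; norm_num, hcard⟩

end Cfsg.Agent.Lib.helper62.Hup
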