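import Mathlib
import Cfsg.Agent.Lib.helper62.SemiLinA
import Cfsg.Agent.Lib.helper62.HupSpan
import Cfsg.Agent.Lib.helper62.HupBasic
import Cfsg.Agent.Lib.helper74.HupClassTwo
import Cfsg.Agent.Lib.helper83.HupSquare
import Cfsg.Agent.Lib.helper57.HupFpf
import Cfsg.Agent.Lib.helper53.HupFrob
import Cfsg.Agent.Lib.helper29.HupComm
import Cfsg.Agent.Lib.helper71.HupSemireg
import Cfsg.Agent.Lib.helper39.HupCyc
import Cfsg.Agent.Lib.helper77.HupPpd
import Cfsg.Agent.Lib.helper71.HupFinal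

set_option autoImplicit false

/-!
# Huppert's theorem: the generic case (a primitive prime divisor exists)
-/

namespace Cfsg.Agent.Lib.helper62.Hup

theorem case_generic {q : ℕ} [Fact q.Prime] {V : Type*} [AddCommGroup V] [Module (ZMod q) V]
    [Finite V] [Nontrivial V]
    {G : Type*} [Group G] [Finite G] (hsol : IsSolvable G) (ρ : G →* (V ≃ₗ[ZMod q] V))
    (hρ : Function.Injective ρ)
    (htrans : ∀ v w : V, v ≠ 0 → w ≠ 0 → ∃ g : G, ρ g v = w)
    (hI : ∀ A : Subgroup G, A.Normal → IsCyclic A → ∃ W : Submodule (ZMod q) V,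
      W ≠ ⊥ ∧ W ≠ ⊤ ∧ ∀ a ∈ A, ∀ v ∈ W, ρ a v ∈ W)
    (ℓ : ℕ) (hℓ : ℓ.Prime) (hn2 : 2 ≤ Module.finrank (ZMod q) V)
    (hℓdvd : ℓ ∣ q ^ Module.finrank (ZMod q) V - 1)
    (hppd : ∀ k, 0 < k → k < Module.finrank (ZMod q) V → ¬ ℓ ∣ q ^ k - 1) :
    Nat.card V ∈ ({9, 25, 49, 121, 529, 81} : Set ℕ) := by
  classical
  set n := Module.finrank (ZMod q) V with hn
  have hqp : q.Prime := Fact.out
  have hqn1 : 1 ≤ q ^ n := Nat.one_le_pow _ _ hqp.pos
  have hqnot : ¬ q ∣ q ^ n - 1 := by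
    intro h
    have h1 : q ∣ q ^ n := dvd_pow_self _ (by omega)
    have h3 : q ∣ 1 := by
      have := Nat.dvd_sub h1 h
      rwa [Nat.sub_sub_self hqn1] at this
    exact hqp.one_lt.ne' (Nat.dvd_one.mp h3)
  have hℓq : ℓ ≠ q := by
    rintro rfl
    exact hqnot hℓdvd
  have hℓn : n + 1 ≤ ℓ := by
    by_contra hcon
    push Not at hcon
    have hcop : Nat.Coprime q ℓ := (Nat.coprime_primes hqp hℓ).mpr (Ne.symm hℓq)
    have h1 : ℓ ∣ q ^ (ℓ - 1) - 1 := by
      have h := Nat.ModEq.pow_totient hcop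
      rw [Nat.totient_prime hℓ] at h
      exact (Nat.modEq_iff_dvd' (Nat.one_le_pow _ _ hqp.pos)).mp h.symm
    by_cases h2 : ℓ = 2
    · subst h2
      exact hppd 1 (by norm_num) (by omega) (by simpa using h1)
    · have h3 : 2 < ℓ := lt_of_le_of_ne hℓ.two_le (Ne.symm h2)
      exact hppd (ℓ - 1) (by omega) (by omega) h1
  have hGdvd : q ^ n - 1 ∣ Nat.card G := card_dvd_of_trans ρ htrans
  have hfℓ : Fact ℓ.Prime := ⟨hℓ⟩
  obtain ⟨x, hxord⟩ := exists_prime_orderOf_dvd_card' ℓ (hℓdvd.trans hGdvd)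
  have hxℓ : x ^ ℓ = 1 := by rw [← hxord]; exact pow_orderOf_eq_one x
  have hx1 : x ≠ 1 := by
    rintro rfl
    rw [orderOf_one] at hxord
    exact hℓ.one_lt.ne hxord
  have hppdy : ∀ y : G, y ≠ 1 → y ^ ℓ = 1 → (∀ v : V, ρ y v = v → v = 0) ∧
      (∀ W : Submodule (ZMod q) V, (∀ v ∈ W, ρ y v ∈ W) → W = ⊥ ∨ W = ⊤) := by
    intro y hy1 hyℓ
    exact Cfsg.Agent.Lib.helper77.Hup.ppd_element (ρ y) ℓ hℓ (by rw [← map_pow, hyℓ, map_one])
      (fun h => hy1 (hρ (by rw [h, map_one]))) hℓq hppd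
  obtain ⟨hxfpf, hxirr⟩ := hppdy x hx1 hxℓ
  obtain ⟨F, iF, iFt, e, -, he2⟩ := Cfsg.Agent.Lib.helper62.SemiLin.exists_field (ρ x) hxirr
  have hCx : ∀ g h : G, x * g = g * x → x * h = h * x → g * h = h * g := by
    intro g h hg hh
    obtain ⟨y, hy⟩ := he2 (ρ g) (by rw [← map_mul, ← map_mul, hg])
    obtain ⟨y', hy'⟩ := he2 (ρ h) (by rw [← map_mul, ← map_mul, hh])
    apply hρ
    apply LinearEquiv.ext
    intro v
    apply e.injective
    rw [map_mul, map_mul]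
    show e (ρ g (ρ h v)) = e (ρ h (ρ g v))
    rw [hy, hy', hy', hy]
    ring
  obtain ⟨M, hMn, hMab, hMmax⟩ := exists_max_normal_abelian G
  have hfree := Cfsg.Agent.Lib.helper71.Hup.semiregular_of_normal_abelian ρ hρ htrans M hMn hMab
  have hMcyc : IsCyclic M :=
    Cfsg.Agent.Lib.helper39.Hup.isCyclic_of_semiregular_abelian ρ M hMab hfree
  have hℓM : ∀ z ∈ M, z ^ ℓ = 1 → z = 1 := by
    intro z hz hzℓ
    by_contra hz1
    obtain ⟨-, hzirr⟩ := hppdy z hz1 hzℓ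
    obtain ⟨W, hW0, hW1, hW⟩ := hI M hMn hMcyc
    rcases hzirr W (fun v hv => hW z hz v hv) with h | h
    · exact hW0 h
    · exact hW1 h
  have hMq : Nat.card M ∣ q ^ n - 1 := by
    have h := Cfsg.Agent.Lib.helper39.Hup.card_dvd_of_semiregular ρ M hfree ⊤
      (fun _ _ _ _ => Submodule.mem_top)
    rwa [finrank_top] at h
  have hxM : ∀ z ∈ M, x * z = z * x := by
    obtain ⟨B, hBM, hxB, hfixB, hBbot⟩ := Cfsg.Agent.Lib.helper29.Hup.exists_comm_subgroup M x ℓ hxℓ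
      hMab (fun m hm => hMn.conj_mem m hm x) hℓM
    apply hBbot
    by_contra hBne
    have hqB : ¬ q ∣ Nat.card B := by
      intro hq
      exact hqnot (hq.trans ((Subgroup.card_dvd_of_le hBM).trans hMq))
    have hV : ∀ v : V, (∀ b ∈ B, ρ b v = v) → v = 0 := by
      intro v hv
      by_contra hv0
      apply hBne
      rw [Subgroup.eq_bot_iff_forall]
      intro b hb
      exact hfree b (hBM hb) v hv0 (hv b hb)
    obtain ⟨v, hv0, hv⟩ := Cfsg.Agent.Lib.helper53.Hup.exists_fixed_of_frobenius ρ B x ℓ hℓ hxℓ hxB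
      hfixB hqB hV
    exact hv0 (hxfpf v hv)
  have hxnM : x ∉ M := fun hx => hx1 (hℓM x hx hxℓ)
  have hCn : (Subgroup.centralizer (M : Set G)).Normal := by
    haveI := hMn
    infer_instance
  have hMC : M < Subgroup.centralizer (M : Set G) := by
    refine lt_of_le_of_ne ?_ ?_
    · intro z hz
      rw [Subgroup.mem_centralizer_iff]
      intro m hm
      exact hMab m hm z hz
    · intro h
      apply hxnM
      rw [h, Subgroup.mem_centralizer_iff]
      intro m hm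
      exact (hxM m hm).symm
  have hC : ∀ g ∈ Subgroup.centralizer (M : Set G), ∀ z ∈ M, g * z = z * g := by
    intro g hg z hz
    exact ((Subgroup.mem_centralizer_iff.mp hg) z hz).symm
  obtain ⟨r, N, hr, hNn, hMN, hNC, hcomm, hexp, hZ⟩ :=
    Cfsg.Agent.Lib.helper74.Hup.exists_class_two hsol M _ hMn hCn hMab hMmax hMC hC
  have hcent : ∀ g ∈ N, ∀ z ∈ M, g * z = z * g := fun g hg z hz => hC g (hNC hg) z hz
  obtain ⟨m, hNcard⟩ :=
    Cfsg.Agent.Lib.helper83.Hup.card_eq_mul_sq r hr M N hMN.le hMcyc hcent hcomm hexp hZ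
  have hm : 1 ≤ m := by
    by_contra hcon
    have hm0 : m = 0 := by omega
    rw [hm0] at hNcard
    simp only [mul_zero, pow_zero, mul_one] at hNcard
    exact hMN.ne (Subgroup.eq_of_le_of_card_ge hMN.le hNcard.le)
  have h1 := Cfsg.Agent.Lib.helper57.Hup.prime_dvd_of_fpf M N hMN.le x ℓ hℓ hxℓ
    (fun g hg => hNn.conj_mem g hg x) hxM hcent hcomm hZ hℓM (fun g _ h _ hg hh => hCx g h hg hh)
  have h2 : ℓ ∣ r ^ (2 * m) - 1 := by
    rw [hNcard] at h1
    have e1 : Nat.card M * r ^ (2 * m) - Nat.card M = Nat.card M * (r ^ (2 * m) - 1) := by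
      rw [Nat.mul_sub, mul_one]
    rw [e1] at h1
    rcases (Nat.Prime.dvd_mul hℓ).mp h1 with h | h
    · exfalso
      obtain ⟨z, hz⟩ := exists_prime_orderOf_dvd_card' (G := M) ℓ h
      have hz1 : (z : G) ^ ℓ = 1 := by
        rw [← Subgroup.coe_pow, ← hz, pow_orderOf_eq_one]
        rfl
      have hz2 := hℓM z z.2 hz1
      have hz3 : z = 1 := Subtype.ext hz2
      rw [hz3, orderOf_one] at hz
      exact hℓ.one_lt.ne hz
    · exact h
  let R : G →* Module.End (ZMod q) V :=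
    (LinearEquiv.automorphismGroup.toLinearMapMonoidHom (R := ZMod q) (M := V)).comp ρ
  have hfreeR : ∀ a ∈ M, ∀ v : V, v ≠ 0 → R a v = v → a = 1 := hfree
  have h3 : r ^ (2 * m) ≤ n * n := index_le_sq R M N hMN.le hfreeR hcent hcomm hZ _ hNcard
  have hsq : r ^ (2 * m) = r ^ m * r ^ m := by rw [two_mul, pow_add]
  have h4 : r ^ m ≤ n := by
    rw [hsq] at h3
    exact Nat.mul_self_le_mul_self_iff.mp h3
  have hrm2 : 2 ≤ r ^ m :=
    calc 2 ≤ r := hr.two_le
      _ = r ^ 1 := (pow_one r).symm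
      _ ≤ r ^ m := Nat.pow_le_pow_right hr.pos hm
  have h5 : r ^ (2 * m) - 1 = (r ^ m - 1) * (r ^ m + 1) := by
    rw [hsq]
    obtain ⟨a, ha⟩ : ∃ a, r ^ m = a + 1 := ⟨r ^ m - 1, by omega⟩
    rw [ha]
    simp only [Nat.add_sub_cancel]
    ring_nf
    omega
  rw [h5] at h2
  have h6 : ℓ = r ^ m + 1 ∧ r ^ m = n := by
    rcases (Nat.Prime.dvd_mul hℓ).mp h2 with h | h
    · exfalso
      have := Nat.le_of_dvd (by omega) h
      omega
    · have := Nat.le_of_dvd (by omega) h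
      constructor <;> omega
  obtain ⟨h7, h8⟩ := h6
  have hr2 : r = 2 := by
    have hℓodd : Odd ℓ := hℓ.odd_of_ne_two (by omega)
    have h9 : Even (r ^ m) := by
      rw [h7] at hℓodd
      by_contra hne
      rw [Nat.not_even_iff_odd] at hne
      have := hne.add_odd odd_one
      exact (Nat.not_even_iff_odd.mpr hℓodd) this
    have hreven : Even r := (Nat.even_pow.mp h9).1
    exact (Nat.Prime.even_iff hr).mp hreven
  subst hr2
  exact Cfsg.Agent.Lib.helper71.Hup.final_step ρ hρ htrans M N hMn hNn hMN.le hMmax hfree hcent hcomm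
    hexp hZ m hm (by rw [← h7]; exact hℓ) (by rw [← hn]; exact h8.symm) hNcard

end Cfsg.Agent.Lib.helper62.Hup
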