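import Mathlib
import Cfsg.Prelude.Def_Transfer
import Cfsg.Agent.S2904
import Cfsg.Agent.Lib.helper62.SemiLinB
import Cfsg.Agent.Lib.helper62.HupConfig
import Cfsg.Agent.Lib.helper29.HupTwoSixCore
import Cfsg.Agent.Lib.helper25.HupArith
import Cfsg.Agent.Lib.helper62.HupDimTwoCfg
import Cfsg.Agent.Lib.helper62.HupFinalStruct
import Cfsg.Agent.Lib.helper62.HupAbQuot

set_option autoImplicit false

/-!
# The structure behind Huppert's theorem, and transitive linear groups with `p`-group stabilisers

`exceptional_structure`: a solvable linear group transitive on non-zero vectors with no irreducible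
cyclic normal subgroup has a normal subgroup `N` with `|N| = |M| * 2 ^ (2m)`, `dim V = 2 ^ m`,
`|M|` dividing `q - 1`, and `|G : N|` dividing `|GL(2m, 2)|`.

`normal_p_complement_of_transitive`: if moreover (for `q = p`) a point stabiliser is a `p`-group,
then the group has a normal `p`-complement and abelian Sylow `p`-subgroups.
-/

namespace Cfsg.Agent.Lib.helper62.Hup

theorem exceptional_structure {q : ℕ} [Fact q.Prime] {V : Type*} [AddCommGroup V] [Module (ZMod q) V]
    [Finite V] [Nontrivial V]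
    {G : Type*} [Group G] [Finite G] (hsol : Group.IsSolvable G) (ρ : G →* (V ≃ₗ[ZMod q] V))
    (hρ : Function.Injective ρ)
    (htrans : ∀ v w : V, v ≠ 0 → w ≠ 0 → ∃ g : G, ρ g v = w)
    (hI : ∀ A : Subgroup G, A.Normal → IsCyclic A → ∃ W : Submodule (ZMod q) V,
      W ≠ ⊥ ∧ W ≠ ⊤ ∧ ∀ a ∈ A, ∀ v ∈ W, ρ a v ∈ W) :
    ∃ (m : ℕ) (M N : Subgroup G), N.Normal ∧ M ≤ N ∧ 1 ≤ m ∧
      Module.finrank (ZMod q) V = 2 ^ m ∧ Nat.card N = Nat.card M * 2 ^ (2 * m) ∧
      Nat.card M ∣ q - 1 ∧ 2 ≤ Nat.card M ∧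
      N.index ∣ Nat.card (GL (Fin (2 * m)) (ZMod 2)) ∧ q ≠ 2 ∧
      Nat.card V ∈ ({9, 25, 49, 121, 529, 81} : Set ℕ) := by
  classical
  have hfin : Module.Finite (ZMod q) V := Module.Finite.of_finite
  have hn0 : 0 < Module.finrank (ZMod q) V := Module.finrank_pos
  have hcfg : ∃ (m : ℕ) (M N : Subgroup G), M.Normal ∧ N.Normal ∧ M ≤ N ∧
      (∀ A : Subgroup G, A.Normal → (∀ a ∈ A, ∀ b ∈ A, a * b = b * a) → M ≤ A → A = M) ∧
      (∀ a ∈ M, ∀ v : V, v ≠ 0 → ρ a v = v → a = 1) ∧
      (∀ g ∈ N, ∀ z ∈ M, g * z = z * g) ∧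
      (∀ g ∈ N, ∀ h ∈ N, g * h * g⁻¹ * h⁻¹ ∈ M) ∧
      (∀ g ∈ N, g ^ 2 ∈ M) ∧
      (∀ g ∈ N, (∀ h ∈ N, g * h = h * g) → g ∈ M) ∧
      1 ≤ m ∧ (2 ^ m + 1).Prime ∧ Module.finrank (ZMod q) V = 2 ^ m ∧
      Nat.card N = Nat.card M * 2 ^ (2 * m) := by
    rcases Nat.lt_or_ge (Module.finrank (ZMod q) V) 2 with h1 | h2
    · exfalso
      obtain ⟨W, hW0, hW1, -⟩ := hI ⊥ inferInstance inferInstance
      rcases Nat.eq_zero_or_pos (Module.finrank (ZMod q) W) with h0 | hpos
      · exact hW0 (Submodule.finrank_eq_zero.mp h0)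
      · have hle : Module.finrank (ZMod q) W ≤ Module.finrank (ZMod q) V := Submodule.finrank_le W
        exact hW1 (Submodule.eq_top_of_finrank_eq (by omega))
    · by_cases hn2 : Module.finrank (ZMod q) V = 2
      · exact config_two hsol ρ hρ htrans hn2 hI
      · by_cases h26 : q = 2 ∧ Module.finrank (ZMod q) V = 6
        · exact (Cfsg.Agent.Lib.helper29.Hup.no_two_six_of hsol ρ hρ htrans h26.1 h26.2 hI
            (fun A hAab hfree =>
              Cfsg.Agent.Lib.helper39.Hup.isCyclic_of_semiregular_abelian ρ A hAab hfree)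
            (fun A hfree W hW =>
              Cfsg.Agent.Lib.helper39.Hup.card_dvd_of_semiregular ρ A hfree W hW)
            (fun r hr M N hMN hMcyc hcent hcomm hexp hZ =>
              Cfsg.Agent.Lib.helper83.Hup.card_eq_mul_sq r hr M N hMN hMcyc hcent hcomm hexp hZ)).elim
        · obtain ⟨ℓ, hℓ, hℓdvd, hppd⟩ := Cfsg.Agent.S2904.result q (Module.finrank (ZMod q) V)
            (Fact.out : q.Prime).one_lt (by omega) h26 (by rintro ⟨h, -⟩; exact hn2 h)
          exact config_generic hsol ρ hρ htrans hI ℓ hℓ h2 hℓdvd hppd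
  obtain ⟨m, M, N, hMn, hNn, hMN, hMmax, hfree, hcent, hcomm, hexp, hZ, hm, hprime, hn, hcard⟩ := hcfg
  obtain ⟨h1, h2, h3, h4, h5⟩ := final_structure ρ hρ htrans M N hMn hNn
    hMN hMmax hfree hcent hcomm hexp hZ m hm hprime hn hcard
  exact ⟨m, M, N, hNn, hMN, hm, hn, hcard, h1, h2, h3, h4, h5⟩

/-- If `p ^ k = a ^ b` with `p`, `a` prime and `k ≠ 0` then `p = a` and `k = b`. -/
theorem prime_pow_eq {p k a b : ℕ} (hp : p.Prime) (ha : a.Prime) (hk : k ≠ 0)
    (h : p ^ k = a ^ b) : p = a ∧ k = b := by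
  have h1 : p ∣ a ^ b := by
    rw [← h]
    exact dvd_pow_self p hk
  have h2 : p = a := (Nat.prime_dvd_prime_iff_eq hp ha).mp (hp.dvd_of_dvd_pow h1)
  subst h2
  exact ⟨rfl, Nat.pow_right_injective hp.two_le h⟩

theorem normal_p_complement_of_transitive {p : ℕ} [Fact p.Prime] {V : Type*} [AddCommGroup V]
    [Module (ZMod p) V] [Finite V] [Nontrivial V]
    {G : Type*} [Group G] [Finite G] (hsol : Group.IsSolvable G) (ρ : G →* (V ≃ₗ[ZMod p] V))
    (hρ : Function.Injective ρ)
    (htrans : ∀ v w : V, v ≠ 0 → w ≠ 0 → ∃ g : G, ρ g v = w)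
    (v₀ : V) (hv₀ : v₀ ≠ 0) (hstab : ∀ g : G, ρ g v₀ = v₀ → ∃ k : ℕ, g ^ p ^ k = 1) :
    Cfsg.HasNormalPComplement p G ∧ ∀ Q : Sylow p G, IsMulCommutative (Q : Subgroup G) := by
  classical
  have hpp : p.Prime := Fact.out
  have hfin : Module.Finite (ZMod p) V := Module.Finite.of_finite
  have hn0 : 0 < Module.finrank (ZMod p) V := Module.finrank_pos
  have hpn1 : 1 ≤ p ^ Module.finrank (ZMod p) V := Nat.one_le_pow _ _ hpp.pos
  have hpnot : ¬ p ∣ p ^ Module.finrank (ZMod p) V - 1 := by
    intro h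
    have h1 : p ∣ p ^ Module.finrank (ZMod p) V := dvd_pow_self _ (by omega)
    have h3 : p ∣ 1 := by
      have := Nat.dvd_sub h1 h
      rwa [Nat.sub_sub_self hpn1] at this
    exact hpp.one_lt.ne' (Nat.dvd_one.mp h3)
  by_cases hI : ∀ A : Subgroup G, A.Normal → IsCyclic A → ∃ W : Submodule (ZMod p) V,
      W ≠ ⊥ ∧ W ≠ ⊤ ∧ ∀ a ∈ A, ∀ v ∈ W, ρ a v ∈ W
  · -- the exceptional case
    obtain ⟨m, M, N, hNn, hMN, hm, hnm, hNcard, hMdvd, hM2, hidx, hp2, hV⟩ :=
      exceptional_structure hsol ρ hρ htrans hI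
    -- order of `G`
    let S : Subgroup G :=
      { carrier := {g | ρ g v₀ = v₀}
        one_mem' := by simp
        mul_mem' := by
          intro a b ha hb
          simp only [Set.mem_ofPred_eq] at ha hb ⊢
          rw [map_mul]
          show ρ a (ρ b v₀) = v₀
          rw [hb, ha]
        inv_mem' := by
          intro a ha
          simp only [Set.mem_ofPred_eq] at ha ⊢
          rw [map_inv]
          show (ρ a).symm v₀ = v₀
          rw [LinearEquiv.symm_apply_eq, ha] }
    have hmemS : ∀ g : G, g ∈ S ↔ ρ g v₀ = v₀ := fun g => Iff.rfl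
    have hSp : IsPGroup p S := by
      intro g
      obtain ⟨k, hk⟩ := hstab g ((hmemS g).mp g.2)
      exact ⟨k, Subtype.ext hk⟩
    obtain ⟨a, ha⟩ := IsPGroup.iff_card.mp hSp
    have hGcard : Nat.card G = (p ^ Module.finrank (ZMod p) V - 1) * p ^ a := by
      let φ : G → {v : V // v ≠ 0} := fun g => ⟨ρ g v₀, (LinearEquiv.map_ne_zero_iff _).mpr hv₀⟩
      have hφ : ∀ x y : G, φ x = φ y ↔ x⁻¹ * y ∈ S := by
        intro x y
        rw [hmemS, map_mul, map_inv]
        show _ ↔ (ρ x).symm (ρ y v₀) = v₀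
        rw [LinearEquiv.symm_apply_eq]
        constructor
        · intro h
          exact (congrArg Subtype.val h).symm
        · intro h
          exact Subtype.ext h.symm
      let ψ : G ⧸ S → {v : V // v ≠ 0} := Quotient.lift φ (by
        intro x y hxy
        exact (hφ x y).mpr (QuotientGroup.leftRel_apply.mp hxy))
      have hψ : Function.Bijective ψ := by
        constructor
        · intro x y
          induction x using QuotientGroup.induction_on with
          | H x =>
            induction y using QuotientGroup.induction_on with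
            | H y =>
              intro h
              exact QuotientGroup.eq.mpr ((hφ x y).mp h)
        · rintro ⟨w, hw⟩
          obtain ⟨g, hg⟩ := htrans v₀ w hv₀ hw
          exact ⟨QuotientGroup.mk g, Subtype.ext hg⟩
      have h1 : Nat.card (G ⧸ S) = p ^ Module.finrank (ZMod p) V - 1 := by
        rw [Nat.card_congr (Equiv.ofBijective ψ hψ), card_nonzero (q := p)]
      rw [Subgroup.card_eq_card_quotient_mul_card_subgroup S, h1, ha]
    have hGN : Nat.card G = Nat.card M * 2 ^ (2 * m) * N.index := by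
      rw [← hNcard, Subgroup.card_mul_index]
    have hVcard : Nat.card V = p ^ 2 ^ m := by
      rw [Module.natCard_eq_pow_finrank (K := ZMod p) (V := V), Nat.card_zmod, hnm]
    have h2m : (2 : ℕ) ^ m ≠ 0 := by positivity
    have hcase : (m = 1 ∧ 5 ≤ p) ∨ (m = 1 ∧ p = 3) ∨ (m = 2 ∧ p = 3) := by
      rw [hVcard] at hV
      have h2pow : ∀ k : ℕ, 2 ^ m = 2 ^ k → m = k := fun k h =>
        Nat.pow_right_injective (le_refl 2) h
      rcases hV with h | h | h | h | h | h
      · obtain ⟨e1, e2⟩ := prime_pow_eq hpp Nat.prime_three h2m (b := 2) (by rw [h]; norm_num)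
        exact Or.inr (Or.inl ⟨h2pow 1 (by rw [e2]; norm_num), e1⟩)
      · obtain ⟨e1, e2⟩ := prime_pow_eq hpp Nat.prime_five h2m (b := 2) (by rw [h]; norm_num)
        exact Or.inl ⟨h2pow 1 (by rw [e2]; norm_num), by omega⟩
      · obtain ⟨e1, e2⟩ := prime_pow_eq hpp (by norm_num : Nat.Prime 7) h2m (b := 2) (by rw [h]; norm_num)
        exact Or.inl ⟨h2pow 1 (by rw [e2]; norm_num), by omega⟩
      · obtain ⟨e1, e2⟩ := prime_pow_eq hpp (by norm_num : Nat.Prime 11) h2m (b := 2) (by rw [h]; norm_num)
        exact Or.inl ⟨h2pow 1 (by rw [e2]; norm_num), by omega⟩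
      · obtain ⟨e1, e2⟩ := prime_pow_eq hpp (by norm_num : Nat.Prime 23) h2m (b := 2) (by rw [h]; norm_num)
        exact Or.inl ⟨h2pow 1 (by rw [e2]; norm_num), by omega⟩
      · obtain ⟨e1, e2⟩ := prime_pow_eq hpp Nat.prime_three h2m (b := 4) (by rw [h]; norm_num)
        exact Or.inr (Or.inr ⟨h2pow 2 (by rw [e2]; norm_num), e1⟩)
    have hGL2 : Nat.card (GL (Fin 2) (ZMod 2)) = 6 := by
      rw [Cfsg.Agent.Lib.helper25.Hup.card_GL_two]
      decide
    rcases hcase with ⟨rfl, hp5⟩ | ⟨rfl, hp3⟩ | ⟨rfl, hp3⟩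
    · -- `G` is a `p'`-group
      have hidx6 : N.index ∣ 6 := by
        have := hidx
        rwa [hGL2] at this
      have hpG : ¬ p ∣ Nat.card G := by
        intro h
        rw [hGN] at h
        rcases (Nat.Prime.dvd_mul hpp).mp h with h | h
        · rcases (Nat.Prime.dvd_mul hpp).mp h with h | h
          · have := Nat.le_of_dvd (by omega) (h.trans hMdvd)
            omega
          · have h4 : p ∣ 4 := by simpa using h
            have := Nat.le_of_dvd (by norm_num) h4
            omega
        · have key : ∀ x : ℕ, x.Prime → 5 ≤ x → x ∣ 6 → False := by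
            intro x hx h5 h6
            have := Nat.le_of_dvd (by norm_num) h6
            interval_cases x
            · omega
            · exact absurd hx (by norm_num)
          exact key p hpp hp5 (h.trans hidx6)
      refine normal_p_complement_of_abelian_quotient p ⊤ inferInstance
        ?_ (fun _ _ => Subgroup.mem_top _)
      rwa [Subgroup.card_top]
    · -- `|V| = 9`
      have hM : Nat.card M = 2 := by
        have h1 : Nat.card M ∣ 2 := by
          have := hMdvd
          rwa [hp3] at this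
        have := Nat.le_of_dvd (by norm_num) h1
        omega
      have hN8 : Nat.card N = 8 := by rw [hNcard, hM]; norm_num
      have hidx6 : N.index ∣ 6 := by
        have := hidx
        rwa [hGL2] at this
      have hidx3 : N.index = 3 ^ a := by
        have h1 : Nat.card G = 8 * N.index := by rw [hGN, hM]; norm_num
        rw [hGcard, hnm, hp3] at h1
        norm_num at h1
        omega
      have ha1 : a ≤ 1 := by
        by_contra hcon
        have h9 : 9 ∣ N.index := by
          rw [hidx3]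
          exact pow_dvd_pow 3 (show 2 ≤ a by omega)
        have := h9.trans hidx6
        omega
      have hquot : ∀ g h : G, g * h * g⁻¹ * h⁻¹ ∈ N := by
        have hcardq : Nat.card (G ⧸ N) = 3 ^ a := hidx3
        have hcyc : IsCyclic (G ⧸ N) := by
          interval_cases a
          · have : Subsingleton (G ⧸ N) := (Nat.card_eq_one_iff_unique.mp (by simpa using hcardq)).1
            exact isCyclic_of_subsingleton
          · have hf3 : Fact (Nat.Prime 3) := ⟨Nat.prime_three⟩
            exact isCyclic_of_prime_card (p := 3) (by simpa using hcardq)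
        have hc : ∀ x y : G ⧸ N, x * y = y * x := by
          obtain ⟨c, hcgen⟩ := hcyc.exists_generator
          intro x y
          obtain ⟨i, rfl⟩ := hcgen x
          obtain ⟨j, rfl⟩ := hcgen y
          show c ^ i * c ^ j = c ^ j * c ^ i
          rw [← zpow_add, ← zpow_add, add_comm]
        intro g h
        have h1 : (QuotientGroup.mk (g * h * g⁻¹ * h⁻¹) : G ⧸ N) = 1 := by
          rw [QuotientGroup.mk_mul, QuotientGroup.mk_mul, QuotientGroup.mk_mul,
            QuotientGroup.mk_inv, QuotientGroup.mk_inv, hc (g : G ⧸ N) (h : G ⧸ N)]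
          group
        exact (QuotientGroup.eq_one_iff _).mp h1
      refine normal_p_complement_of_abelian_quotient p N hNn ?_ hquot
      rw [hN8, hp3]
      norm_num
    · -- `|V| = 81` is impossible
      exfalso
      have hM : Nat.card M = 2 := by
        have h1 : Nat.card M ∣ 2 := by
          have := hMdvd
          rwa [hp3] at this
        have := Nat.le_of_dvd (by norm_num) h1
        omega
      have hN32 : Nat.card N = 32 := by rw [hNcard, hM]; norm_num
      have h1 : 32 ∣ Nat.card G := by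
        rw [← hN32]
        exact Subgroup.card_subgroup_dvd_card N
      rw [hGcard, hnm, hp3] at h1
      have h2 : Nat.Coprime 32 (3 ^ a) := by
        apply Nat.Coprime.pow_right
        norm_num
      have h3 : 32 ∣ 3 ^ 2 ^ 2 - 1 := h2.dvd_of_dvd_mul_right h1
      norm_num at h3
  · -- the semilinear case
    have hex : ∃ A : Subgroup G, A.Normal ∧ IsCyclic A ∧ ¬ ∃ W : Submodule (ZMod p) V,
        W ≠ ⊥ ∧ W ≠ ⊤ ∧ ∀ a ∈ A, ∀ v ∈ W, ρ a v ∈ W := by
      by_contra hcon
      apply hI
      intro A hAn hAc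
      by_contra hW
      exact hcon ⟨A, hAn, hAc, hW⟩
    obtain ⟨A, hAn, hAc, hA⟩ := hex
    obtain ⟨g, hg⟩ := hAc.exists_generator
    have hpow : ∀ x : G, x ∈ A → ∃ k : ℕ, x = (g : G) ^ k := by
      intro x hx
      have h1 : (⟨x, hx⟩ : A) ∈ Subgroup.zpowers g := hg _
      rw [← mem_powers_iff_mem_zpowers] at h1
      obtain ⟨k, hk⟩ := h1
      refine ⟨k, ?_⟩
      have h2 := congrArg (Subtype.val) hk
      simpa using h2.symm
    have hirr : ∀ W : Submodule (ZMod p) V, (∀ v ∈ W, ρ (g : G) v ∈ W) → W = ⊥ ∨ W = ⊤ := by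
      intro W hW
      by_contra hcon
      push Not at hcon
      apply hA
      refine ⟨W, hcon.1, hcon.2, ?_⟩
      intro a ha v hv
      obtain ⟨k, rfl⟩ := hpow a ha
      induction k generalizing v with
      | zero => simpa using hv
      | succ n ih =>
        have h1 : ρ ((g : G) ^ (n + 1)) v = ρ (g : G) (ρ ((g : G) ^ n) v) := by
          rw [pow_succ', map_mul]
          rfl
        rw [h1]
        exact hW _ (ih v hv (A.pow_mem g.2 n))
    obtain ⟨F, iF, iFt, e, -, he2⟩ :=
      Cfsg.Agent.Lib.helper62.SemiLin.exists_field (ρ (g : G)) hirr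
    have hCn : (Subgroup.centralizer (A : Set G)).Normal := by
      have := hAn
      infer_instance
    have hCg : ∀ h ∈ Subgroup.centralizer (A : Set G), (g : G) * h = h * (g : G) := by
      intro h hh
      exact (Subgroup.mem_centralizer_iff.mp hh) (g : G) g.2
    have hfreeC : ∀ h ∈ Subgroup.centralizer (A : Set G), ∀ v : V, v ≠ 0 → ρ h v = v → h = 1 := by
      intro h hh v hv hfix
      obtain ⟨y, hy⟩ := he2 (ρ h) (by rw [← map_mul, ← map_mul, hCg h hh])
      have h1 : y * e v = e v := by rw [← hy, hfix]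
      have hev : e v ≠ 0 := by
        intro h0
        apply hv
        exact e.injective (h0.trans (map_zero e).symm)
      have hy1 : y = 1 := by
        have h2 : y * e v = 1 * e v := by rw [h1, one_mul]
        exact mul_right_cancel₀ hev h2
      apply hρ
      apply LinearEquiv.ext
      intro w
      apply e.injective
      rw [hy, hy1, one_mul, map_one]
      rfl
    have hCp : ¬ p ∣ Nat.card (Subgroup.centralizer (A : Set G)) := by
      intro h
      have h1 := Cfsg.Agent.Lib.helper39.Hup.card_dvd_of_semiregular ρ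
        (Subgroup.centralizer (A : Set G)) hfreeC ⊤ (fun _ _ _ _ => Submodule.mem_top)
      rw [finrank_top] at h1
      exact hpnot (h.trans h1)
    have hnorm : ∀ h : G, ∃ j : ℕ, h * (g : G) * h⁻¹ = (g : G) ^ j := fun h =>
      hpow _ (hAn.conj_mem _ g.2 h)
    have hab : ∀ h₁ h₂ : G, h₁ * h₂ * h₁⁻¹ * h₂⁻¹ ∈ Subgroup.centralizer (A : Set G) := by
      intro h₁ h₂
      obtain ⟨i, hi⟩ := hnorm h₁
      obtain ⟨j, hj⟩ := hnorm h₂
      obtain ⟨k, hk⟩ := hnorm (h₂ * h₁)⁻¹
      rw [inv_inv] at hk
      have hc := Cfsg.Agent.Lib.helper62.SemiLin.commutatorElement_commute_of_conj_pow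
        (g : G) h₁ h₂ i j k hi hj hk
      rw [commutatorElement_def] at hc
      rw [Subgroup.mem_centralizer_iff]
      intro x hx
      obtain ⟨t, rfl⟩ := hpow x hx
      induction t with
      | zero => simp
      | succ t ih =>
        have iht := ih (A.pow_mem g.2 t)
        rw [pow_succ, mul_assoc, ← hc, ← mul_assoc, iht, mul_assoc]
    exact normal_p_complement_of_abelian_quotient p _ hCn hCp hab

end Cfsg.Agent.Lib.helper62.Hup
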