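import Mathlib
import Cfsg.Prelude.Def_Transfer
import Cfsg.Agent.Lib.helper62.ElemAbGL
import Cfsg.Agent.Lib.helper62.HupPComp

set_option autoImplicit false

/-!
# Transitive linear groups with `p`-group stabilisers: quotient forms

`normal_p_complement_of_transitive_ker`: the non-faithful form of
`normal_p_complement_of_transitive`, for the quotient by the kernel.

`normal_p_complement_quotient_centralizer`: a solvable group acting by conjugation transitively on
the non-identity elements of an elementary abelian normal `p`-subgroup `N`, with the centralizer of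
one of them a `p`-group: `G ⧸ C_G(N)` has a normal `p`-complement and abelian Sylow `p`-subgroups.
-/

namespace Cfsg.Agent.Lib.helper62.Hup

theorem normal_p_complement_of_transitive_ker {p : ℕ} [Fact p.Prime] {V : Type*} [AddCommGroup V]
    [Module (ZMod p) V] [Finite V] [Nontrivial V]
    {G : Type*} [Group G] [Finite G] (hsol : Group.IsSolvable G) (ρ : G →* (V ≃ₗ[ZMod p] V))
    (htrans : ∀ v w : V, v ≠ 0 → w ≠ 0 → ∃ g : G, ρ g v = w)
    (v₀ : V) (hv₀ : v₀ ≠ 0) (hstab : ∀ g : G, ρ g v₀ = v₀ → ∃ k : ℕ, g ^ p ^ k = 1)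
    (K : Subgroup G) [K.Normal] (hK : K = ρ.ker) :
    Cfsg.HasNormalPComplement p (G ⧸ K) ∧
      ∀ Q : Sylow p (G ⧸ K), IsMulCommutative (Q : Subgroup (G ⧸ K)) := by
  subst hK
  have hsolq : Group.IsSolvable (G ⧸ ρ.ker) :=
    Group.isSolvable_of_surjective (QuotientGroup.mk'_surjective ρ.ker)
  refine normal_p_complement_of_transitive hsolq (QuotientGroup.kerLift ρ)
    (QuotientGroup.kerLift_injective ρ) ?_ v₀ hv₀ ?_
  · intro v w hv hw
    obtain ⟨g, hg⟩ := htrans v w hv hw
    exact ⟨QuotientGroup.mk g, hg⟩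
  · intro q hq
    induction q using QuotientGroup.induction_on with
    | H g =>
      obtain ⟨k, hk⟩ := hstab g hq
      refine ⟨k, ?_⟩
      rw [← QuotientGroup.mk_pow, hk, QuotientGroup.mk_one]

open scoped IsMulCommutative in
theorem normal_p_complement_quotient_centralizer_aux {G : Type*} [Group G] [Finite G]
    (hsol : Group.IsSolvable G) (p : ℕ) [Fact p.Prime] (N : Subgroup G) [hNn : N.Normal]
    [IsMulCommutative N] [Module (ZMod p) (Additive N)] (hN : N ≠ ⊥)
    (htrans : ∀ x ∈ N, ∀ y ∈ N, x ≠ 1 → y ≠ 1 → ∃ g : G, g * x * g⁻¹ = y)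
    (x₀ : G) (hx₀ : x₀ ∈ N) (hx₀1 : x₀ ≠ 1)
    (hstab : ∀ g : G, g * x₀ * g⁻¹ = x₀ → ∃ k : ℕ, g ^ p ^ k = 1)
    (K : Subgroup G) [K.Normal] (hK : K = Subgroup.centralizer (N : Set G)) :
    Cfsg.HasNormalPComplement p (G ⧸ K) ∧
      ∀ Q : Sylow p (G ⧸ K), IsMulCommutative (Q : Subgroup (G ⧸ K)) := by
  classical
  have hfinV : Finite (Additive N) := inferInstanceAs (Finite N)
  have hntV : Nontrivial (Additive N) := by
    have : Nontrivial N := (Subgroup.nontrivial_iff_ne_bot N).mpr hN
    exact inferInstanceAs (Nontrivial N)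
  let E : G →* Module.End (ZMod p) (Additive N) := (autToEnd p N).comp MulAut.conjNormal
  let ρ₀ : G →* (Additive N ≃ₗ[ZMod p] Additive N) :=
    (LinearMap.GeneralLinearGroup.generalLinearEquiv (ZMod p) (Additive N)).toMonoidHom.comp
      E.toHomUnits
  have hρ₀ : ∀ (g : G) (n : N), ((ρ₀ g (Additive.ofMul n)).toMul : G) = g * n * g⁻¹ :=
    fun g n => rfl
  have hker : ρ₀.ker = Subgroup.centralizer (N : Set G) := by
    ext g
    rw [MonoidHom.mem_ker, Subgroup.mem_centralizer_iff]
    constructor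
    · intro h n hn
      have h1 := hρ₀ g ⟨n, hn⟩
      rw [h] at h1
      have h2 : n = g * n * g⁻¹ := h1
      calc n * g = g * n * g⁻¹ * g := by rw [← h2]
        _ = g * n := by group
    · intro h
      apply LinearEquiv.ext
      intro v
      obtain ⟨n, rfl⟩ := Additive.ofMul.surjective v
      apply Additive.toMul.injective
      apply Subtype.ext
      rw [hρ₀]
      have h1 := h n n.2
      show g * n * g⁻¹ = n
      rw [← h1]
      group
  refine normal_p_complement_of_transitive_ker hsol ρ₀ ?_ (Additive.ofMul ⟨x₀, hx₀⟩) ?_ ?_ K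
    (hK.trans hker.symm)
  · intro v w hv hw
    obtain ⟨x, rfl⟩ := Additive.ofMul.surjective v
    obtain ⟨y, rfl⟩ := Additive.ofMul.surjective w
    have hx1 : (x : G) ≠ 1 := by
      intro h
      apply hv
      have : x = 1 := Subtype.ext h
      rw [this]
      rfl
    have hy1 : (y : G) ≠ 1 := by
      intro h
      apply hw
      have : y = 1 := Subtype.ext h
      rw [this]
      rfl
    obtain ⟨g, hg⟩ := htrans x x.2 y y.2 hx1 hy1
    refine ⟨g, ?_⟩
    apply Additive.toMul.injective
    apply Subtype.ext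
    rw [hρ₀]
    exact hg
  · intro h
    apply hx₀1
    have h1 : (⟨x₀, hx₀⟩ : N) = 1 := Additive.ofMul.injective h
    exact congrArg Subtype.val h1
  · intro g hg
    apply hstab g
    have h1 := hρ₀ g ⟨x₀, hx₀⟩
    rw [hg] at h1
    exact h1.symm

open scoped IsMulCommutative in
/-- A solvable group acting by conjugation transitively on the non-identity elements of an
elementary abelian normal `p`-subgroup `N`, with a `p`-group as the centralizer of one of them:
`G ⧸ C_G(N)` has a normal `p`-complement and abelian Sylow `p`-subgroups. -/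
theorem normal_p_complement_quotient_centralizer {G : Type*} [Group G] [Finite G]
    (hsol : Group.IsSolvable G) (p : ℕ) [Fact p.Prime] (N : Subgroup G) [hNn : N.Normal]
    [hNc : IsMulCommutative N] (hexp : ∀ x ∈ N, x ^ p = 1) (hN : N ≠ ⊥)
    (htrans : ∀ x ∈ N, ∀ y ∈ N, x ≠ 1 → y ≠ 1 → ∃ g : G, g * x * g⁻¹ = y)
    (x₀ : G) (hx₀ : x₀ ∈ N) (hx₀1 : x₀ ≠ 1)
    (hstab : ∀ g : G, g * x₀ * g⁻¹ = x₀ → ∃ k : ℕ, g ^ p ^ k = 1)
    (K : Subgroup G) [K.Normal] (hK : K = Subgroup.centralizer (N : Set G)) :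
    Cfsg.HasNormalPComplement p (G ⧸ K) ∧
      ∀ Q : Sylow p (G ⧸ K), IsMulCommutative (Q : Subgroup (G ⧸ K)) :=
  @normal_p_complement_quotient_centralizer_aux G _ _ hsol p _ N hNn hNc
    (AddCommGroup.zmodModule (n := p)
      (fun x => congrArg Additive.ofMul (Subtype.ext (hexp x.toMul x.toMul.2))))
    hN htrans x₀ hx₀ hx₀1 hstab K _ hK

end Cfsg.Agent.Lib.helper62.Hup
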