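import Mathlib

/-!
Metacyclic presentations (helper62).

* `conj_pow_iter` : `x⁻¹ y x = y^r` implies `x⁻ᵗ y xᵗ = y^(r^t)`.
* `pow_div_rad_mod` : if `r^n ≡ 1` and `r^(n/q) ≡ 1 (mod m)` for every prime `q ∣ n` then
  `r^(n / rad n) ≡ 1 (mod m)`.
* `nonempty_equiv_presented` : a finite group generated by `x, y` of coprime orders `n, m` with
  `x⁻¹ y x = y^r` has the presentation `⟨X, Y | X^n, Y^m, X⁻¹ Y X Y^(-r)⟩`.
-/

set_option autoImplicit false

namespace Cfsg.Agent.Lib.helper62.MetaPres

theorem conj_pow_iter {K : Type*} [Group K] (x y : K) (r : ℕ) (h : x⁻¹ * y * x = y ^ r) :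
    ∀ t : ℕ, (x ^ t)⁻¹ * y * x ^ t = y ^ (r ^ t) := by
  have hk : ∀ k : ℕ, x⁻¹ * y ^ k * x = (y ^ r) ^ k := by
    intro k
    rw [← h]
    induction k with
    | zero => simp
    | succ k ih =>
      rw [pow_succ, pow_succ, ← ih]
      group
  intro t
  induction t with
  | zero => simp
  | succ t ih =>
    have h1 : (x ^ (t + 1))⁻¹ * y * x ^ (t + 1) = x⁻¹ * ((x ^ t)⁻¹ * y * x ^ t) * x := by
      rw [pow_succ]
      group
    rw [h1, ih, hk, ← pow_mul, pow_succ, mul_comm]

theorem pow_div_rad_mod (n m r : ℕ) (h0 : r ^ n % m = 1 % m)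
    (h : ∀ q ∈ n.primeFactors, r ^ (n / q) % m = 1 % m) :
    r ^ (n / ∏ p ∈ n.primeFactors, p) % m = 1 % m := by
  classical
  have hcast : ∀ e : ℕ, r ^ e % m = 1 % m ↔ ((r : ZMod m)) ^ e = 1 := by
    intro e
    rw [← ZMod.natCast_eq_natCast_iff']
    push_cast
    rfl
  set ρ : ZMod m := (r : ZMod m) with hρ
  have ho : orderOf ρ ∣ n := orderOf_dvd_of_pow_eq_one ((hcast n).mp h0)
  have key : ∀ s : Finset ℕ, s ⊆ n.primeFactors → orderOf ρ * ∏ q ∈ s, q ∣ n := by
    intro s
    induction s using Finset.induction_on with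
    | empty => intro _; simpa using ho
    | insert q s hq ih =>
      intro hs
      have hqn : q ∈ n.primeFactors := hs (Finset.mem_insert_self q s)
      have hs' : s ⊆ n.primeFactors := fun a ha => hs (Finset.mem_insert_of_mem ha)
      have h1 := ih hs'
      have hqp : q.Prime := Nat.prime_of_mem_primeFactors hqn
      have hqd : q ∣ n := Nat.dvd_of_mem_primeFactors hqn
      have h2 : orderOf ρ * q ∣ n := by
        have h3 : orderOf ρ ∣ n / q := orderOf_dvd_of_pow_eq_one ((hcast (n / q)).mp (h q hqn))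
        obtain ⟨c, hc⟩ := h3
        have : n = q * (n / q) := (Nat.mul_div_cancel' hqd).symm
        rw [this, hc]
        exact ⟨c, by ring⟩
      have hcop : Nat.Coprime (∏ q ∈ s, q) q := by
        apply Nat.Coprime.prod_left
        intro i hi
        have hip : i.Prime := Nat.prime_of_mem_primeFactors (hs' hi)
        rw [Nat.coprime_primes hip hqp]
        rintro rfl
        exact hq hi
      have h4 : (orderOf ρ * ∏ q ∈ s, q).lcm (orderOf ρ * q) ∣ n := Nat.lcm_dvd h1 h2
      rw [Nat.lcm_mul_left, hcop.lcm_eq_mul] at h4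
      rw [Finset.prod_insert hq]
      convert h4 using 1
      ring
  have h5 := key n.primeFactors (Finset.Subset.refl _)
  have h6 : orderOf ρ ∣ n / ∏ p ∈ n.primeFactors, p := by
    apply Nat.dvd_div_of_mul_dvd
    rwa [mul_comm]
  exact (hcast _).mpr (orderOf_dvd_iff_pow_eq_one.mp h6)

open PresentedGroup in
theorem nonempty_equiv_presented {K : Type*} [Group K] [Finite K] (x y : K) (n m r : ℕ)
    (hgen : Subgroup.closure {x, y} = ⊤) (hx : orderOf x = n) (hy : orderOf y = m)
    (hrel : x⁻¹ * y * x = y ^ r) (hcop : Nat.Coprime n m) :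
    Nonempty (K ≃* PresentedGroup
      ({FreeGroup.of (0 : Fin 2) ^ n, FreeGroup.of (1 : Fin 2) ^ m,
        (FreeGroup.of (0 : Fin 2))⁻¹ * FreeGroup.of 1 * FreeGroup.of 0 *
          (FreeGroup.of (1 : Fin 2) ^ r)⁻¹} : Set (FreeGroup (Fin 2)))) := by
  classical
  set rels : Set (FreeGroup (Fin 2)) :=
    {FreeGroup.of (0 : Fin 2) ^ n, FreeGroup.of (1 : Fin 2) ^ m,
      (FreeGroup.of (0 : Fin 2))⁻¹ * FreeGroup.of 1 * FreeGroup.of 0 *
        (FreeGroup.of (1 : Fin 2) ^ r)⁻¹} with hrels
  have hn0 : 0 < n := hx ▸ orderOf_pos x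
  have hm0 : 0 < m := hy ▸ orderOf_pos y
  -- generators of Γ
  set X : PresentedGroup rels := PresentedGroup.of 0 with hX
  set Y : PresentedGroup rels := PresentedGroup.of 1 with hY
  have hXn : X ^ n = 1 := by
    have := PresentedGroup.one_of_mem (rels := rels) (x := FreeGroup.of (0 : Fin 2) ^ n)
      (by rw [hrels]; simp)
    simpa [hX, PresentedGroup.of] using this
  have hYm : Y ^ m = 1 := by
    have := PresentedGroup.one_of_mem (rels := rels) (x := FreeGroup.of (1 : Fin 2) ^ m)
      (by rw [hrels]; simp)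
    simpa [hY, PresentedGroup.of] using this
  have hXY : X⁻¹ * Y * X = Y ^ r := by
    have := PresentedGroup.one_of_mem (rels := rels)
      (x := (FreeGroup.of (0 : Fin 2))⁻¹ * FreeGroup.of 1 * FreeGroup.of 0 *
        (FreeGroup.of (1 : Fin 2) ^ r)⁻¹) (by rw [hrels]; simp)
    have h2 : X⁻¹ * Y * X * (Y ^ r)⁻¹ = 1 := by
      simpa [hX, hY, PresentedGroup.of] using this
    exact mul_inv_eq_one.mp h2
  have hgenΓ : Subgroup.closure {X, Y} = (⊤ : Subgroup (PresentedGroup rels)) := by
    rw [← PresentedGroup.closure_range_of rels]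
    congr 1
    ext g
    constructor
    · rintro (rfl | rfl)
      · exact ⟨0, rfl⟩
      · exact ⟨1, rfl⟩
    · rintro ⟨i, rfl⟩
      fin_cases i
      · left; rfl
      · right; rfl
  -- N = ⟨Y⟩ is normal
  set N : Subgroup (PresentedGroup rels) := Subgroup.zpowers Y with hN
  have hconj : ∀ h ∈ N, X⁻¹ * h * X ∈ N := by
    intro h hh
    obtain ⟨k, rfl⟩ := Subgroup.mem_zpowers_iff.mp hh
    have : X⁻¹ * Y ^ k * X = (X⁻¹ * Y * X) ^ k := by
      have := conj_zpow (a := X⁻¹) (b := Y) (i := k)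
      simpa using this.symm
    rw [this, hXY]
    exact Subgroup.zpow_mem _ (Subgroup.pow_mem _ (Subgroup.mem_zpowers Y) r) k
  have hconj' : ∀ t : ℕ, ∀ h ∈ N, (X⁻¹) ^ t * h * X ^ t ∈ N := by
    intro t
    induction t with
    | zero => intro h hh; simpa using hh
    | succ t ih =>
      intro h hh
      have : (X⁻¹) ^ (t + 1) * h * X ^ (t + 1) = X⁻¹ * ((X⁻¹) ^ t * h * X ^ t) * X := by
        rw [pow_succ', pow_succ]
        group
      rw [this]
      exact hconj _ (ih h hh)
  have hXinv : X⁻¹ = X ^ (n - 1) := by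
    rw [inv_eq_iff_mul_eq_one, ← pow_succ', Nat.sub_add_cancel hn0, hXn]
  have hconjX : ∀ h ∈ N, X * h * X⁻¹ ∈ N := by
    intro h hh
    have h1 := hconj' (n - 1) h hh
    have h2 : (X⁻¹) ^ (n - 1) = X := by
      rw [inv_pow, ← hXinv, inv_inv]
    rwa [h2, ← hXinv] at h1
  have hNn : N.Normal := by
    rw [← Subgroup.normalizer_eq_top_iff]
    rw [eq_top_iff, ← hgenΓ, Subgroup.closure_le]
    rintro g (rfl | rfl)
    · rw [SetLike.mem_coe, Subgroup.mem_normalizer_iff]
      intro h
      constructor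
      · exact hconjX h
      · intro hh
        have := hconj _ hh
        have e : X⁻¹ * (X * h * X⁻¹) * X = h := by group
        rwa [e] at this
    · exact Subgroup.le_normalizer (Subgroup.mem_zpowers _)
  -- cardinality
  have hcardN : Nat.card N ∣ m := by
    rw [hN, Nat.card_zpowers]
    exact orderOf_dvd_of_pow_eq_one hYm
  have hquot : Nat.card (PresentedGroup rels ⧸ N) ∣ n := by
    have htop : Subgroup.zpowers (QuotientGroup.mk' N X) = ⊤ := by
      have h1 : Subgroup.map (QuotientGroup.mk' N) (Subgroup.closure {X, Y}) = ⊤ := by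
        rw [hgenΓ, ← MonoidHom.range_eq_map, MonoidHom.range_eq_top]
        exact QuotientGroup.mk'_surjective N
      rw [MonoidHom.map_closure] at h1
      rw [eq_top_iff, ← h1, Subgroup.closure_le]
      rintro _ ⟨g, (rfl | rfl), rfl⟩
      · exact Subgroup.mem_zpowers _
      · have : QuotientGroup.mk' N Y = 1 := by
          rw [QuotientGroup.mk'_apply, QuotientGroup.eq_one_iff]
          exact Subgroup.mem_zpowers _
        rw [this]
        exact Subgroup.one_mem _
    have h2 : Nat.card (PresentedGroup rels ⧸ N) = orderOf (QuotientGroup.mk' N X) := by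
      rw [← Nat.card_zpowers, htop, Subgroup.card_top]
    rw [h2]
    apply orderOf_dvd_of_pow_eq_one
    rw [← map_pow, hXn, map_one]
  have hcardΓ : Nat.card (PresentedGroup rels) ∣ n * m := by
    rw [Subgroup.card_eq_card_quotient_mul_card_subgroup N]
    exact Nat.mul_dvd_mul hquot hcardN
  have hnm : 0 < n * m := Nat.mul_pos hn0 hm0
  have hfin : Finite (PresentedGroup rels) :=
    Nat.finite_of_card_ne_zero (Nat.pos_of_dvd_of_pos hcardΓ hnm).ne'
  -- the homomorphism onto K
  have hlift : ∀ w ∈ rels, FreeGroup.lift ![x, y] w = 1 := by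
    intro w hw
    rw [hrels] at hw
    rcases hw with rfl | rfl | rfl
    · simp [← hx, pow_orderOf_eq_one]
    · simp [← hy, pow_orderOf_eq_one]
    · simp [hrel]
  let φ : PresentedGroup rels →* K := PresentedGroup.toGroup hlift
  have hφX : φ X = x := by
    simp [φ, hX]
  have hφY : φ Y = y := by
    simp [φ, hY]
  have hsurj : Function.Surjective φ := by
    rw [← MonoidHom.range_eq_top, eq_top_iff, ← hgen, Subgroup.closure_le]
    rintro g (rfl | rfl)
    · exact ⟨X, hφX⟩
    · exact ⟨Y, hφY⟩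
  have hK : n * m ∣ Nat.card K := by
    apply Nat.Coprime.mul_dvd_of_dvd_of_dvd hcop
    · rw [← hx]; exact orderOf_dvd_natCard x
    · rw [← hy]; exact orderOf_dvd_natCard y
  have hle : Nat.card (PresentedGroup rels) ≤ Nat.card K :=
    (Nat.le_of_dvd hnm hcardΓ).trans (Nat.le_of_dvd Nat.card_pos hK)
  have hbij : Function.Bijective φ := hsurj.bijective_of_nat_card_le hle
  exact ⟨(MulEquiv.ofBijective φ hbij).symm⟩

end Cfsg.Agent.Lib.helper62.MetaPres
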