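import Mathlib
import Cfsg.Agent.Lib.helper62.PrimNormal
import Cfsg.Agent.Lib.helper62.Derangement

set_option autoImplicit false

namespace Cfsg.Agent.Lib.helper62

open MulAction

section
variable {G : Type*} [Group G] {Ω : Type*} [MulAction G Ω]

/-- In a finite sharply 2-transitive group, any two derangements are conjugate. -/
theorem sharp_two_trans_derangements_conj [Finite G] [Finite Ω]
    (h2 : ∀ a b c d : Ω, a ≠ b → c ≠ d → ∃ g : G, g • a = c ∧ g • b = d)
    (hsharp : ∀ g : G, g ≠ 1 → ∀ a b : Ω, a ≠ b → g • a = a → g • b ≠ b) (a : Ω)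
    (d d' : G) (hd : ∀ ω : Ω, d • ω ≠ ω) (hd' : ∀ ω : Ω, d' • ω ≠ ω) :
    ∃ g : G, g * d * g⁻¹ = d' := by
  classical
  have hb : d • a ≠ a := hd a
  have hb' : d' • a ≠ a := hd' a
  obtain ⟨g, hga, hgb⟩ := h2 a (d • a) a (d' • a) (Ne.symm hb) (Ne.symm hb')
  refine ⟨g, ?_⟩
  have hginv : g⁻¹ • a = a := by rw [inv_smul_eq_iff, hga]
  -- e := g d g⁻¹ is a derangement with e a = d' a
  have hea : (g * d * g⁻¹) • a = d' • a := by
    rw [mul_smul, mul_smul, hginv, hgb]
  have he : ∀ ω : Ω, (g * d * g⁻¹) • ω ≠ ω := by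
    intro ω h
    apply hd (g⁻¹ • ω)
    rw [mul_smul, mul_smul] at h
    have h' := congrArg (fun x => g⁻¹ • x) h
    simp only [inv_smul_smul] at h'
    exact h'
  generalize g * d * g⁻¹ = e at hea he
  by_contra hne
  -- the two types
  let X := {c : Ω // c ≠ a ∧ c ≠ d' • a}
  let Y := {u : G // u • a = a ∧ u ≠ 1}
  have hsharp' : ∀ u : G, ∀ x y : Ω, x ≠ y → u • x = x → u • y = y → u = 1 := by
    intro u x y hxy hx hy
    by_contra hu
    exact hsharp u hu x y hxy hx hy
  let ι : Y → X := fun u => ⟨u.1 • (d' • a), by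
    constructor
    · intro h
      have h1 : u.1 • (d' • a) = u.1 • a := by rw [h, u.2.1]
      exact hb' (smul_left_cancel _ h1)
    · exact hsharp u.1 u.2.2 a (d' • a) (Ne.symm hb') u.2.1⟩
  have hι : Function.Injective ι := by
    intro u v huv
    have h1 : u.1 • (d' • a) = v.1 • (d' • a) := congrArg Subtype.val huv
    have h2' : (u.1⁻¹ * v.1) • (d' • a) = d' • a := by rw [mul_smul, ← h1, inv_smul_smul]
    have h3 : (u.1⁻¹ * v.1) • a = a := by rw [mul_smul, v.2.1, inv_smul_eq_iff, u.2.1]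
    have h4 := hsharp' _ a (d' • a) (Ne.symm hb') h3 h2'
    rw [inv_mul_eq_one] at h4
    exact Subtype.ext h4
  have hex : ∀ c : X, ∃ u : G, u • a = a ∧ u • c.1 = e⁻¹ • c.1 := by
    intro c
    apply h2 a c.1 a (e⁻¹ • c.1) (Ne.symm c.2.1)
    intro h
    apply c.2.2
    calc c.1 = e • (e⁻¹ • c.1) := (smul_inv_smul e c.1).symm
      _ = e • a := by rw [← h]
      _ = d' • a := hea
  let κ : X → Y := fun c => ⟨Classical.choose (hex c), (Classical.choose_spec (hex c)).1, by
    intro h1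
    have h2' := (Classical.choose_spec (hex c)).2
    rw [h1, one_smul] at h2'
    apply he c.1
    calc e • c.1 = e • (e⁻¹ • c.1) := congrArg (fun x => e • x) h2'
      _ = c.1 := smul_inv_smul e c.1⟩
  have hκ : Function.Injective κ := by
    intro c c' hcc
    by_contra hne'
    have hne'' : c.1 ≠ c'.1 := fun h => hne' (Subtype.ext h)
    have h1 : (κ c).1 = (κ c').1 := congrArg Subtype.val hcc
    have hc : (κ c).1 • c.1 = e⁻¹ • c.1 := (Classical.choose_spec (hex c)).2
    have hc' : (κ c').1 • c'.1 = e⁻¹ • c'.1 := (Classical.choose_spec (hex c')).2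
    have h3 : (e * (κ c).1) • c.1 = c.1 := by rw [mul_smul, hc, smul_inv_smul]
    have h4 : (e * (κ c).1) • c'.1 = c'.1 := by rw [h1, mul_smul, hc', smul_inv_smul]
    have h5 := hsharp' _ c.1 c'.1 hne'' h3 h4
    have h6 : (e * (κ c).1) • a = e • a := by rw [mul_smul, (κ c).2.1]
    rw [h5, one_smul, hea] at h6
    exact hb' h6.symm
  have hcard : Nat.card X ≤ Nat.card Y := Nat.card_le_card_of_injective κ hκ
  have hκb : Function.Bijective κ :=
    hκ.bijective_of_nat_card_le (Nat.card_le_card_of_injective ι hι)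
  have hu₀ : (e⁻¹ * d') • a = a ∧ e⁻¹ * d' ≠ 1 := by
    constructor
    · rw [mul_smul, ← hea, inv_smul_smul]
    · intro h
      apply hne
      rw [inv_mul_eq_one] at h
      exact h
  obtain ⟨c, hc⟩ := hκb.2 ⟨e⁻¹ * d', hu₀⟩
  have h1 : (κ c).1 • c.1 = e⁻¹ • c.1 := (Classical.choose_spec (hex c)).2
  rw [hc] at h1
  change (e⁻¹ * d') • c.1 = e⁻¹ • c.1 at h1
  rw [mul_smul] at h1
  exact hd' c.1 (smul_left_cancel _ h1)

/-- Abelian minimal normal subgroup: if all derangements are conjugate and lie in the regular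
abelian normal subgroup `N`, the group is sharply 2-transitive. -/
theorem sharp_two_trans_of_abelian [Finite G]
    (N : Subgroup G) [hN : N.Normal] (htr : ∀ x y : Ω, ∃ n ∈ N, n • x = y)
    (hreg : ∀ n ∈ N, ∀ x : Ω, n • x = x → n = 1)
    (hNc : ∀ a ∈ N, ∀ b ∈ N, a * b = b * a)
    (hder : ∀ d : G, (∀ ω : Ω, d • ω ≠ ω) → d ∈ N)
    (hconj : ∀ d d' : G, (∀ ω : Ω, d • ω ≠ ω) → (∀ ω : Ω, d' • ω ≠ ω) →
      ∃ g : G, g * d * g⁻¹ = d') :
    (∀ a b c d : Ω, a ≠ b → c ≠ d → ∃ g : G, g • a = c ∧ g • b = d) ∧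
    (∀ g : G, g ≠ 1 → ∀ a b : Ω, a ≠ b → g • a = a → g • b ≠ b) := by
  have hderN : ∀ n ∈ N, n ≠ 1 → ∀ ω : Ω, n • ω ≠ ω := fun n hn hn1 ω h => hn1 (hreg n hn ω h)
  constructor
  · intro a b c d hab hcd
    obtain ⟨n, hn, hna⟩ := htr a b
    obtain ⟨n', hn', hn'c⟩ := htr c d
    have hn1 : n ≠ 1 := by
      intro h; rw [h, one_smul] at hna; exact hab hna
    have hn'1 : n' ≠ 1 := by
      intro h; rw [h, one_smul] at hn'c; exact hcd hn'c
    obtain ⟨g, hg⟩ := hconj n n' (hderN n hn hn1) (hderN n' hn' hn'1)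
    obtain ⟨m, hm, hmc⟩ := htr (g • a) c
    refine ⟨m * g, by rw [mul_smul, hmc], ?_⟩
    have h1 : (m * g) * n = n' * (m * g) := by
      have h2 : m * n' = n' * m := hNc m hm n' hn'
      calc (m * g) * n = m * (g * n * g⁻¹) * g := by group
        _ = m * n' * g := by rw [hg]
        _ = n' * m * g := by rw [h2]
        _ = n' * (m * g) := by group
    rw [← hna, ← mul_smul, h1, mul_smul, mul_smul, hmc, hn'c]
  · intro g hg1 a b hab hga hgb
    obtain ⟨n, hn, hna⟩ := htr a b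
    have hn1 : n ≠ 1 := by
      intro h; rw [h, one_smul] at hna; exact hab hna
    have hginv : g⁻¹ • a = a := by rw [inv_smul_eq_iff, hga]
    have hgn : g * n * g⁻¹ = n := by
      have h1 : (n⁻¹ * (g * n * g⁻¹)) • a = a := by
        rw [mul_smul, mul_smul, mul_smul, hginv, hna, hgb, ← hna, inv_smul_smul]
      have h2 := hreg _ (N.mul_mem (N.inv_mem hn) (hN.conj_mem n hn g)) a h1
      rw [inv_mul_eq_one] at h2
      exact h2.symm
    let f : N → N := fun y => ⟨g * y * g⁻¹ * (y : G)⁻¹,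
      N.mul_mem (hN.conj_mem y y.2 g) (N.inv_mem y.2)⟩
    have hf : ¬ Function.Injective f := by
      intro hinj
      have h1 : f ⟨n, hn⟩ = f 1 := by
        apply Subtype.ext
        change g * n * g⁻¹ * n⁻¹ = g * 1 * g⁻¹ * 1⁻¹
        rw [hgn]; group
      have h2 := hinj h1
      exact hn1 (congrArg Subtype.val h2)
    have hf' : ¬ Function.Surjective f := fun h => hf (Finite.injective_iff_surjective.mpr h)
    simp only [Function.Surjective] at hf'
    push Not at hf'
    obtain ⟨n₀, hn₀⟩ := hf'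
    have hx : ∀ ω : Ω, ((n₀ : G)⁻¹ * g) • ω ≠ ω := by
      intro ω hω
      obtain ⟨y, hy, rfl⟩ := htr a ω
      apply hn₀ ⟨y, hy⟩
      apply Subtype.ext
      change g * y * g⁻¹ * y⁻¹ = n₀
      have h1 : (y⁻¹ * ((n₀ : G)⁻¹ * (g * y * g⁻¹))) • a = a := by
        rw [mul_smul, mul_smul, mul_smul, mul_smul, hginv, inv_smul_eq_iff, ← mul_smul,
          ← mul_smul]
        rw [mul_smul] at hω
        rw [mul_smul, mul_smul]
        exact hω
      have h2 := hreg _ (N.mul_mem (N.inv_mem hy)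
        (N.mul_mem (N.inv_mem n₀.2) (hN.conj_mem y hy g))) a h1
      have h3 : g * y * g⁻¹ = (n₀ : G) * y := by
        have h4 : (n₀ : G) * y * (y⁻¹ * ((n₀ : G)⁻¹ * (g * y * g⁻¹))) = g * y * g⁻¹ := by group
        rw [← h4, h2, mul_one]
      rw [h3, mul_inv_cancel_right]
    have h1 := hder _ hx
    have h2 : g ∈ N := by
      have h3 : g = (n₀ : G) * ((n₀ : G)⁻¹ * g) := by group
      rw [h3]
      exact N.mul_mem n₀.2 h1
    exact hg1 (hreg g h2 a hga)

end

end Cfsg.Agent.Lib.helper62
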