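import Mathlib

set_option autoImplicit false

namespace Cfsg.Agent.Lib.helper62

open MulAction

section
variable {Γ : Type*} [Group Γ]

/-- For `K` normal in a finite group, `[K : K ∩ S]` divides `[G : S]`. -/
theorem relIndex_dvd_index_of_normal_right [Finite Γ] (S K : Subgroup Γ) [K.Normal] :
    S.relIndex K ∣ S.index := by
  have h1 : S.relIndex K * K.index = (S ⊓ K).index := by
    have := Subgroup.relIndex_inf_mul_relIndex S K ⊤
    simpa using this
  have h2 : K.relIndex S * S.index = (K ⊓ S).index := by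
    have := Subgroup.relIndex_inf_mul_relIndex K S ⊤
    simpa using this
  obtain ⟨c, hc⟩ := Subgroup.relIndex_dvd_index_of_normal K S
  have hpos : 0 < K.relIndex S :=
    Nat.pos_of_ne_zero (Subgroup.index_ne_zero_of_finite (H := K.subgroupOf S))
  refine ⟨c, ?_⟩
  rw [inf_comm] at h2
  have h3 : K.relIndex S * S.index = K.relIndex S * (S.relIndex K * c) := by
    rw [h2, ← h1, hc]; ring
  exact Nat.eq_of_mul_eq_mul_left hpos h3

/-- If `K ≤ H` and `H` normalizes `K` then `[K : K ∩ S]` divides `[H : H ∩ S]`. -/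
theorem relIndex_dvd_relIndex_of_normal [Finite Γ] (S K H : Subgroup Γ) (hKH : K ≤ H)
    (hn : H ≤ Subgroup.normalizer (K : Set Γ)) : S.relIndex K ∣ S.relIndex H := by
  haveI : (K.subgroupOf H).Normal := by
    rw [Subgroup.normal_subgroupOf_iff hKH]
    intro h k hh hk
    exact ((hn hk) h).mp hh
  have h1 := relIndex_dvd_index_of_normal_right (S.subgroupOf H) (K.subgroupOf H)
  rw [Subgroup.relIndex_subgroupOf hKH] at h1
  exact h1

theorem card_eq_relIndex_mul_card [Finite Γ] {N L : Subgroup Γ} (hNL : N ≤ L) :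
    Nat.card L = N.relIndex L * Nat.card N := by
  have h := Subgroup.card_mul_index (N.subgroupOf L)
  rw [Nat.card_congr (Subgroup.subgroupOfEquivOfLe hNL).toEquiv] at h
  rw [← h, mul_comm]
  rfl

/-- If `H` normalizes `N` then `[N ⊔ H : H]` divides `|N|`. -/
theorem relIndex_sup_dvd_card [Finite Γ] (N H : Subgroup Γ)
    (hn : H ≤ Subgroup.normalizer (N : Set Γ)) : H.relIndex (N ⊔ H) ∣ Nat.card N := by
  have hNL : N ≤ N ⊔ H := le_sup_left
  have hHL : H ≤ N ⊔ H := le_sup_right
  have hLn : N ⊔ H ≤ Subgroup.normalizer (N : Set Γ) := sup_le Subgroup.le_normalizer hn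
  haveI : (N.subgroupOf (N ⊔ H)).Normal := by
    rw [Subgroup.normal_subgroupOf_iff hNL]
    intro h k hh hk
    exact ((hLn hk) h).mp hh
  have hsup : H.subgroupOf (N ⊔ H) ⊔ N.subgroupOf (N ⊔ H) = ⊤ := by
    rw [← Subgroup.subgroupOf_sup hHL hNL, sup_comm, Subgroup.subgroupOf_self]
  have h1 := Subgroup.relIndex_sup_right (H := H.subgroupOf (N ⊔ H)) (K := N.subgroupOf (N ⊔ H))
  rw [hsup, Subgroup.relIndex_top_right, Subgroup.relIndex_subgroupOf hHL] at h1
  -- h1 : (N.subgroupOf (N ⊔ H)).index = N.relIndex H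
  have h2 : N.relIndex (N ⊔ H) = N.relIndex H := h1
  obtain ⟨c, hc⟩ := Subgroup.relIndex_dvd_card N H
  have e1 := card_eq_relIndex_mul_card hNL
  have e2 := card_eq_relIndex_mul_card hHL
  rw [h2] at e1
  have hpos : 0 < N.relIndex H :=
    Nat.pos_of_ne_zero (Subgroup.index_ne_zero_of_finite (H := N.subgroupOf H))
  refine ⟨c, ?_⟩
  have h3 : N.relIndex H * Nat.card N = N.relIndex H * (H.relIndex (N ⊔ H) * c) := by
    rw [← e1, e2, hc]; ring
  exact Nat.eq_of_mul_eq_mul_left hpos h3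

variable {X : Type*} [MulAction Γ X]

/-- The orbit of `v` under a subgroup `S`, as a set, has `[S : S_v]` elements. -/
theorem card_orbit_set_eq_relIndex (S : Subgroup Γ) (v : X) :
    Nat.card {u : X | ∃ h ∈ S, h • v = u} = (stabilizer Γ v).relIndex S := by
  have hset : {u : X | ∃ h ∈ S, h • v = u} = orbit S v := by
    ext u
    constructor
    · rintro ⟨h, hh, rfl⟩
      exact ⟨⟨h, hh⟩, rfl⟩
    · rintro ⟨⟨h, hh⟩, rfl⟩
      exact ⟨h, hh, rfl⟩
  have h1 : (stabilizer Γ v).subgroupOf S = stabilizer S v := by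
    ext; rfl
  rw [hset, Nat.card_coe_set_eq, ← index_stabilizer, ← h1]
  rfl

/-- Orbits of a normal subgroup have size dividing the orbit size of the big group. -/
theorem card_orbit_dvd_of_normal [Finite Γ] (K H : Subgroup Γ) (hKH : K ≤ H)
    (hn : H ≤ Subgroup.normalizer (K : Set Γ)) (v : X) :
    Nat.card {u : X | ∃ k ∈ K, k • v = u} ∣ Nat.card {u : X | ∃ h ∈ H, h • v = u} := by
  rw [card_orbit_set_eq_relIndex, card_orbit_set_eq_relIndex]
  exact relIndex_dvd_relIndex_of_normal _ K H hKH hn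

/-- Orbits of `N ⊔ H`, for `N` normalized by `H`: the size divides `|N|` times the size of the
`H`-orbit. -/
theorem card_orbit_sup_dvd [Finite Γ] (N H : Subgroup Γ)
    (hn : H ≤ Subgroup.normalizer (N : Set Γ)) (v : X) :
    Nat.card {u : X | ∃ x ∈ N ⊔ H, x • v = u} ∣
      Nat.card N * Nat.card {u : X | ∃ h ∈ H, h • v = u} := by
  rw [card_orbit_set_eq_relIndex, card_orbit_set_eq_relIndex]
  have hHL : H ≤ N ⊔ H := le_sup_right
  have h1 : (stabilizer Γ v).relIndex (N ⊔ H) ∣ (stabilizer Γ v ⊓ H).relIndex (N ⊔ H) :=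
    Subgroup.relIndex_dvd_of_le_left (N ⊔ H) inf_le_left
  have h2 : (stabilizer Γ v ⊓ H).relIndex H * H.relIndex (N ⊔ H) =
      (stabilizer Γ v ⊓ H).relIndex (N ⊔ H) := Subgroup.relIndex_mul_relIndex _ _ _ inf_le_right hHL
  rw [Subgroup.inf_relIndex_right] at h2
  rw [← h2] at h1
  refine dvd_trans h1 ?_
  rw [mul_comm]
  exact mul_dvd_mul_right (relIndex_sup_dvd_card N H hn) _

end

end Cfsg.Agent.Lib.helper62
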