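import Mathlib
import Cfsg.Prelude.Def_GeometricClasses

/-!
# S5977/S5978 block C, piece KAPPA (racer copy of helper62)

A quadratic field subalgebra `K` of a matrix algebra over a field with `2 ≠ 0` is `F·1 + F·κ` with `κ² = δ•1`,
`δ` a nonsquare.
-/

set_option autoImplicit false

namespace Cfsg.Agent.Lib.helper2

open Cfsg.Geo Matrix

/-- KAPPA under a prefixed name: the verbatim statement of `qfc_kappa`. -/
theorem h62_qfc_kappa {F : Type*} [Field F] {ι : Type} [Fintype ι] [DecidableEq ι]
    (h2 : (2 : F) ≠ 0) (K : Subalgebra F (Matrix ι ι F)) (hK : IsFieldSubalgebra 2 K) :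
    ∃ κ ∈ K, ∃ δ : F, (∀ r : F, r ^ 2 ≠ δ + 0 * r) ∧ κ * κ = δ • (1 : Matrix ι ι F) ∧
      ∀ k ∈ K, ∃ a b : F, k = a • (1 : Matrix ι ι F) + b • κ := by
  classical
  have hfin : Module.finrank F K = 2 := hK.finrank_eq
  have hpos : 0 < Module.finrank F K := by rw [hfin]; norm_num
  have : Module.Finite F K := Module.finite_of_finrank_pos hpos
  have : Nontrivial K := Module.nontrivial_of_finrank_pos hpos
  have h1ne : (1 : K) ≠ 0 := one_ne_zero
  -- an element outside `F·1`
  have hex : ∃ k0 : K, ∀ c : F, c • (1 : K) ≠ k0 := by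
    by_contra hcon
    push Not at hcon
    have hle : Module.finrank F K ≤ 1 := finrank_le_one (1 : K) hcon
    omega
  obtain ⟨k0, hk0⟩ := hex
  have hli : LinearIndependent F ![(1 : K), k0] := (LinearIndependent.pair_iff' h1ne).mpr hk0
  have htop : Submodule.span F (Set.range ![(1 : K), k0]) = ⊤ :=
    hli.span_eq_top_of_card_eq_finrank' (by rw [hfin]; rfl)
  have hspan : ∀ k : K, ∃ a b : F, a • (1 : K) + b • k0 = k := by
    intro k
    have hk : k ∈ Submodule.span F (Set.range ![(1 : K), k0]) := by rw [htop]; trivial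
    have hr : Set.range ![(1 : K), k0] = {(1 : K), k0} := by
      ext x
      simp only [Set.mem_range, Set.mem_insert_iff, Set.mem_singleton_iff]
      constructor
      · rintro ⟨i, rfl⟩
        fin_cases i
        · left; rfl
        · right; rfl
      · rintro (rfl | rfl)
        · exact ⟨0, rfl⟩
        · exact ⟨1, rfl⟩
    rw [hr] at hk
    exact Submodule.mem_span_pair.mp hk
  obtain ⟨t, s, hts⟩ := hspan (k0 * k0)
  obtain ⟨c, hc⟩ : ∃ c : F, c + c = s := ⟨s / 2, by field_simp; ring⟩
  subst hc
  set κ : K := k0 - c • (1 : K) with hκdef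
  have hκ2 : κ * κ = (t + c * c) • (1 : K) := by
    have e1 : κ * κ = k0 * k0 - c • k0 - c • k0 + (c * c) • (1 : K) := by
      rw [hκdef]
      simp only [sub_mul, mul_sub, smul_mul_assoc, mul_smul_comm, mul_one, one_mul]
      module
    rw [e1, ← hts]
    module
  have hk0κ : k0 = κ + c • (1 : K) := by rw [hκdef]; abel
  refine ⟨(κ : Matrix ι ι F), κ.2, t + c * c, ?_, ?_, ?_⟩
  · intro r hr
    have hr' : r * r = t + c * c := by
      have : r ^ 2 = t + c * c := by rw [hr]; ring
      rw [← this]; ring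
    have hXY : (κ - r • (1 : K)) * (κ + r • (1 : K)) = 0 := by
      have e2 : (κ - r • (1 : K)) * (κ + r • (1 : K)) = κ * κ - (r * r) • (1 : K) := by
        simp only [sub_mul, mul_add, smul_mul_assoc, mul_smul_comm, mul_one, one_mul]
        module
      rw [e2, hκ2, hr', sub_self]
    by_cases hX : κ - r • (1 : K) = 0
    · apply hk0 (r + c)
      rw [hk0κ, sub_eq_zero.mp hX]
      module
    · have hXm : ((κ - r • (1 : K) : K) : Matrix ι ι F) ≠ 0 := by
        intro h0
        apply hX
        exact Subtype.ext h0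
      obtain ⟨y, hyK, hy⟩ := hK.inv _ (κ - r • (1 : K)).2 hXm
      have hyc : y * ((κ - r • (1 : K) : K) : Matrix ι ι F) = 1 := by
        rw [← hK.comm _ (κ - r • (1 : K)).2 y hyK, hy]
      have hY : ((κ + r • (1 : K) : K) : Matrix ι ι F) = 0 := by
        have h3 := congrArg (fun z : K => (z : Matrix ι ι F)) hXY
        simp only [Subalgebra.coe_mul, ZeroMemClass.coe_zero] at h3
        calc ((κ + r • (1 : K) : K) : Matrix ι ι F)
            = (y * ((κ - r • (1 : K) : K) : Matrix ι ι F)) * ((κ + r • (1 : K) : K) : Matrix ι ι F) := by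
              rw [hyc, one_mul]
          _ = 0 := by rw [mul_assoc, h3, mul_zero]
      have hY' : κ + r • (1 : K) = 0 := Subtype.ext hY
      apply hk0 (c - r)
      rw [hk0κ, eq_neg_of_add_eq_zero_left hY']
      module
  · have h3 := congrArg (fun z : K => (z : Matrix ι ι F)) hκ2
    simpa using h3
  · intro k hk
    obtain ⟨a, b, hab⟩ := hspan ⟨k, hk⟩
    refine ⟨a + b * c, b, ?_⟩
    have h4 : (⟨k, hk⟩ : K) = (a + b * c) • (1 : K) + b • κ := by
      rw [← hab, hk0κ]
      module
    have h5 := congrArg (fun z : K => (z : Matrix ι ι F)) h4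
    simpa using h5

end Cfsg.Agent.Lib.helper2
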