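import Mathlib
import Cfsg.Prelude.Def_GeometricClasses
import Cfsg.Agent.Lib.helper24.SfoDefs
import Cfsg.Agent.Lib.helper27.SfoCNTE
import Cfsg.Agent.Lib.helper77.SfoCNTO
import Cfsg.Agent.Lib.helper34.QfcCNT

/-!
# S5977/S5978 block A, leaf KUNIQ, piece CNTEQ (racer copy of helper62)

The two quadratic forms over `K' = F(√δ)` obtained from the same `Q` have the same number of vectors of norm one.
-/

set_option autoImplicit false

namespace Cfsg.Agent.Lib.helper2

open Cfsg.Geo Matrix Cfsg.Agent.Lib.helper24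

/-- `2 ≠ 0` in a finite field of odd order. -/
theorem h62_two_ne_zero_of_odd_card {F : Type*} [Field F] [Fintype F]
    (hodd : Odd (Fintype.card F)) : (2 : F) ≠ 0 := by
  intro h
  have hdvd : ringChar F ∣ 2 := (ringChar.spec F 2).mp (by exact_mod_cast h)
  have hchar : ringChar F = 2 := by
    rcases (Nat.dvd_prime Nat.prime_two).mp hdvd with h1 | h2
    · exact absurd h1 CharP.ringChar_ne_one
    · exact h2
  have h0 := FiniteField.even_card_of_char_two hchar
  rcases hodd with ⟨k, hk⟩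
  omega

/-- The statement of piece FIB (prefixed copy): fibres of the real part. -/
theorem h62_qfu_fib {F : Type*} [Field F] [Fintype F] {ι : Type} [Fintype ι] [DecidableEq ι]
    (Q : (ι → F) → F) (δ : F) [Fact (∀ r : F, r ^ 2 ≠ δ + 0 * r)]
    (d : ℕ) (Φ : (Fin d → QuadraticAlgebra F δ 0) ≃+ (ι → F))
    (qk : (ι → F) → QuadraticAlgebra F δ 0) (hre : ∀ v, (qk v).re = Q v) :
    Nat.card {v : ι → F // Q v = 1} =
      ∑ b : F, sfoCount (fun k => qk (Φ k)) (⟨1, b⟩ : QuadraticAlgebra F δ 0) := by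
  classical
  have : Finite (QuadraticAlgebra F δ 0) :=
    Finite.of_equiv _ (QuadraticAlgebra.equivProd δ 0).symm
  let e1 : {v : ι → F // Q v = 1} ≃
      Σ b : F, {k : Fin d → QuadraticAlgebra F δ 0 // qk (Φ k) = ⟨1, b⟩} :=
    { toFun := fun v => ⟨(qk v.1).im, ⟨Φ.symm v.1, by
          rw [AddEquiv.apply_symm_apply]
          ext
          · rw [hre, v.2]
          · rfl⟩⟩
      invFun := fun s => ⟨Φ s.2.1, by rw [← hre, s.2.2]⟩
      left_inv := fun v => by simp
      right_inv := fun s => by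
        rcases s with ⟨b, k, hk⟩
        have hb : (qk (Φ k)).im = b := by rw [hk]
        subst hb
        simp }
  rw [Nat.card_congr e1, Nat.card_sigma]
  rfl

/-- CNTEQ under a prefixed name: the verbatim statement of `qfu_count_eq`. -/
theorem h62_qfu_count_eq {F : Type*} [Field F] [Fintype F] {ι : Type} [Fintype ι] [DecidableEq ι]
    (hodd : Odd (Fintype.card F)) (Q : (ι → F) → F) (δ : F) [Fact (∀ r : F, r ^ 2 ≠ δ + 0 * r)]
    (d : ℕ) (Φ₁ Φ₂ : (Fin d → QuadraticAlgebra F δ 0) ≃+ (ι → F))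
    (qk₁ qk₂ : (ι → F) → QuadraticAlgebra F δ 0) (hre₁ : ∀ v, (qk₁ v).re = Q v)
    (hre₂ : ∀ v, (qk₂ v).re = Q v)
    (hQ₁ : IsNondegenerateQuadraticForm (fun k : Fin d → QuadraticAlgebra F δ 0 => qk₁ (Φ₁ k)))
    (hQ₂ : IsNondegenerateQuadraticForm (fun k : Fin d → QuadraticAlgebra F δ 0 => qk₂ (Φ₂ k))) :
    sfoCount (fun k : Fin d → QuadraticAlgebra F δ 0 => qk₁ (Φ₁ k)) 1 =
      sfoCount (fun k : Fin d → QuadraticAlgebra F δ 0 => qk₂ (Φ₂ k)) 1 := by
  classical
  let _ : Fintype (QuadraticAlgebra F δ 0) := Fintype.ofEquiv _ (QuadraticAlgebra.equivProd δ 0).symm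
  have h2F : (2 : F) ≠ 0 := h62_two_ne_zero_of_odd_card hodd
  have h2K : (2 : QuadraticAlgebra F δ 0) ≠ 0 := by
    intro h
    have h' := congrArg QuadraticAlgebra.re h
    rw [QuadraticAlgebra.re_ofNat] at h'
    exact h2F h'
  have hone : (1 : QuadraticAlgebra F δ 0) ≠ 0 := one_ne_zero
  rcases Nat.even_or_odd' d with ⟨k, hdk | hdk⟩
  · -- even dimension
    obtain ⟨ε₁, -, hc₁⟩ := h27_sfo_count_even h2K d k hdk _ hQ₁
    obtain ⟨ε₂, -, hc₂⟩ := h27_sfo_count_even h2K d k hdk _ hQ₂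
    have hN₁ : ∀ z : QuadraticAlgebra F δ 0, z ≠ 0 →
        sfoCount (fun k : Fin d → QuadraticAlgebra F δ 0 => qk₁ (Φ₁ k)) z =
          sfoCount (fun k : Fin d → QuadraticAlgebra F δ 0 => qk₁ (Φ₁ k)) 1 := by
      intro z hz
      have := (hc₁ z hz).trans (hc₁ 1 hone).symm
      exact_mod_cast this
    have hN₂ : ∀ z : QuadraticAlgebra F δ 0, z ≠ 0 →
        sfoCount (fun k : Fin d → QuadraticAlgebra F δ 0 => qk₂ (Φ₂ k)) z =
          sfoCount (fun k : Fin d → QuadraticAlgebra F δ 0 => qk₂ (Φ₂ k)) 1 := by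
      intro z hz
      have := (hc₂ z hz).trans (hc₂ 1 hone).symm
      exact_mod_cast this
    have e₁ := qfc_count Q δ d Φ₁ qk₁ hre₁ _ hN₁
    have e₂ := qfc_count Q δ d Φ₂ qk₂ hre₂ _ hN₂
    exact Nat.eq_of_mul_eq_mul_left Fintype.card_pos (e₁.symm.trans e₂)
  · -- odd dimension
    obtain ⟨E₁, -, hs₁, hn₁⟩ := sfo_count_odd h2K d k hdk _ hQ₁
    obtain ⟨E₂, -, hs₂, hn₂⟩ := sfo_count_odd h2K d k hdk _ hQ₂
    have fib₁ := h62_qfu_fib Q δ d Φ₁ qk₁ hre₁
    have fib₂ := h62_qfu_fib Q δ d Φ₂ qk₂ hre₂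
    set W : ℤ := (Fintype.card (QuadraticAlgebra F δ 0) : ℤ) ^ k with hW
    have hW0 : W ≠ 0 := by
      rw [hW]
      exact pow_ne_zero _ (by exact_mod_cast Fintype.card_ne_zero)
    let χ : F → ℤ := fun b => if IsSquare (⟨1, b⟩ : QuadraticAlgebra F δ 0) then 1 else -1
    have hz : ∀ b : F, (⟨1, b⟩ : QuadraticAlgebra F δ 0) ≠ 0 := by
      intro b h0
      have := congrArg QuadraticAlgebra.re h0
      simp at this
    have hterm : ∀ (E : ℤ) (Qi : (Fin d → QuadraticAlgebra F δ 0) → QuadraticAlgebra F δ 0),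
        (∀ c : QuadraticAlgebra F δ 0, c ≠ 0 → IsSquare c → (sfoCount Qi c : ℤ) = W * (W + E)) →
        (∀ c : QuadraticAlgebra F δ 0, c ≠ 0 → ¬ IsSquare c → (sfoCount Qi c : ℤ) = W * (W - E)) →
        ((∑ b : F, sfoCount Qi (⟨1, b⟩ : QuadraticAlgebra F δ 0) : ℕ) : ℤ) =
          (Fintype.card F : ℤ) * (W * W) + W * E * ∑ b : F, χ b := by
      intro E Qi hs hn
      rw [Nat.cast_sum]
      have : ∀ b : F, (sfoCount Qi (⟨1, b⟩ : QuadraticAlgebra F δ 0) : ℤ) = W * W + W * E * χ b := by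
        intro b
        by_cases hsq : IsSquare (⟨1, b⟩ : QuadraticAlgebra F δ 0)
        · rw [hs _ (hz b) hsq]
          simp only [χ, if_pos hsq]
          ring
        · rw [hn _ (hz b) hsq]
          simp only [χ, if_neg hsq]
          ring
      rw [Finset.sum_congr rfl (fun b _ => this b), Finset.sum_add_distrib, Finset.mul_sum,
        Finset.sum_const, Finset.card_univ, nsmul_eq_mul]
    have hX : (∑ b : F, χ b) ≠ 0 := by
      intro hX0
      have hcast : ((∑ b : F, χ b : ℤ) : ZMod 2) = 1 := by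
        rw [Int.cast_sum]
        have : ∀ b : F, ((χ b : ℤ) : ZMod 2) = 1 := by
          intro b
          by_cases hsq : IsSquare (⟨1, b⟩ : QuadraticAlgebra F δ 0)
          · simp [χ, if_pos hsq]
          · simp only [χ, if_neg hsq]
            decide
        rw [Finset.sum_congr rfl (fun b _ => this b)]
        simp only [Finset.sum_const, Finset.card_univ, nsmul_eq_mul, mul_one]
        exact ZMod.natCast_eq_one_iff_odd.mpr hodd
      rw [hX0] at hcast
      revert hcast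
      decide
    have h1 := hterm E₁ _ hs₁ hn₁
    have h2 := hterm E₂ _ hs₂ hn₂
    rw [← fib₁] at h1
    rw [← fib₂] at h2
    have hE : E₁ = E₂ := by
      have h3 : W * E₁ * ∑ b : F, χ b = W * E₂ * ∑ b : F, χ b := by
        have := h1.symm.trans h2
        linarith
      have h4 := mul_right_cancel₀ hX h3
      exact mul_left_cancel₀ hW0 h4
    have r1 := hs₁ 1 hone IsSquare.one
    have r2 := hs₂ 1 hone IsSquare.one
    rw [hE] at r1
    exact_mod_cast r1.trans r2.symm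

end Cfsg.Agent.Lib.helper2
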