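import Mathlib
import Cfsg.Agent.Lib.helper62.HupPComp
import Cfsg.Agent.Lib.helper61.S4025P1
import Cfsg.Agent.Lib.helper17.S4025P2
import Cfsg.Agent.Lib.helper43.S4025P3

set_option autoImplicit false

/-!
# Solvable linear groups transitive on the subspaces of each dimension

`linear_main`: a solvable group acting faithfully on `V = F_p^n`, `n ≥ 3`, transitively on the
subspaces of each dimension is semilinear, and `n = 3` or `(n, p) = (5, 2)`.
-/

namespace Cfsg.Agent.Lib.helper62.S4025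

open Cfsg.Agent.Lib.helper62.Hup

variable {p : ℕ} [Fact p.Prime] {V : Type*} [AddCommGroup V] [Module (ZMod p) V] [Finite V]

theorem mem_map_equiv (h : V ≃ₗ[ZMod p] V) (W : Submodule (ZMod p) V) (x : V) :
    x ∈ W.map (h : V →ₗ[ZMod p] V) ↔ ∃ y ∈ W, h y = x := by
  rw [Submodule.mem_map]
  rfl

/-- Orbit counting for a group acting transitively on the planes. -/
theorem planes_mul_dvd {H : Type*} [Group H] [Finite H] (ρ : H →* (V ≃ₗ[ZMod p] V))
    (htr : ∀ W W' : Submodule (ZMod p) V, Module.finrank (ZMod p) W = 2 →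
      Module.finrank (ZMod p) W' = 2 → ∃ h : H, W.map (ρ h : V →ₗ[ZMod p] V) = W')
    (W₀ : Submodule (ZMod p) V) (hW₀ : Module.finrank (ZMod p) W₀ = 2)
    (Z : Subgroup H) (hZ : ∀ z ∈ Z, W₀.map (ρ z : V →ₗ[ZMod p] V) = W₀) :
    Nat.card {W : Submodule (ZMod p) V // Module.finrank (ZMod p) W = 2} * Nat.card Z ∣
      Nat.card H := by
  classical
  have hmul : ∀ (x y : H) (W : Submodule (ZMod p) V),
      W.map (ρ (x * y) : V →ₗ[ZMod p] V) =
        (W.map (ρ y : V →ₗ[ZMod p] V)).map (ρ x : V →ₗ[ZMod p] V) := by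
    intro x y W
    ext v
    simp only [mem_map_equiv]
    constructor
    · rintro ⟨w, hw, rfl⟩
      exact ⟨ρ y w, ⟨w, hw, rfl⟩, by rw [map_mul]; rfl⟩
    · rintro ⟨u, ⟨w, hw, rfl⟩, rfl⟩
      exact ⟨w, hw, by rw [map_mul]; rfl⟩
  have hone : ∀ W : Submodule (ZMod p) V, W.map (ρ 1 : V →ₗ[ZMod p] V) = W := by
    intro W
    ext v
    simp only [mem_map_equiv]
    constructor
    · rintro ⟨w, hw, rfl⟩
      rw [map_one]
      exact hw
    · intro hv
      exact ⟨v, hv, by rw [map_one]; rfl⟩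
  let S : Subgroup H :=
    { carrier := {h | W₀.map (ρ h : V →ₗ[ZMod p] V) = W₀}
      one_mem' := hone W₀
      mul_mem' := by
        intro a b ha hb
        show W₀.map (ρ (a * b) : V →ₗ[ZMod p] V) = W₀
        rw [hmul, show W₀.map (ρ b : V →ₗ[ZMod p] V) = W₀ from hb]
        exact ha
      inv_mem' := by
        intro a ha
        show W₀.map (ρ a⁻¹ : V →ₗ[ZMod p] V) = W₀
        have h1 : W₀.map (ρ a : V →ₗ[ZMod p] V) = W₀ := ha
        have h2 := hmul a⁻¹ a W₀
        rw [inv_mul_cancel, hone, h1] at h2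
        exact h2.symm }
  have hmemS : ∀ h : H, h ∈ S ↔ W₀.map (ρ h : V →ₗ[ZMod p] V) = W₀ := fun h => Iff.rfl
  let φ : H → {W : Submodule (ZMod p) V // Module.finrank (ZMod p) W = 2} := fun h =>
    ⟨W₀.map (ρ h : V →ₗ[ZMod p] V), by rw [LinearEquiv.finrank_map_eq]; exact hW₀⟩
  have hφ : ∀ x y : H, φ x = φ y ↔ x⁻¹ * y ∈ S := by
    intro x y
    rw [hmemS, hmul]
    constructor
    · intro h
      have h1 : W₀.map (ρ y : V →ₗ[ZMod p] V) = W₀.map (ρ x : V →ₗ[ZMod p] V) :=
        (congrArg Subtype.val h).symm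
      rw [h1, ← hmul, inv_mul_cancel, hone]
    · intro h
      apply Subtype.ext
      show W₀.map (ρ x : V →ₗ[ZMod p] V) = W₀.map (ρ y : V →ₗ[ZMod p] V)
      have h2 : ((W₀.map (ρ y : V →ₗ[ZMod p] V)).map (ρ x⁻¹ : V →ₗ[ZMod p] V)).map
          (ρ x : V →ₗ[ZMod p] V) = W₀.map (ρ x : V →ₗ[ZMod p] V) := by rw [h]
      rw [← hmul, ← hmul, mul_inv_cancel, one_mul] at h2
      exact h2.symm
  let ψ : H ⧸ S → {W : Submodule (ZMod p) V // Module.finrank (ZMod p) W = 2} :=
    Quotient.lift φ (by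
      intro x y hxy
      exact (hφ x y).mpr (QuotientGroup.leftRel_apply.mp hxy))
  have hψ : Function.Bijective ψ := by
    constructor
    · intro x y
      induction x using QuotientGroup.induction_on with
      | H x =>
        induction y using QuotientGroup.induction_on with
        | H y =>
          intro h
          exact QuotientGroup.eq.mpr ((hφ x y).mp h)
    · rintro ⟨W, hW⟩
      obtain ⟨g, hg⟩ := htr W₀ W hW₀ hW
      exact ⟨QuotientGroup.mk g, Subtype.ext hg⟩
  have h1 : Nat.card {W : Submodule (ZMod p) V // Module.finrank (ZMod p) W = 2} = S.index := by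
    rw [← Nat.card_congr (Equiv.ofBijective ψ hψ)]
    rfl
  have hZS : Z ≤ S := fun z hz => hZ z hz
  have h2 : Nat.card Z ∣ Nat.card S := Subgroup.card_dvd_of_le hZS
  rw [h1, ← Subgroup.index_mul_card S]
  exact Nat.mul_dvd_mul_left _ h2


theorem map_one_equiv {H : Type*} [Group H] (ρ : H →* (V ≃ₗ[ZMod p] V))
    (W : Submodule (ZMod p) V) : W.map (ρ 1 : V →ₗ[ZMod p] V) = W := by
  ext v
  simp only [mem_map_equiv]
  constructor
  · rintro ⟨w, hw, rfl⟩
    rw [map_one]
    exact hw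
  · intro hv
    exact ⟨v, hv, by rw [map_one]; rfl⟩

/-- A solvable linear group on `F_p^n`, `n ≥ 3`, transitive on the subspaces of each dimension:
it is semilinear, and `n = 3` or `(n, p) = (5, 2)`. -/
theorem linear_main {A : Type*} [Group A] [Finite A] (hsol : Group.IsSolvable A)
    (ρ : A →* (V ≃ₗ[ZMod p] V)) (hρ : Function.Injective ρ)
    (hn : 3 ≤ Module.finrank (ZMod p) V)
    (htr : ∀ W W' : Submodule (ZMod p) V,
      Module.finrank (ZMod p) W = Module.finrank (ZMod p) W' →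
      ∃ g : A, W.map (ρ g : V →ₗ[ZMod p] V) = W') :
    (Module.finrank (ZMod p) V = 3 ∨ (Module.finrank (ZMod p) V = 5 ∧ p = 2)) ∧
    ∃ (F : Type) (_ : Field F) (_ : Fintype F) (e : V ≃+ F),
      (∀ g : A, ∃ (a : F) (σ : F ≃+* F), ∀ v : V, e (ρ g v) = a * σ (e v)) ∧
      (p = 2 → Module.finrank (ZMod p) V = 5 → Nat.card A = 155) ∧
      (p = 2 → Module.finrank (ZMod p) V = 3 →
        (Nat.card A = 21 ∨
          (Nat.card A = 7 ∧ ∀ g : A, ∃ a : F, ∀ v : V, e (ρ g v) = a * e v))) := by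
  classical
  have hpp : p.Prime := Fact.out
  have hfin : Module.Finite (ZMod p) V := Module.Finite.of_finite
  haveI : Nontrivial V := Module.nontrivial_of_finrank_pos (R := ZMod p) (by omega)
  -- scalars
  let scal : (ZMod p)ˣ →* (V ≃ₗ[ZMod p] V) :=
    (LinearMap.GeneralLinearGroup.generalLinearEquiv (ZMod p) V).toMonoidHom.comp
      (Units.map (algebraMap (ZMod p) (Module.End (ZMod p) V)).toMonoidHom)
  have hscal : ∀ (c : (ZMod p)ˣ) (v : V), scal c v = (c : ZMod p) • v := fun c v => rfl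
  have hcomm : ∀ (g : A) (c : (ZMod p)ˣ), Commute (ρ g) (scal c) := by
    intro g c
    apply LinearEquiv.ext
    intro v
    show ρ g (scal c v) = scal c (ρ g v)
    rw [hscal, hscal, map_smul]
  let Φ : A × (ZMod p)ˣ →* (V ≃ₗ[ZMod p] V) := ρ.noncommCoprod scal hcomm
  have hΦ : ∀ (g : A) (c : (ZMod p)ˣ) (v : V), Φ (g, c) v = ρ g ((c : ZMod p) • v) :=
    fun g c v => rfl
  have hfinE : Finite (V ≃ₗ[ZMod p] V) :=
    Finite.of_injective (fun e : V ≃ₗ[ZMod p] V => (e : V → V)) DFunLike.coe_injective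
  let Hs : Subgroup (V ≃ₗ[ZMod p] V) := Φ.range
  have hsolHs : Group.IsSolvable Hs :=
    Group.isSolvable_of_surjective (f := Φ.rangeRestrict) Φ.rangeRestrict_surjective
  have hmemHs : ∀ (g : A) (c : (ZMod p)ˣ), Φ (g, c) ∈ Hs := fun g c => ⟨(g, c), rfl⟩
  have hΦ1 : ∀ g : A, Φ (g, 1) = ρ g := by
    intro g
    apply LinearEquiv.ext
    intro v
    rw [hΦ]
    simp
  -- transitivity of `Hs` on vectors
  have htransHs : ∀ v w : V, v ≠ 0 → w ≠ 0 → ∃ h : Hs, Hs.subtype h v = w := by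
    intro v w hv hw
    have h1 : Module.finrank (ZMod p) (Submodule.span (ZMod p) {v}) =
        Module.finrank (ZMod p) (Submodule.span (ZMod p) {w}) := by
      rw [finrank_span_singleton hv, finrank_span_singleton hw]
    obtain ⟨g, hg⟩ := htr _ _ h1
    have h2 : ρ g v ∈ Submodule.span (ZMod p) {w} := by
      rw [← hg, mem_map_equiv]
      exact ⟨v, Submodule.mem_span_singleton_self v, rfl⟩
    obtain ⟨c, hc⟩ := Submodule.mem_span_singleton.mp h2
    have hc0 : c ≠ 0 := by
      rintro rfl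
      rw [zero_smul] at hc
      exact hv ((ρ g).injective (hc.symm.trans (map_zero _).symm))
    refine ⟨⟨Φ (g, (Units.mk0 c hc0)⁻¹), hmemHs _ _⟩, ?_⟩
    show Φ (g, (Units.mk0 c hc0)⁻¹) v = w
    rw [hΦ, map_smul, ← hc, smul_smul]
    have h3 : (((Units.mk0 c hc0)⁻¹ : (ZMod p)ˣ) : ZMod p) * c = 1 := by
      have := Units.inv_mul (Units.mk0 c hc0)
      simpa using this
    rw [h3, one_smul]
  -- the number of planes
  have hP1 := Cfsg.Agent.Lib.helper61.S4025.card_planes_mul (p := p) (V := V)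
  obtain ⟨N₂, hN₂⟩ : ∃ N₂ : ℕ,
      N₂ = Nat.card {W : Submodule (ZMod p) V // Module.finrank (ZMod p) W = 2} := ⟨_, rfl⟩
  rw [← hN₂] at hP1
  have hp8 : 8 ≤ p ^ 3 := by
    calc 8 = 2 ^ 3 := by norm_num
      _ ≤ p ^ 3 := Nat.pow_le_pow_left hpp.two_le 3
  have hp3n : p ^ 3 ≤ p ^ Module.finrank (ZMod p) V := Nat.pow_le_pow_right hpp.pos hn
  have hplt : p < p ^ 3 := by
    calc p = p ^ 1 := (pow_one p).symm
      _ < p ^ 3 := Nat.pow_lt_pow_right hpp.one_lt (by norm_num)
  have hN2pos : 0 < N₂ := by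
    by_contra h0
    have h0' : N₂ = 0 := by omega
    rw [h0', zero_mul] at hP1
    have : 0 < (p ^ Module.finrank (ZMod p) V - 1) * (p ^ Module.finrank (ZMod p) V - p) := by
      apply Nat.mul_pos <;> omega
    omega
  obtain ⟨⟨W₀, hW₀⟩⟩ :
      Nonempty {W : Submodule (ZMod p) V // Module.finrank (ZMod p) W = 2} := by
    rw [hN₂] at hN2pos
    exact (Nat.card_pos_iff.mp hN2pos).1
  have htr2 : ∀ W W' : Submodule (ZMod p) V, Module.finrank (ZMod p) W = 2 →
      Module.finrank (ZMod p) W' = 2 → ∃ g : A, W.map (ρ g : V →ₗ[ZMod p] V) = W' :=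
    fun W W' h h' => htr W W' (h.trans h'.symm)
  have hA2 : N₂ ∣ Nat.card A := by
    have h1 := planes_mul_dvd ρ htr2 W₀ hW₀ ⊥ (by
      intro z hz
      rw [Subgroup.mem_bot] at hz
      rw [hz]
      exact map_one_equiv ρ W₀)
    rw [← hN₂, Subgroup.card_bot, mul_one] at h1
    exact h1
  have htr2Hs : ∀ W W' : Submodule (ZMod p) V, Module.finrank (ZMod p) W = 2 →
      Module.finrank (ZMod p) W' = 2 →
      ∃ h : Hs, W.map (Hs.subtype h : V →ₗ[ZMod p] V) = W' := by
    intro W W' h h'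
    obtain ⟨g, hg⟩ := htr2 W W' h h'
    refine ⟨⟨Φ (g, 1), hmemHs g 1⟩, ?_⟩
    show W.map (Φ (g, 1) : V →ₗ[ZMod p] V) = W'
    rw [hΦ1]
    exact hg
  -- the scalars inside `Hs`
  have hscalHs : scal.range ≤ Hs := by
    rintro _ ⟨c, rfl⟩
    refine ⟨(1, c), ?_⟩
    apply LinearEquiv.ext
    intro v
    rw [hΦ, map_one, hscal]
    rfl
  have hscalinj : Function.Injective scal := by
    intro c d hcd
    obtain ⟨v, hv⟩ := exists_ne (0 : V)
    have h1 : (c : ZMod p) • v = (d : ZMod p) • v := by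
      rw [← hscal, ← hscal, hcd]
    have h2 : ((c : ZMod p) - (d : ZMod p)) • v = 0 := by rw [sub_smul, h1, sub_self]
    rcases smul_eq_zero.mp h2 with h3 | h3
    · exact Units.ext (sub_eq_zero.mp h3)
    · exact absurd h3 hv
  have hcardZ : Nat.card (scal.range.subgroupOf Hs) = p - 1 := by
    rw [Nat.card_congr (Subgroup.subgroupOfEquivOfLe hscalHs).toEquiv,
      ← Nat.card_congr (MonoidHom.ofInjective hscalinj).toEquiv, Nat.card_eq_fintype_card,
      ZMod.card_units]
  have hd2 : N₂ * (p - 1) ∣ Nat.card Hs := by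
    have h1 := planes_mul_dvd Hs.subtype htr2Hs W₀ hW₀ (scal.range.subgroupOf Hs) (by
      intro z hz
      obtain ⟨c, hc⟩ := Subgroup.mem_subgroupOf.mp hz
      ext v
      rw [mem_map_equiv]
      constructor
      · rintro ⟨w, hw, rfl⟩
        show (z : V ≃ₗ[ZMod p] V) w ∈ W₀
        rw [← hc, hscal]
        exact W₀.smul_mem _ hw
      · intro hv
        refine ⟨((c⁻¹ : (ZMod p)ˣ) : ZMod p) • v, W₀.smul_mem _ hv, ?_⟩
        show (z : V ≃ₗ[ZMod p] V) (((c⁻¹ : (ZMod p)ˣ) : ZMod p) • v) = v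
        rw [← hc, hscal, smul_smul, Units.mul_inv, one_smul])
    rw [← hN₂, hcardZ] at h1
    exact h1
  by_cases hI : ∀ B : Subgroup Hs, B.Normal → IsCyclic B → ∃ W : Submodule (ZMod p) V,
      W ≠ ⊥ ∧ W ≠ ⊤ ∧ ∀ a ∈ B, ∀ v ∈ W, Hs.subtype a v ∈ W
  · -- the exceptional case: `|V| = 81`, impossible since `13` divides the number of planes
    exfalso
    obtain ⟨m, M, N, hNn, hMN, hm, hnm, hNcard, hMdvd, hM2, hidx, hp2, hV⟩ :=
      exceptional_structure hsolHs Hs.subtype Hs.subtype_injective htransHs hI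
    have hVcard : Nat.card V = p ^ 2 ^ m := by
      rw [Module.natCard_eq_pow_finrank (K := ZMod p) (V := V), Nat.card_zmod, hnm]
    have h2m : (2 : ℕ) ^ m ≠ 0 := by positivity
    have hm2 : 2 ≤ m := by
      by_contra hcon
      have hm1 : m = 1 := by omega
      rw [hnm, hm1] at hn
      norm_num at hn
    have hcase : m = 2 ∧ p = 3 := by
      rw [hVcard] at hV
      have h2pow : ∀ k : ℕ, 2 ^ m = 2 ^ k → m = k := fun k h =>
        Nat.pow_right_injective (le_refl 2) h
      rcases hV with h | h | h | h | h | h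
      · obtain ⟨-, e2⟩ := prime_pow_eq hpp Nat.prime_three h2m (b := 2) (by rw [h]; norm_num)
        have := h2pow 1 (by rw [e2]; norm_num)
        omega
      · obtain ⟨-, e2⟩ := prime_pow_eq hpp Nat.prime_five h2m (b := 2) (by rw [h]; norm_num)
        have := h2pow 1 (by rw [e2]; norm_num)
        omega
      · obtain ⟨-, e2⟩ := prime_pow_eq hpp (by norm_num : Nat.Prime 7) h2m (b := 2)
          (by rw [h]; norm_num)
        have := h2pow 1 (by rw [e2]; norm_num)
        omega
      · obtain ⟨-, e2⟩ := prime_pow_eq hpp (by norm_num : Nat.Prime 11) h2m (b := 2)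
          (by rw [h]; norm_num)
        have := h2pow 1 (by rw [e2]; norm_num)
        omega
      · obtain ⟨-, e2⟩ := prime_pow_eq hpp (by norm_num : Nat.Prime 23) h2m (b := 2)
          (by rw [h]; norm_num)
        have := h2pow 1 (by rw [e2]; norm_num)
        omega
      · obtain ⟨e1, e2⟩ := prime_pow_eq hpp Nat.prime_three h2m (b := 4) (by rw [h]; norm_num)
        exact ⟨h2pow 2 (by rw [e2]; norm_num), e1⟩
    obtain ⟨rfl, hp3⟩ := hcase
    rw [hnm, hp3] at hP1
    have hN130 : N₂ = 130 := by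
      norm_num at hP1
      omega
    have h13 : 13 ∣ Nat.card Hs := by
      have h1 : N₂ ∣ Nat.card Hs := (Dvd.intro _ rfl).trans hd2
      rw [hN130] at h1
      exact (by norm_num : (13 : ℕ) ∣ 130).trans h1
    have hHs : Nat.card Hs = Nat.card M * 2 ^ (2 * 2) * N.index := by
      rw [← hNcard, Subgroup.card_mul_index]
    have hMle : Nat.card M ≤ 2 := by
      have h1 : Nat.card M ∣ 2 := by
        have h := hMdvd
        have h' : p - 1 = 2 := by omega
        rwa [h'] at h
      exact Nat.le_of_dvd (by norm_num) h1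
    have hGL : Nat.card (GL (Fin (2 * 2)) (ZMod 2)) = 20160 := by
      rw [Cfsg.Agent.Lib.helper25.Hup.card_GL_two]
      decide
    rw [hGL] at hidx
    rw [hHs] at h13
    have h13p : Nat.Prime 13 := by norm_num
    rcases (Nat.Prime.dvd_mul h13p).mp h13 with h | h
    · rcases (Nat.Prime.dvd_mul h13p).mp h with h | h
      · have := Nat.le_of_dvd (by omega) h
        omega
      · norm_num at h
    · have := h.trans hidx
      norm_num at this
  · -- the semilinear case
    have hex : ∃ B : Subgroup Hs, B.Normal ∧ IsCyclic B ∧ ¬ ∃ W : Submodule (ZMod p) V,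
        W ≠ ⊥ ∧ W ≠ ⊤ ∧ ∀ a ∈ B, ∀ v ∈ W, Hs.subtype a v ∈ W := by
      by_contra hcon
      apply hI
      intro B hBn hBc
      by_contra hW
      exact hcon ⟨B, hBn, hBc, hW⟩
    obtain ⟨B, hBn, hBc, hB⟩ := hex
    obtain ⟨g, hg⟩ := hBc.exists_generator
    have hpow : ∀ x : Hs, x ∈ B → ∃ k : ℕ, x = (g : Hs) ^ k := by
      intro x hx
      have h1 : (⟨x, hx⟩ : B) ∈ Subgroup.zpowers g := hg _
      rw [← mem_powers_iff_mem_zpowers] at h1
      obtain ⟨k, hk⟩ := h1
      refine ⟨k, ?_⟩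
      have h2 := congrArg (Subtype.val) hk
      simpa using h2.symm
    have hirr : ∀ W : Submodule (ZMod p) V,
        (∀ v ∈ W, Hs.subtype (g : Hs) v ∈ W) → W = ⊥ ∨ W = ⊤ := by
      intro W hW
      by_contra hcon
      push Not at hcon
      apply hB
      refine ⟨W, hcon.1, hcon.2, ?_⟩
      intro a ha v hv
      obtain ⟨k, rfl⟩ := hpow a ha
      induction k generalizing v with
      | zero => simpa using hv
      | succ n ih =>
        have h1 : Hs.subtype ((g : Hs) ^ (n + 1)) v =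
            Hs.subtype (g : Hs) (Hs.subtype ((g : Hs) ^ n) v) := by
          rw [pow_succ', map_mul]
          rfl
        rw [h1]
        exact hW _ (ih v hv (B.pow_mem g.2 n))
    obtain ⟨F, iF, iFt, e, he1, -⟩ :=
      Cfsg.Agent.Lib.helper62.SemiLin.exists_field (Hs.subtype (g : Hs)) hirr
    have hslHs : ∀ h : Hs, ∃ (a : F) (σ : F ≃+* F), ∀ v : V,
        e (Hs.subtype h v) = a * σ (e v) := by
      intro h
      apply he1
      obtain ⟨j, hj⟩ := hpow _ (hBn.conj_mem _ g.2 h)
      refine ⟨j, ?_⟩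
      rw [← map_inv, ← map_mul, ← map_mul, hj, map_pow]
    obtain ⟨hd1, -⟩ :=
      Cfsg.Agent.Lib.helper43.S4025.card_dvd_of_semilinear Hs.subtype Hs.subtype_injective F e hslHs
    have hcase := Cfsg.Agent.Lib.helper17.S4025.arith_planes hpp hn hP1 (hd2.trans hd1)
    have hslA : ∀ g : A, ∃ (a : F) (σ : F ≃+* F), ∀ v : V, e (ρ g v) = a * σ (e v) := by
      intro g
      obtain ⟨a, σ, h⟩ := hslHs ⟨Φ (g, 1), hmemHs g 1⟩
      refine ⟨a, σ, fun v => ?_⟩
      rw [← h v]
      show e (ρ g v) = e (Φ (g, 1) v)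
      rw [hΦ1]
    obtain ⟨hA1, hA3⟩ := Cfsg.Agent.Lib.helper43.S4025.card_dvd_of_semilinear ρ hρ F e hslA
    refine ⟨hcase, F, iF, iFt, e, hslA, ?_, ?_⟩
    · intro hp2 h5
      rw [h5, hp2] at hP1 hA1
      have hN : N₂ = 155 := by
        norm_num at hP1
        omega
      rw [hN] at hA2
      norm_num at hA1
      exact Nat.dvd_antisymm hA1 hA2
    · intro hp2 h3
      have hA3' := hA3
      rw [h3, hp2] at hP1 hA1
      rw [h3] at hA3'
      have hN : N₂ = 7 := by
        norm_num at hP1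
        omega
      rw [hN] at hA2
      norm_num at hA1
      obtain ⟨k, hk⟩ := hA2
      rw [hk] at hA1
      have hk3 : k ∣ 3 := by
        have : 7 * k ∣ 7 * 3 := by simpa using hA1
        exact (Nat.mul_dvd_mul_iff_left (by norm_num)).mp this
      rcases (Nat.dvd_prime Nat.prime_three).mp hk3 with rfl | rfl
      · right
        refine ⟨by rw [hk], ?_⟩
        apply hA3'
        rw [hk]
        norm_num
      · left
        rw [hk]

end Cfsg.Agent.Lib.helper62.S4025
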