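import Mathlib
import Cfsg.Prelude.Def_Perm
import Cfsg.Agent.Lib.helper62.ElemAbGL
import Cfsg.Agent.Lib.helper62.S4025Lin
import Cfsg.Agent.Lib.helper83.S4025P7
import Cfsg.Agent.Lib.helper80.S4025P8

set_option autoImplicit false

/-!
# Assembly for S4025

A finite group `X` with a normal elementary abelian Sylow `p`-subgroup `P` of order `p ^ n`, `n ≥ 3`,
acting transitively on the subgroups of `P` of each order, with `X ⧸ K` solvable, where `K` is a
normal `p'`-subgroup with `C_X(P) = P K`: then `X ⧸ K` is a semi-affine group.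
-/

namespace Cfsg.Agent.Lib.helper62.S4025

open Cfsg.Agent.Lib.helper62

/-- Transport of a bijective-by-counting embedding. -/
theorem nonempty_mulEquiv_of_injective_of_card_le {A B : Type*} [Group A] [Group B] [Finite B]
    (f : A →* B) (hf : Function.Injective f) (hc : Nat.card B ≤ Nat.card A) :
    Nonempty (A ≃* B) :=
  ⟨MulEquiv.ofBijective f (hf.bijective_of_nat_card_le hc)⟩

open scoped IsMulCommutative in
theorem asm_aux {X : Type*} [Group X] [Finite X] {p : ℕ} [Fact p.Prime] (P : Subgroup X)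
    [hPn : P.Normal] [IsMulCommutative P] [Module (ZMod p) (Additive P)]
    (n : ℕ) (hn : 3 ≤ n) (hcard : Nat.card P = p ^ n) (hidx : ¬ p ∣ P.index)
    (K : Subgroup X) [K.Normal] (hKc : (Nat.card K).Coprime p)
    (hKP : Subgroup.centralizer (P : Set X) = P ⊔ K) (hK : P ⊓ K = ⊥)
    (hsolv : Group.IsSolvable (X ⧸ K))
    (htr : ∀ A B : Subgroup X, A ≤ P → B ≤ P → Nat.card A = Nat.card B →
      ∃ x : X, B = A.map (MulAut.conj x).toMonoidHom) :
    (n = 3 ∧ (∃ f : X ⧸ K →* Cfsg.semiaffineGroup (GaloisField p 3), Function.Injective f) ∧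
      (p = 2 → Nonempty (X ⧸ K ≃* Cfsg.semiaffineGroup (GaloisField 2 3)) ∨
               Nonempty (X ⧸ K ≃* Cfsg.affineGroup (GaloisField 2 3)))) ∨
    (n = 5 ∧ p = 2 ∧ Nonempty (X ⧸ K ≃* Cfsg.semiaffineGroup (GaloisField 2 5))) := by
  classical
  have hpp : p.Prime := Fact.out
  have hPp : IsPGroup p P := IsPGroup.of_card hcard
  have hfinV : Finite (Additive P) := inferInstanceAs (Finite P)
  have hfin : Module.Finite (ZMod p) (Additive P) := Module.Finite.of_finite
  let E : X →* Module.End (ZMod p) (Additive P) := (autToEnd p P).comp MulAut.conjNormal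
  let ρ₀ : X →* (Additive P ≃ₗ[ZMod p] Additive P) :=
    (LinearMap.GeneralLinearGroup.generalLinearEquiv (ZMod p) (Additive P)).toMonoidHom.comp
      E.toHomUnits
  have hρ₀ : ∀ (g : X) (y : P), ((ρ₀ g (Additive.ofMul y)).toMul : X) = g * y * g⁻¹ :=
    fun g y => rfl
  have hker : ρ₀.ker = Subgroup.centralizer (P : Set X) := by
    ext g
    rw [MonoidHom.mem_ker, Subgroup.mem_centralizer_iff]
    constructor
    · intro h y hy
      have h1 := hρ₀ g ⟨y, hy⟩
      rw [h] at h1
      have h2 : y = g * y * g⁻¹ := h1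
      calc y * g = g * y * g⁻¹ * g := by rw [← h2]
        _ = g * y := by group
    · intro h
      apply LinearEquiv.ext
      intro v
      obtain ⟨y, rfl⟩ := Additive.ofMul.surjective v
      apply Additive.toMul.injective
      apply Subtype.ext
      rw [hρ₀]
      have h1 := h y y.2
      show g * y * g⁻¹ = y
      rw [← h1]
      group
  have hKker : K ≤ ρ₀.ker := by
    rw [hker, hKP]
    exact le_sup_right
  have hsolA : Group.IsSolvable (X ⧸ ρ₀.ker) :=
    Group.isSolvable_of_surjective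
      (f := QuotientGroup.lift K (QuotientGroup.mk' ρ₀.ker) (by
        intro k hk
        rw [MonoidHom.mem_ker]
        exact (QuotientGroup.eq_one_iff k).mpr (hKker hk))) (by
      intro q
      induction q using QuotientGroup.induction_on with
      | H x => exact ⟨QuotientGroup.mk x, rfl⟩)
  have hVcard : Nat.card (Additive P) = p ^ n := hcard
  have hfr : Module.finrank (ZMod p) (Additive P) = n := by
    have h := Module.natCard_eq_pow_finrank (K := ZMod p) (V := Additive P)
    rw [Nat.card_zmod, hVcard] at h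
    exact (Nat.pow_right_injective hpp.two_le h).symm
  -- subgroups of `P` and subspaces
  let toSub : Submodule (ZMod p) (Additive P) → Subgroup X := fun W =>
    { carrier := {x | ∃ h : x ∈ P, Additive.ofMul (⟨x, h⟩ : P) ∈ W}
      one_mem' := ⟨P.one_mem, W.zero_mem⟩
      mul_mem' := by
        rintro a b ⟨ha, ha'⟩ ⟨hb, hb'⟩
        exact ⟨P.mul_mem ha hb, W.add_mem ha' hb'⟩
      inv_mem' := by
        rintro a ⟨ha, ha'⟩
        exact ⟨P.inv_mem ha, W.neg_mem ha'⟩ }
  have hle : ∀ W, toSub W ≤ P := fun W x hx => hx.1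
  have hcardSub : ∀ W : Submodule (ZMod p) (Additive P), Nat.card (toSub W) = Nat.card W := by
    intro W
    refine Nat.card_congr ?_
    exact
      { toFun := fun x => ⟨Additive.ofMul (⟨x.1, x.2.1⟩ : P), x.2.2⟩
        invFun := fun w => ⟨((Additive.toMul w.1 : P) : X), ⟨(Additive.toMul w.1).2, w.2⟩⟩
        left_inv := fun x => rfl
        right_inv := fun w => rfl }
  have htrlin : ∀ W W' : Submodule (ZMod p) (Additive P),
      Module.finrank (ZMod p) W = Module.finrank (ZMod p) W' →
      ∃ g : X ⧸ ρ₀.ker,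
        W.map (QuotientGroup.kerLift ρ₀ g : Additive P →ₗ[ZMod p] Additive P) = W' := by
    intro W W' hWW
    have hc : Nat.card (toSub W) = Nat.card (toSub W') := by
      rw [hcardSub, hcardSub, Module.natCard_eq_pow_finrank (K := ZMod p) (V := W),
        Module.natCard_eq_pow_finrank (K := ZMod p) (V := W'), hWW]
    obtain ⟨x, hx⟩ := htr (toSub W) (toSub W') (hle W) (hle W') hc
    refine ⟨QuotientGroup.mk x, ?_⟩
    show W.map (ρ₀ x : Additive P →ₗ[ZMod p] Additive P) = W'
    ext v
    rw [mem_map_equiv]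
    constructor
    · rintro ⟨w, hw, rfl⟩
      have h1 : ((Additive.toMul (ρ₀ x w) : P) : X) ∈ toSub W' := by
        rw [hx, Subgroup.mem_map]
        exact ⟨((Additive.toMul w : P) : X), ⟨(Additive.toMul w).2, hw⟩, rfl⟩
      obtain ⟨h, h'⟩ := h1
      exact h'
    · intro hv
      have h1 : ((Additive.toMul v : P) : X) ∈ toSub W' := ⟨(Additive.toMul v).2, hv⟩
      rw [hx, Subgroup.mem_map] at h1
      obtain ⟨a, ⟨ha, ha'⟩, hav⟩ := h1
      refine ⟨Additive.ofMul (⟨a, ha⟩ : P), ha', ?_⟩
      apply Additive.toMul.injective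
      apply Subtype.ext
      exact hav
  obtain ⟨hcase, F, iF, iFt, e, hsl, h155, h3⟩ :=
    linear_main hsolA (QuotientGroup.kerLift ρ₀) (QuotientGroup.kerLift_injective ρ₀)
      (by rw [hfr]; exact hn) htrlin
  rw [hfr] at hcase h155 h3
  have hslX : ∀ x : X, ∃ (a : F) (σ : F ≃+* F), ∀ v : Additive P,
      e (ρ₀ x v) = a * σ (e v) := fun x => hsl (QuotientGroup.mk x)
  let e' : P ≃ F := (Additive.ofMul : P ≃ Additive P).trans e.toEquiv
  have he' : ∀ x y : P, e' (x * y) = e' x + e' y := fun x y =>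
    map_add e (Additive.ofMul x) (Additive.ofMul y)
  have hsl' : ∀ g : X, ∃ (a : F) (σ : F ≃+* F), ∀ y : P,
      e' ⟨g * y * g⁻¹, hPn.conj_mem y y.2 g⟩ = a * σ (e' y) := by
    intro g
    obtain ⟨a, σ, h⟩ := hslX g
    exact ⟨a, σ, fun y => h (Additive.ofMul y)⟩
  have hFcard : Fintype.card F = p ^ n := by
    rw [← Nat.card_eq_fintype_card, ← Nat.card_congr e', hcard]
  -- the order of `X ⧸ K`
  have hquot : Nat.card (X ⧸ K) = p ^ n * Nat.card (X ⧸ ρ₀.ker) := by
    have h1 := Subgroup.card_eq_card_quotient_mul_card_subgroup K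
    have h2 := Subgroup.card_eq_card_quotient_mul_card_subgroup ρ₀.ker
    have h4 : Nat.card (P ⊔ K : Subgroup X) = p ^ n * Nat.card K := by
      have h5 : K.relIndex (P ⊔ K) = Nat.card P := by
        rw [Subgroup.relIndex_sup_right, ← Subgroup.inf_relIndex_right, inf_comm, hK,
          Subgroup.relIndex_bot_left]
      have h6 := Subgroup.card_mul_index (K.subgroupOf (P ⊔ K))
      rw [Nat.card_congr (Subgroup.subgroupOfEquivOfLe (le_sup_right : K ≤ P ⊔ K)).toEquiv] at h6
      have h7 : (K.subgroupOf (P ⊔ K)).index = Nat.card P := h5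
      rw [h7, hcard] at h6
      rw [← h6, mul_comm]
    have h3' : Nat.card ρ₀.ker = p ^ n * Nat.card K := by
      rw [hker, hKP]
      exact h4
    rw [h3'] at h2
    have hKpos : 0 < Nat.card K := Nat.card_pos
    have h8 : Nat.card (X ⧸ K) * Nat.card K = p ^ n * Nat.card (X ⧸ ρ₀.ker) * Nat.card K := by
      rw [← h1, h2]
      ring
    exact Nat.eq_of_mul_eq_mul_right hKpos h8
  have hfinS : Finite (Cfsg.semiaffineGroup F) := inferInstance
  rcases hcase with hn3 | ⟨hn5, hp2⟩
  · left
    subst hn3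
    obtain ⟨f, hf⟩ := Cfsg.Agent.Lib.helper83.S4025.exists_semiaffine_embedding P hPp hidx K hKP hK hKc F e' he' hsl'
    refine ⟨rfl, ?_, ?_⟩
    · letI : Fintype (GaloisField p 3) := Fintype.ofFinite _
      have hG : Fintype.card (GaloisField p 3) = p ^ 3 := by
        rw [← Nat.card_eq_fintype_card, GaloisField.card p 3 (by norm_num)]
      obtain ⟨ψ⟩ := Cfsg.Agent.Lib.helper80.S4025.semiaffineGroup_congr
        (FiniteField.ringEquivOfCardEq (hFcard.trans hG.symm))
      exact ⟨ψ.toMonoidHom.comp f, ψ.injective.comp hf⟩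
    · intro hp2
      letI : Fintype (GaloisField 2 3) := Fintype.ofFinite _
      have hG : Fintype.card (GaloisField 2 3) = 2 ^ 3 := by
        rw [← Nat.card_eq_fintype_card, GaloisField.card 2 3 (by norm_num)]
      have hF8 : Fintype.card F = 2 ^ 3 := by rw [hFcard, hp2]
      have hring : F ≃+* GaloisField 2 3 := FiniteField.ringEquivOfCardEq (hF8.trans hG.symm)
      have hp8 : p ^ 3 = 8 := by rw [hp2]; norm_num
      have hq : Nat.card (X ⧸ K) = 8 * Nat.card (X ⧸ ρ₀.ker) := by rw [hquot, hp8]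
      rcases h3 hp2 rfl with h21 | ⟨h7, hmul⟩
      · left
        have hle : Nat.card (Cfsg.semiaffineGroup F) ≤ Nat.card (X ⧸ K) := by
          have h1 := Cfsg.Agent.Lib.helper80.S4025.card_semiaffineGroup_le F
          rw [Cfsg.Agent.Lib.helper80.S4025.card_ringAut_finite_field 2 3 F hF8, hF8] at h1
          rw [hq, h21]
          norm_num at h1 ⊢
          exact h1
        obtain ⟨φ⟩ := nonempty_mulEquiv_of_injective_of_card_le f hf hle
        obtain ⟨ψ⟩ := Cfsg.Agent.Lib.helper80.S4025.semiaffineGroup_congr hring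
        exact ⟨φ.trans ψ⟩
      · right
        have hmul' : ∀ g : X, ∃ a : F, ∀ y : P,
            e' ⟨g * y * g⁻¹, hPn.conj_mem y y.2 g⟩ = a * e' y := by
          intro g
          obtain ⟨a, h⟩ := hmul (QuotientGroup.mk g)
          exact ⟨a, fun y => h (Additive.ofMul y)⟩
        obtain ⟨f', hf'⟩ :=
          Cfsg.Agent.Lib.helper83.S4025.exists_affine_embedding P hPp hidx K hKP hK hKc F e' he' hmul'
        have hfinA : Finite (Cfsg.affineGroup F) := inferInstance
        have hle : Nat.card (Cfsg.affineGroup F) ≤ Nat.card (X ⧸ K) := by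
          have h1 := Cfsg.Agent.Lib.helper80.S4025.card_affineGroup_le F
          rw [hF8] at h1
          rw [hq, h7]
          norm_num at h1 ⊢
          exact h1
        obtain ⟨φ⟩ := nonempty_mulEquiv_of_injective_of_card_le f' hf' hle
        obtain ⟨ψ⟩ := Cfsg.Agent.Lib.helper80.S4025.affineGroup_congr hring
        exact ⟨φ.trans ψ⟩
  · right
    subst hn5
    obtain ⟨f, hf⟩ := Cfsg.Agent.Lib.helper83.S4025.exists_semiaffine_embedding P hPp hidx K hKP hK hKc F e' he' hsl'
    refine ⟨rfl, hp2, ?_⟩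
    letI : Fintype (GaloisField 2 5) := Fintype.ofFinite _
    have hG : Fintype.card (GaloisField 2 5) = 2 ^ 5 := by
      rw [← Nat.card_eq_fintype_card, GaloisField.card 2 5 (by norm_num)]
    have hF32 : Fintype.card F = 2 ^ 5 := by rw [hFcard, hp2]
    have hring : F ≃+* GaloisField 2 5 := FiniteField.ringEquivOfCardEq (hF32.trans hG.symm)
    have hp32 : p ^ 5 = 32 := by rw [hp2]; norm_num
    have hq : Nat.card (X ⧸ K) = 32 * Nat.card (X ⧸ ρ₀.ker) := by rw [hquot, hp32]
    have hle : Nat.card (Cfsg.semiaffineGroup F) ≤ Nat.card (X ⧸ K) := by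
      have h1 := Cfsg.Agent.Lib.helper80.S4025.card_semiaffineGroup_le F
      rw [Cfsg.Agent.Lib.helper80.S4025.card_ringAut_finite_field 2 5 F hF32, hF32] at h1
      rw [hq, h155 hp2 rfl]
      norm_num at h1 ⊢
      exact h1
    obtain ⟨φ⟩ := nonempty_mulEquiv_of_injective_of_card_le f hf hle
    obtain ⟨ψ⟩ := Cfsg.Agent.Lib.helper80.S4025.semiaffineGroup_congr hring
    exact ⟨φ.trans ψ⟩


open scoped IsMulCommutative in
/-- A finite group `X` with a normal elementary abelian Sylow `p`-subgroup `P` of order `p ^ n`,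
`n ≥ 3`, transitive on the subgroups of `P` of each order, `K` a normal `p'`-subgroup with
`C_X(P) = P K` and `X ⧸ K` solvable: `X ⧸ K` is semi-affine over `F_{p^3}`, or `(n, p) = (5, 2)`
and `X ⧸ K` is the full semi-affine group of `F_32`. -/
theorem asm {X : Type*} [Group X] [Finite X] {p : ℕ} [Fact p.Prime] (P : Subgroup X)
    [hPn : P.Normal] [hPc : IsMulCommutative P] (hexp : ∀ x ∈ P, x ^ p = 1)
    (n : ℕ) (hn : 3 ≤ n) (hcard : Nat.card P = p ^ n) (hidx : ¬ p ∣ P.index)
    (K : Subgroup X) [hKn : K.Normal] (hKc : (Nat.card K).Coprime p)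
    (hKP : Subgroup.centralizer (P : Set X) = P ⊔ K) (hK : P ⊓ K = ⊥)
    (hsolv : Group.IsSolvable (X ⧸ K))
    (htr : ∀ A B : Subgroup X, A ≤ P → B ≤ P → Nat.card A = Nat.card B →
      ∃ x : X, B = A.map (MulAut.conj x).toMonoidHom) :
    (n = 3 ∧ (∃ f : X ⧸ K →* Cfsg.semiaffineGroup (GaloisField p 3), Function.Injective f) ∧
      (p = 2 → Nonempty (X ⧸ K ≃* Cfsg.semiaffineGroup (GaloisField 2 3)) ∨
               Nonempty (X ⧸ K ≃* Cfsg.affineGroup (GaloisField 2 3)))) ∨
    (n = 5 ∧ p = 2 ∧ Nonempty (X ⧸ K ≃* Cfsg.semiaffineGroup (GaloisField 2 5))) :=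
  @asm_aux X _ _ p _ P hPn hPc
    (AddCommGroup.zmodModule (n := p)
      (fun x => congrArg Additive.ofMul (Subtype.ext (hexp x.toMul x.toMul.2))))
    n hn hcard hidx K hKn hKc hKP hK hsolv htr

end Cfsg.Agent.Lib.helper62.S4025
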