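import Mathlib
import Cfsg.Agent.Lib.helper3.PGroupNormal

/-!
# S6000, piece AELT2: the abstract group-theoretic core (helper62)

`G` a finite 2-group, `P` the predicate "central of order at most two modulo the centre".  If an element with `P`
commuting with all elements with `P` is central, and elements with `P` commute or "anticommute" with everything, then
every element has `P` (uniform counting argument, no case split).
-/

set_option autoImplicit false

namespace Cfsg.Agent.Lib.helper89.S60

open scoped commutatorElement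

/-- Abstract core of AELT2, with the counting identity `hcount` as a hypothesis. -/
theorem h62_hall_abs {G : Type*} [Group G] [Finite G] (hG : IsPGroup 2 G) (P : G → Prop)
    (hP_of : ∀ s : G, s ^ 2 ∈ Subgroup.center G → (∀ g : G, ⁅s, g⁆ ∈ Subgroup.center G) → P s)
    (hP_sq : ∀ s, P s → s ^ 2 ∈ Subgroup.center G)
    (hP_comm : ∀ s, P s → ∀ g, ⁅s, g⁆ ∈ Subgroup.center G)
    (H1 : ∀ t, P t → ∀ g h : G, ¬ Commute t g → ¬ Commute t h → Commute t (g⁻¹ * h))
    (H2 : ∀ g : G, ∀ s t, P s → P t → ¬ Commute s g → ¬ Commute t g → Commute (s⁻¹ * t) g)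
    (hT : ∀ s, P s → (∀ t, P t → Commute s t) → s ∈ Subgroup.center G)
    (hcount : ∀ T : Subgroup G, Subgroup.center G ≤ T →
      (∀ t ∈ T, ∀ g h : G, ¬ Commute t g → ¬ Commute t h → Commute t (g⁻¹ * h)) →
      (∀ g : G, ∀ s ∈ T, ∀ t ∈ T, ¬ Commute s g → ¬ Commute t g → Commute (s⁻¹ * t) g) →
      Nat.card (Subgroup.center G) * Nat.card G =
        Nat.card (Subgroup.centralizer (T : Set G)) * Nat.card T) :
    ∀ s, P s := by
  classical
  have : Fact (Nat.Prime 2) := ⟨Nat.prime_two⟩
  have hP : ∀ s, P s ↔ (s ^ 2 ∈ Subgroup.center G ∧ ∀ g : G, ⁅s, g⁆ ∈ Subgroup.center G) :=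
    fun s => ⟨fun h => ⟨hP_sq s h, hP_comm s h⟩, fun h => hP_of s h.1 h.2⟩
  let π := QuotientGroup.mk' (Subgroup.center G)
  have hπ : ∀ s, P s ↔ (π s ∈ Subgroup.center (G ⧸ Subgroup.center G) ∧ (π s) ^ 2 = 1) := by
    intro s
    rw [hP]
    constructor
    · rintro ⟨h1, h2⟩
      refine ⟨?_, ?_⟩
      · rw [Subgroup.mem_center_iff]
        intro q
        obtain ⟨g, rfl⟩ := QuotientGroup.mk'_surjective (Subgroup.center G) q
        have h3 : π ⁅s, g⁆ = 1 := (QuotientGroup.eq_one_iff _).mpr (h2 g)
        rw [map_commutatorElement, commutatorElement_eq_one_iff_commute] at h3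
        exact h3.eq.symm
      · rw [← map_pow]
        exact (QuotientGroup.eq_one_iff _).mpr h1
    · rintro ⟨h1, h2⟩
      refine ⟨?_, ?_⟩
      · rw [← map_pow] at h2
        exact (QuotientGroup.eq_one_iff _).mp h2
      · intro g
        apply (QuotientGroup.eq_one_iff _).mp
        show π ⁅s, g⁆ = 1
        rw [map_commutatorElement, commutatorElement_eq_one_iff_commute]
        exact (Subgroup.mem_center_iff.mp h1 (π g)).symm
  let T : Subgroup G :=
    { carrier := {s | P s}
      one_mem' := by
        show P 1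
        rw [hπ, map_one]
        exact ⟨Subgroup.one_mem _, one_pow _⟩
      mul_mem' := by
        intro a b ha hb
        show P (a * b)
        have ha' := (hπ a).mp ha
        have hb' := (hπ b).mp hb
        rw [hπ, map_mul]
        refine ⟨Subgroup.mul_mem _ ha'.1 hb'.1, ?_⟩
        have hc : Commute (π a) (π b) := Subgroup.mem_center_iff.mp hb'.1 (π a)
        rw [hc.mul_pow, ha'.2, hb'.2, one_mul]
      inv_mem' := by
        intro a ha
        show P a⁻¹
        have ha' := (hπ a).mp ha
        rw [hπ, map_inv]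
        exact ⟨Subgroup.inv_mem _ ha'.1, by rw [inv_pow, ha'.2, inv_one]⟩ }
  have hTn : T.Normal := by
    refine ⟨fun s hs g => ?_⟩
    show P (g * s * g⁻¹)
    have hs' := (hπ s).mp hs
    rw [hπ]
    have h1 : π (g * s * g⁻¹) = π s := by
      rw [map_mul, map_mul, map_inv]
      have hc := Subgroup.mem_center_iff.mp hs'.1 (π g)
      rw [hc, mul_inv_cancel_right]
    rw [h1]
    exact hs'
  have hZT : Subgroup.center G ≤ T := by
    intro z hz
    show P z
    rw [hP]
    refine ⟨Subgroup.pow_mem _ hz 2, fun g => ?_⟩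
    have h1 : ⁅z, g⁆ = 1 := by
      rw [commutatorElement_eq_one_iff_commute]
      exact (Subgroup.mem_center_iff.mp hz g).symm
    rw [h1]
    exact Subgroup.one_mem _
  have hZC : Subgroup.center G ≤ Subgroup.centralizer (T : Set G) := Subgroup.center_le_centralizer _
  have hCZ : Subgroup.centralizer (T : Set G) = Subgroup.center G := by
    by_contra hne
    have hlt : Subgroup.center G < Subgroup.centralizer (T : Set G) :=
      lt_of_le_of_ne hZC (Ne.symm hne)
    obtain ⟨x, hxC, hxZ, hx2, hxc⟩ :=
      Cfsg.Agent.Lib.helper3.exists_mem_not_mem_of_normal_lt hG _ _ hlt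
    have hxP : P x := hP_of x hx2 hxc
    apply hxZ
    apply hT x hxP
    intro t ht
    exact (Subgroup.mem_centralizer_iff.mp hxC t ht).symm
  have hc := hcount T hZT (fun t ht => H1 t ht) (fun g s hs t ht => H2 g s t hs ht)
  rw [hCZ] at hc
  have hZpos : 0 < Nat.card (Subgroup.center G) := Nat.card_pos
  have hcard : Nat.card T = Nat.card G := (Nat.eq_of_mul_eq_mul_left hZpos hc).symm
  have htop : T = ⊤ := Subgroup.eq_top_of_card_eq T hcard
  intro s
  have hs : s ∈ T := by rw [htop]; trivial
  exact hs

end Cfsg.Agent.Lib.helper89.S60
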