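import Mathlib
import Cfsg.Agent.Lib.helper89.S60Defs
import Cfsg.Agent.Lib.helper62.S60AELT2abs
import Cfsg.Agent.Lib.helper70.S60CNT

/-!
# S6000, piece AELT2 (racer copy of helper62): `R / Z` is elementary abelian

Uniform counting route: `T = {TLike}` is a normal subgroup of `R` containing the centre, its centraliser is the centre
(`helper3.exists_mem_not_mem_of_normal_lt` and the hypothesis `hT`), and the commuting-pairs count `h70_comm_count`
gives `|T| = |R|`.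
-/

set_option autoImplicit false

namespace Cfsg.Agent.Lib.helper89.S60

open Matrix Cfsg Cfsg.Geo
open scoped commutatorElement

theorem h62_anti_inv_right {A : Type*} [Ring A] (u v : Aˣ) (h : (u : A) * v = -((v : A) * u)) :
    (u : A) * ((v⁻¹ : Aˣ) : A) = -(((v⁻¹ : Aˣ) : A) * u) := by
  have h1 : ((v⁻¹ : Aˣ) : A) * ((u : A) * v) * ((v⁻¹ : Aˣ) : A) =
      ((v⁻¹ : Aˣ) : A) * (-((v : A) * u)) * ((v⁻¹ : Aˣ) : A) := by rw [h]
  simp only [mul_assoc, Units.mul_inv, mul_one, mul_neg, neg_mul, Units.inv_mul_cancel_left] at h1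
  rw [h1, neg_neg]

theorem h62_anti_inv_left {A : Type*} [Ring A] (u v : Aˣ) (h : (u : A) * v = -((v : A) * u)) :
    ((u⁻¹ : Aˣ) : A) * v = -((v : A) * ((u⁻¹ : Aˣ) : A)) := by
  have h1 : ((u⁻¹ : Aˣ) : A) * ((u : A) * v) * ((u⁻¹ : Aˣ) : A) =
      ((u⁻¹ : Aˣ) : A) * (-((v : A) * u)) * ((u⁻¹ : Aˣ) : A) := by rw [h]
  simp only [mul_assoc, Units.mul_inv, mul_one, mul_neg, neg_mul, Units.inv_mul_cancel_left] at h1
  rw [h1, neg_neg]

/-- The sign lemma: an element with `TLike` commutes or anticommutes with every element of `R`. -/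
theorem h62_tl_sign {F : Type*} [Field F] (R : Subgroup (GL (Fin 4) F)) (t g : GL (Fin 4) F)
    (ht : TLike R t) (hg : g ∈ R) :
    (t : Matrix (Fin 4) (Fin 4) F) * (g : Matrix (Fin 4) (Fin 4) F) = (g : Matrix (Fin 4) (Fin 4) F) * (t : Matrix (Fin 4) (Fin 4) F) ∨
    (t : Matrix (Fin 4) (Fin 4) F) * (g : Matrix (Fin 4) (Fin 4) F) = -((g : Matrix (Fin 4) (Fin 4) F) * (t : Matrix (Fin 4) (Fin 4) F)) := by
  obtain ⟨⟨a, ha⟩, hc⟩ := ht
  obtain ⟨c, hc⟩ := hc g hg
  have h1 : (t : Matrix (Fin 4) (Fin 4) F) * (t : Matrix (Fin 4) (Fin 4) F) * (g : Matrix (Fin 4) (Fin 4) F) =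
      (c * c) • ((g : Matrix (Fin 4) (Fin 4) F) * ((t : Matrix (Fin 4) (Fin 4) F) * (t : Matrix (Fin 4) (Fin 4) F))) := by
    rw [mul_assoc, hc, Matrix.mul_smul, ← mul_assoc, hc, Matrix.smul_mul, smul_smul, mul_assoc]
  rw [ha] at h1
  simp only [Matrix.smul_mul, Matrix.mul_smul, Matrix.one_mul, Matrix.mul_one, smul_smul] at h1
  have ha0 : a ≠ 0 := by
    rintro rfl
    have hu : IsUnit ((t : Matrix (Fin 4) (Fin 4) F) * (t : Matrix (Fin 4) (Fin 4) F)) := (t * t).isUnit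
    rw [ha, zero_smul] at hu
    exact not_isUnit_zero hu
  have hg0 : (g : Matrix (Fin 4) (Fin 4) F) ≠ 0 := g.ne_zero
  have h2 : (a - c * c * a) • (g : Matrix (Fin 4) (Fin 4) F) = 0 := by rw [sub_smul, ← h1, sub_self]
  rcases smul_eq_zero.mp h2 with h3 | h3
  · have h4 : (c - 1) * (c + 1) = 0 := by
      have h5 : a * (c * c - 1) = 0 := by linear_combination -h3
      rcases mul_eq_zero.mp h5 with h | h
      · exact absurd h ha0
      · linear_combination h
    rcases mul_eq_zero.mp h4 with h | h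
    · left; rw [hc, sub_eq_zero.mp h, one_smul]
    · right; rw [hc, eq_neg_of_add_eq_zero_left h, neg_smul, one_smul]
  · exact absurd h3 hg0

/-- AELT2 with the counting identity as a hypothesis. -/
theorem h62_s60_sq_scalar_core {F : Type*} [Field F] (R : Subgroup (GL (Fin 4) F))
    (hRs : IsSymplecticTypeGroup 2 R) (hRi : ActsAbsolutelyIrreducibly (matrixSet R))
    (hR6 : Nat.card R = 64)
    (hT : ∀ s ∈ R, TLike R s → (∀ t ∈ R, TLike R t → (s : Matrix (Fin 4) (Fin 4) F) * (t : Matrix (Fin 4) (Fin 4) F) = (t : Matrix (Fin 4) (Fin 4) F) * (s : Matrix (Fin 4) (Fin 4) F)) →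
      ∃ c : F, (s : Matrix (Fin 4) (Fin 4) F) = c • (1 : Matrix (Fin 4) (Fin 4) F))
    (hcount : ∀ T : Subgroup R, Subgroup.center R ≤ T →
      (∀ t ∈ T, ∀ g h : R, ¬ Commute t g → ¬ Commute t h → Commute t (g⁻¹ * h)) →
      (∀ g : R, ∀ s ∈ T, ∀ t ∈ T, ¬ Commute s g → ¬ Commute t g → Commute (s⁻¹ * t) g) →
      Nat.card (Subgroup.center R) * Nat.card R =
        Nat.card (Subgroup.centralizer (T : Set R)) * Nat.card T) :
    ∀ s ∈ R, TLike R s := by
  classical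
  have hfin : Finite R := Nat.finite_of_card_ne_zero (by rw [hR6]; norm_num)
  have hinj : ∀ a b : R, ((a : GL (Fin 4) F) : Matrix (Fin 4) (Fin 4) F) = ((b : GL (Fin 4) F) : Matrix (Fin 4) (Fin 4) F) → a = b :=
    fun a b h => Subtype.ext (Units.ext h)
  have hSc : ∀ z : R, (∃ c : F, ((z : GL (Fin 4) F) : Matrix (Fin 4) (Fin 4) F) = c • (1 : Matrix (Fin 4) (Fin 4) F)) →
      z ∈ Subgroup.center R := by
    rintro z ⟨c, hc⟩
    rw [Subgroup.mem_center_iff]
    intro g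
    apply hinj
    simp only [Subgroup.coe_mul, Units.val_mul, hc, Matrix.mul_smul, Matrix.smul_mul, Matrix.mul_one, Matrix.one_mul]
  have hCs : ∀ z : R, z ∈ Subgroup.center R →
      ∃ c : F, ((z : GL (Fin 4) F) : Matrix (Fin 4) (Fin 4) F) = c • (1 : Matrix (Fin 4) (Fin 4) F) := by
    intro z hz
    apply hRi.2
    rintro m ⟨g, hg, rfl⟩
    have h1 := Subgroup.mem_center_iff.mp hz ⟨g, hg⟩
    have h' := congrArg (fun x : R => ((x : GL (Fin 4) F) : Matrix (Fin 4) (Fin 4) F)) h1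
    simpa using h'.symm
  have hsign : ∀ t g : R, TLike R (t : GL (Fin 4) F) → ¬ Commute t g →
      ((t : GL (Fin 4) F) : Matrix (Fin 4) (Fin 4) F) * ((g : GL (Fin 4) F) : Matrix (Fin 4) (Fin 4) F) =
        -(((g : GL (Fin 4) F) : Matrix (Fin 4) (Fin 4) F) * ((t : GL (Fin 4) F) : Matrix (Fin 4) (Fin 4) F)) := by
    intro t g ht hg
    rcases h62_tl_sign R t g ht g.2 with h' | h'
    · exfalso
      apply hg
      show t * g = g * t
      apply hinj
      simpa using h'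
    · exact h'
  have A1 : ∀ s : R, s ^ 2 ∈ Subgroup.center R → (∀ g : R, ⁅s, g⁆ ∈ Subgroup.center R) →
      TLike R (s : GL (Fin 4) F) := by
    intro s hs2 hsc
    refine ⟨?_, ?_⟩
    · obtain ⟨a, ha⟩ := hCs _ hs2
      refine ⟨a, ?_⟩
      rw [← ha]
      simp [pow_two]
    · intro g hg
      obtain ⟨c, hc⟩ := hCs _ (hsc ⟨g, hg⟩)
      refine ⟨c, ?_⟩
      have h1 : s * ⟨g, hg⟩ = ⁅s, (⟨g, hg⟩ : R)⁆ * (⟨g, hg⟩ * s) := by
        rw [commutatorElement_def]; group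
      have h2 := congrArg (fun x : R => ((x : GL (Fin 4) F) : Matrix (Fin 4) (Fin 4) F)) h1
      simp only [Subgroup.coe_mul, Units.val_mul] at h2
      rw [h2, hc, Matrix.smul_mul, Matrix.one_mul]
  have A2 : ∀ s : R, TLike R (s : GL (Fin 4) F) → s ^ 2 ∈ Subgroup.center R := by
    intro s hs
    obtain ⟨⟨a, ha⟩, -⟩ := hs
    apply hSc
    exact ⟨a, by rw [← ha]; simp [pow_two]⟩
  have A3 : ∀ s : R, TLike R (s : GL (Fin 4) F) → ∀ g : R, ⁅s, g⁆ ∈ Subgroup.center R := by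
    intro s hs g
    obtain ⟨-, hc⟩ := hs
    obtain ⟨c, hc⟩ := hc g g.2
    apply hSc
    refine ⟨c, ?_⟩
    have h1 : ⁅s, g⁆ * (g * s) = s * g := by
      rw [commutatorElement_def]; group
    have h2 := congrArg (fun x : R => ((x : GL (Fin 4) F) : Matrix (Fin 4) (Fin 4) F)) h1
    simp only [Subgroup.coe_mul, Units.val_mul] at h2
    rw [hc] at h2
    have hu : IsUnit (((g : GL (Fin 4) F) : Matrix (Fin 4) (Fin 4) F) * ((s : GL (Fin 4) F) : Matrix (Fin 4) (Fin 4) F)) :=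
      ((g : GL (Fin 4) F) * (s : GL (Fin 4) F)).isUnit
    have h3 : ((⁅s, g⁆ : R) : GL (Fin 4) F).val * (((g : GL (Fin 4) F) : Matrix (Fin 4) (Fin 4) F) * ((s : GL (Fin 4) F) : Matrix (Fin 4) (Fin 4) F)) =
        (c • (1 : Matrix (Fin 4) (Fin 4) F)) * (((g : GL (Fin 4) F) : Matrix (Fin 4) (Fin 4) F) * ((s : GL (Fin 4) F) : Matrix (Fin 4) (Fin 4) F)) := by
      rw [h2, Matrix.smul_mul, Matrix.one_mul]
    exact hu.mul_left_injective h3
  have B1 : ∀ t : R, TLike R (t : GL (Fin 4) F) → ∀ g h : R, ¬ Commute t g → ¬ Commute t h →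
      Commute t (g⁻¹ * h) := by
    intro t ht g h hg hh
    have hag := hsign t g ht hg
    have hah := hsign t h ht hh
    have hag' := h62_anti_inv_right (t : GL (Fin 4) F) (g : GL (Fin 4) F) hag
    show t * (g⁻¹ * h) = g⁻¹ * h * t
    apply hinj
    simp only [Subgroup.coe_mul, Subgroup.coe_inv, Units.val_mul]
    rw [← mul_assoc, hag', neg_mul, mul_assoc, hah, mul_neg, neg_neg, mul_assoc]
  have B2 : ∀ g : R, ∀ s t : R, TLike R (s : GL (Fin 4) F) → TLike R (t : GL (Fin 4) F) →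
      ¬ Commute s g → ¬ Commute t g → Commute (s⁻¹ * t) g := by
    intro g s t hs ht hsg htg
    have has := hsign s g hs hsg
    have hat := hsign t g ht htg
    have has' := h62_anti_inv_left (s : GL (Fin 4) F) (g : GL (Fin 4) F) has
    show s⁻¹ * t * g = g * (s⁻¹ * t)
    apply hinj
    simp only [Subgroup.coe_mul, Subgroup.coe_inv, Units.val_mul]
    rw [mul_assoc, hat, mul_neg, ← mul_assoc, has', neg_mul, neg_neg, mul_assoc]
  have B3 : ∀ s : R, TLike R (s : GL (Fin 4) F) → (∀ t : R, TLike R (t : GL (Fin 4) F) → Commute s t) →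
      s ∈ Subgroup.center R := by
    intro s hs hcomm
    apply hSc
    apply hT s s.2 hs
    intro t htR htT
    have h1 := hcomm ⟨t, htR⟩ htT
    have h' := congrArg (fun x : R => ((x : GL (Fin 4) F) : Matrix (Fin 4) (Fin 4) F)) h1.eq
    simpa using h'
  have hres := h62_hall_abs (G := R) hRs.pGroup (fun s => TLike R (s : GL (Fin 4) F)) A1 A2 A3 B1 B2 B3 hcount
  intro s hs
  exact hres ⟨s, hs⟩

/-- AELT2 under a prefixed name: the verbatim statement of `s60_sq_scalar`. -/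
theorem h62_s60_sq_scalar {F : Type*} [Field F] [Fintype F] (h2 : (2 : F) ≠ 0) (R : Subgroup (GL (Fin 4) F))
    (hRs : IsSymplecticTypeGroup 2 R) (hRi : ActsAbsolutelyIrreducibly (matrixSet R))
    (hR6 : Nat.card R = 64) (hRZ : Nat.card (Subgroup.center R) = 4)
    (hT : ∀ s ∈ R, TLike R s → (∀ t ∈ R, TLike R t → (s : Matrix (Fin 4) (Fin 4) F) * (t : Matrix (Fin 4) (Fin 4) F) = (t : Matrix (Fin 4) (Fin 4) F) * (s : Matrix (Fin 4) (Fin 4) F)) →
      ∃ c : F, (s : Matrix (Fin 4) (Fin 4) F) = c • (1 : Matrix (Fin 4) (Fin 4) F)) :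
    ∀ s ∈ R, TLike R s := by
  have hfin : Finite R := Nat.finite_of_card_ne_zero (by rw [hR6]; norm_num)
  exact h62_s60_sq_scalar_core R hRs hRi hR6 hT (fun T hZ H1 H2 => h70_comm_count T hZ H1 H2)

end Cfsg.Agent.Lib.helper89.S60
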