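import Cfsg.Agent.Lib.helper62.S6eS5core
import Cfsg.Agent.Lib.helper14.S6eB5E
import Cfsg.Agent.Lib.helper91.S6eB5S

/-!
# S6002, piece S5: the case `r = 5` (verbatim statement, canonical name)
-/

set_option autoImplicit false

namespace Cfsg.Agent.Lib.helper24

open Matrix Cfsg Cfsg.Geo

/-- S5 (M; uses BSC B5E B5S). r = 5: x⁵ = z•1, z = ±1 (BSC). Let x' = x or (-1)•x (as an element of spGL; -1 ∈ R ≤ spGL) so that x'⁵ = 1, x' ≠ 1. By B5E, B5S g⁻¹ x' g = h^k ∈ normalizer; then g⁻¹ x g = ±h^k lies in the normalizer as -1 ∈ R. -/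
theorem s6_suff_five {F : Type*} [Field F] [Fintype F] (h2 : (2 : F) ≠ 0) (R : Subgroup (GL S6I F)) (hG : S6Good R)
    (h4 : orderOf ((Fintype.card F : ℕ) : ZMod 5) = 4) (x : GL S6I F) (hx : x ∈ spGL 2 F) (z : F)
    (hz : (x : Matrix S6I S6I F) ^ 5 = z • (1 : Matrix S6I S6I F)) (hns : ∀ z : F, (x : Matrix S6I S6I F) ≠ z • (1 : Matrix S6I S6I F)) :
    ∃ g ∈ spGL 2 F, g⁻¹ * x * g ∈ subgroupNormalizer R :=
  h62_s6_suff_five_core R hG (h14_s6_exists_five_elt h2 R hG)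
    (fun x h hx hh hx5 hx1 hh5 hh1 => s6_five_conj h4 x h hx hh hx5 hx1 hh5 hh1) x hx z hz hns

end Cfsg.Agent.Lib.helper24
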