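import Mathlib
import Cfsg.Agent.Lib.helper24.S6eDefs

/-!
# S6002, piece S5 (core): the case `r = 5`, with the pieces B5E and B5S as hypotheses

`h62_s6_scalar_pm` is a self-contained proof of the statement of piece BSC.
-/

set_option autoImplicit false

namespace Cfsg.Agent.Lib.helper24

open Matrix Cfsg Cfsg.Geo

/-- A scalar `z • 1 = x ^ k` in `Sp_4` has `z = 1` or `z = -1` (the statement of piece BSC). -/
theorem h62_s6_scalar_pm {F : Type*} [Field F] (x : GL S6I F) (hx : x ∈ spGL 2 F) (k : ℕ) (z : F)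
    (hz : (x : Matrix S6I S6I F) ^ k = z • (1 : Matrix S6I S6I F)) : z = 1 ∨ z = -1 := by
  have hk : x ^ k ∈ spGL 2 F := pow_mem hx k
  have h1 := hk (Pi.single (Sum.inl 0) 1) (Pi.single (Sum.inr 0) 1)
  have h2 : (glToMat (Fin 2 ⊕ Fin 2) F (x ^ k)) = z • (1 : Matrix S6I S6I F) := by
    rw [← hz]; simp
  rw [h2] at h1
  simp only [sympForm, Matrix.smul_mulVec, Matrix.one_mulVec, Matrix.mulVec_smul, dotProduct_smul,
    smul_dotProduct, smul_eq_mul] at h1
  have h3 : (Pi.single (Sum.inl 0) 1 : S6I → F) ⬝ᵥ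
      (Matrix.J (Fin 2) F *ᵥ (Pi.single (Sum.inr 0) 1 : S6I → F)) = -1 := by
    simp [Matrix.J, Matrix.mulVec, dotProduct, Pi.single_apply]
  rw [h3] at h1
  have h4 : (z - 1) * (z + 1) = 0 := by linear_combination -h1
  rcases mul_eq_zero.mp h4 with h | h
  · left; linear_combination h
  · right; linear_combination h

/-- Piece S5 with the statements of B5E (`hB5E`) and B5S (`hB5S`) as hypotheses. -/
theorem h62_s6_suff_five_core {F : Type*} [Field F] (R : Subgroup (GL S6I F)) (hG : S6Good R)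
    (hB5E : ∃ h : GL S6I F, h ∈ spGL 2 F ∧ h ∈ subgroupNormalizer R ∧ h ^ 5 = 1 ∧ h ≠ 1)
    (hB5S : ∀ x h : GL S6I F, x ∈ spGL 2 F → h ∈ spGL 2 F → x ^ 5 = 1 → x ≠ 1 → h ^ 5 = 1 → h ≠ 1 →
      ∃ g ∈ spGL 2 F, ∃ k : ℕ, g⁻¹ * x * g = h ^ k)
    (x : GL S6I F) (hx : x ∈ spGL 2 F) (z : F)
    (hz : (x : Matrix S6I S6I F) ^ 5 = z • (1 : Matrix S6I S6I F))
    (hns : ∀ z : F, (x : Matrix S6I S6I F) ≠ z • (1 : Matrix S6I S6I F)) :
    ∃ g ∈ spGL 2 F, g⁻¹ * x * g ∈ subgroupNormalizer R := by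
  obtain ⟨h, hh, hhN, hh5, hh1⟩ := hB5E
  obtain ⟨m, hmR, hm⟩ := hG.neg
  have hmsp : m ∈ spGL 2 F := hG.sp hmR
  have hmN : m ∈ subgroupNormalizer R := Subgroup.le_normalizer hmR
  have hmc : ∀ y : GL S6I F, m * y = y * m := by
    intro y
    apply Units.ext
    simp [hm]
  rcases h62_s6_scalar_pm x hx 5 z hz with rfl | rfl
  · have hx5 : x ^ 5 = 1 := by
      apply Units.ext
      simpa using hz
    have hx1 : x ≠ 1 := by
      rintro rfl
      exact hns 1 (by simp)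
    obtain ⟨g, hg, k, hgk⟩ := hB5S x h hx hh hx5 hx1 hh5 hh1
    exact ⟨g, hg, by rw [hgk]; exact Subgroup.pow_mem _ hhN k⟩
  · have hmx : ((m * x : GL S6I F) : Matrix S6I S6I F) = -(x : Matrix S6I S6I F) := by
      simp [hm]
    have hx5 : (m * x) ^ 5 = 1 := by
      apply Units.ext
      rw [Units.val_pow_eq_pow_val, hmx, Odd.neg_pow (by decide), hz]
      simp
    have hx1 : m * x ≠ 1 := by
      intro h1
      apply hns (-1)
      have h3 : ((m * x : GL S6I F) : Matrix S6I S6I F) = 1 := by rw [h1]; rfl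
      rw [hmx] at h3
      rw [neg_smul, one_smul, ← h3, neg_neg]
    obtain ⟨g, hg, k, hgk⟩ := hB5S (m * x) h (mul_mem hmsp hx) hh hx5 hx1 hh5 hh1
    refine ⟨g, hg, ?_⟩
    have h5 : g⁻¹ * x * g = m⁻¹ * h ^ k := by
      have h6 : g⁻¹ * (m * x) * g = m * (g⁻¹ * x * g) := by
        rw [← mul_assoc g⁻¹ m x, ← hmc g⁻¹]
        simp only [mul_assoc]
      rw [← hgk, h6, inv_mul_cancel_left]
    rw [h5]
    exact mul_mem (inv_mem hmN) (Subgroup.pow_mem _ hhN k)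

end Cfsg.Agent.Lib.helper24
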