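import Mathlib
import Cfsg.Agent.Lib.helper62.Derangement
import Cfsg.Agent.Lib.helper62.IrredField2

set_option autoImplicit false

namespace Cfsg.Agent.Lib.helper62

/-- A nontrivial finite solvable group has a nontrivial abelian normal subgroup. -/
theorem exists_normal_abelian_of_solvable {H : Type*} [Group H] [Finite H] [Group.IsSolvable H]
    [Nontrivial H] :
    ∃ M : Subgroup H, M.Normal ∧ M ≠ ⊥ ∧ ∀ a ∈ M, ∀ b ∈ M, a * b = b * a := by
  obtain ⟨M, ⟨hMn, hMbot⟩, hMmin⟩ :=
    exists_minimal_subgroup (fun K : Subgroup H => K.Normal ∧ K ≠ ⊥) ⟨⊤, inferInstance, top_ne_bot⟩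
  haveI := hMn
  have hlt : ⁅M, M⁆ < M := IsSolvable.commutator_lt_of_ne_bot hMbot
  have hcomm : ⁅M, M⁆ = ⊥ := by
    by_contra hc
    exact hlt.ne (hMmin ⁅M, M⁆ ⟨inferInstance, hc⟩ hlt.le)
  refine ⟨M, hMn, hMbot, ?_⟩
  intro x hx y hy
  have h1 := (Subgroup.commutator_eq_bot_iff_le_centralizer.mp hcomm) hx
  rw [Subgroup.mem_centralizer_iff] at h1
  exact (h1 y hy).symm

open scoped IsMulCommutative in
/-- The conjugation action of `G` on an abelian normal subgroup `N`, as additive endomorphisms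
of `Additive N`. -/
def conjEnd {G : Type*} [Group G] (N : Subgroup G) [N.Normal] [IsMulCommutative N] :
    G →* AddMonoid.End (Additive N) where
  toFun g := MonoidHom.toAdditive ((MulAut.conjNormal g : MulAut N).toMonoidHom)
  map_one' := by
    apply AddMonoidHom.ext
    intro x
    change Additive.ofMul ((MulAut.conjNormal (1 : G) : MulAut N) x.toMul) = x
    rw [map_one]
    rfl
  map_mul' g h := by
    apply AddMonoidHom.ext
    intro x
    change Additive.ofMul ((MulAut.conjNormal (g * h) : MulAut N) x.toMul) =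
      Additive.ofMul ((MulAut.conjNormal g : MulAut N) ((MulAut.conjNormal h : MulAut N) x.toMul))
    rw [map_mul]
    rfl

open scoped IsMulCommutative in
theorem conjEnd_apply {G : Type*} [Group G] (N : Subgroup G) [N.Normal] [IsMulCommutative N]
    (g : G) (n : N) :
    conjEnd N g (Additive.ofMul n) = Additive.ofMul ((MulAut.conjNormal g : MulAut N) n) := rfl

open scoped IsMulCommutative in
theorem conjEnd_eq_one_iff {G : Type*} [Group G] (N : Subgroup G) [N.Normal] [IsMulCommutative N]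
    (g : G) : conjEnd N g = 1 ↔ ∀ n ∈ N, g * n = n * g := by
  constructor
  · intro h n hn
    have h1 : conjEnd N g (Additive.ofMul (⟨n, hn⟩ : N)) = Additive.ofMul (⟨n, hn⟩ : N) := by
      rw [h]
      rfl
    rw [conjEnd_apply] at h1
    have h2 : (MulAut.conjNormal g : MulAut N) ⟨n, hn⟩ = ⟨n, hn⟩ := h1
    have h3 := congrArg Subtype.val h2
    rw [MulAut.conjNormal_apply] at h3
    have h4 : g * n = (g * n * g⁻¹) * g := by group
    rw [h4, h3]
  · intro h
    apply AddMonoidHom.ext
    intro x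
    have h2 : (MulAut.conjNormal g : MulAut N) x.toMul = x.toMul := by
      apply Subtype.ext
      rw [MulAut.conjNormal_apply, h _ x.toMul.2, mul_inv_cancel_right]
    exact congrArg Additive.ofMul h2

open scoped IsMulCommutative in
/-- Core of the structure theorem for solvable extremely primitive groups: `N` elementary
abelian normal of order `p ^ d`, `H` acting faithfully on `N` by conjugation, `M ≤ H` abelian of
prime exponent `q`, normalized by `H`, self-centralizing in `H` and acting irreducibly on `N`. -/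
theorem solv_ext_prim_core {G : Type*} [Group G] [Finite G] (N : Subgroup G) [hN : N.Normal]
    [IsMulCommutative N] (p d : ℕ) (hp : p.Prime) (hcardN : Nat.card N = p ^ d)
    (hexpN : ∀ n ∈ N, n ^ p = 1) (hNbot : N ≠ ⊥)
    (H : Subgroup G) (hHN : ∀ g ∈ H, (∀ n ∈ N, g * n = n * g) → g = 1)
    (M : Subgroup G) (hMH : M ≤ H) (hMnorm : ∀ h ∈ H, ∀ m ∈ M, h * m * h⁻¹ ∈ M) (hMbot : M ≠ ⊥)
    (hMc : ∀ a ∈ M, ∀ b ∈ M, a * b = b * a) (q : ℕ) (hq : q.Prime) (hMexp : ∀ m ∈ M, m ^ q = 1)
    (hirr : ∀ L : Subgroup G, L ≤ N → M ≤ Subgroup.normalizer (L : Set G) → L = ⊥ ∨ L = N)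
    (hself : ∀ h ∈ H, (∀ m ∈ M, h * m = m * h) → h ∈ M) :
    Nat.card M = q ∧ (∀ i : ℕ, 0 < i → i < d → ¬ q ∣ p ^ i - 1) ∧ Nat.card H ∣ q * d ∧
      ∃ h ∈ H, H = M ⊔ Subgroup.zpowers h := by
  classical
  haveI : Finite (Additive N) := inferInstanceAs (Finite N)
  haveI : Nontrivial N := (Subgroup.nontrivial_iff_ne_bot N).mpr hNbot
  haveI : Nontrivial (Additive N) := inferInstanceAs (Nontrivial N)
  have hcardV : Nat.card (Additive N) = p ^ d := hcardN
  have hexpV : ∀ v : Additive N, p • v = 0 := fun v =>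
    congrArg Additive.ofMul (Subtype.ext (hexpN v.toMul v.toMul.2) : v.toMul ^ p = 1)
  -- irreducibility in additive form
  have hirrV : ∀ W : AddSubgroup (Additive N),
      (∀ m ∈ M, ∀ w ∈ W, conjEnd N m w ∈ W) → W = ⊥ ∨ W = ⊤ := by
    intro W hW
    let L : Subgroup G :=
      { carrier := {g | ∃ h : g ∈ N, Additive.ofMul (⟨g, h⟩ : N) ∈ W}
        mul_mem' := by
          rintro a b ⟨ha, haW⟩ ⟨hb, hbW⟩
          exact ⟨N.mul_mem ha hb, W.add_mem haW hbW⟩
        one_mem' := ⟨N.one_mem, W.zero_mem⟩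
        inv_mem' := by
          rintro a ⟨ha, haW⟩
          exact ⟨N.inv_mem ha, W.neg_mem haW⟩ }
    have hLN : L ≤ N := fun g hg => hg.1
    have hML : M ≤ Subgroup.normalizer (L : Set G) := by
      rw [Subgroup.le_normalizer_iff]
      rintro m hm l ⟨hl, hlW⟩
      refine ⟨hN.conj_mem l hl m, ?_⟩
      have h1 := hW m hm _ hlW
      rw [conjEnd_apply] at h1
      have h2 : (MulAut.conjNormal m : MulAut N) ⟨l, hl⟩ = ⟨m * l * m⁻¹, hN.conj_mem l hl m⟩ :=
        Subtype.ext (MulAut.conjNormal_apply _ _)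
      rw [h2] at h1
      exact h1
    rcases hirr L hLN hML with h | h
    · left
      rw [eq_bot_iff]
      intro w hw
      have h1 : (w.toMul : G) ∈ L := ⟨w.toMul.2, hw⟩
      rw [h, Subgroup.mem_bot] at h1
      rw [AddSubgroup.mem_bot]
      have h2 : w.toMul = 1 := Subtype.ext h1
      exact congrArg Additive.ofMul h2
    · right
      rw [eq_top_iff]
      intro w _
      have h1 : (w.toMul : G) ∈ L := by
        rw [h]
        exact w.toMul.2
      obtain ⟨_, h2⟩ := h1
      exact h2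
  -- faithfulness
  have hfaith : ∀ a ∈ H, ∀ b ∈ H, conjEnd N a = conjEnd N b → a = b := by
    intro a ha b hb hab
    have h1 : conjEnd N (a⁻¹ * b) = 1 := by
      rw [map_mul, ← hab, ← map_mul, inv_mul_cancel, map_one]
    have h2 := hHN _ (H.mul_mem (H.inv_mem ha) hb) ((conjEnd_eq_one_iff N _).mp h1)
    rw [inv_mul_eq_one] at h2
    exact h2
  -- M is cyclic
  haveI : Nontrivial M := (Subgroup.nontrivial_iff_ne_bot M).mpr hMbot
  haveI hMcyc : IsCyclic M := by
    apply isCyclic_of_irreducible_comm ((conjEnd N).comp M.subtype)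
    · intro a b hab
      exact Subtype.ext (hfaith a (hMH a.2) b (hMH b.2) hab)
    · intro a b
      exact Subtype.ext (hMc a a.2 b b.2)
    · intro W hW
      exact hirrV W (fun m hm w hw => hW ⟨m, hm⟩ w hw)
  obtain ⟨t, ht⟩ := IsCyclic.exists_monoid_generator (α := M)
  have htz : ∀ x : M, x ∈ Subgroup.zpowers t := fun x => by
    rw [← mem_powers_iff_mem_zpowers]
    exact ht x
  have hcardM : Nat.card M = q := by
    have h1 : orderOf t = Nat.card M := orderOf_eq_card_of_forall_mem_zpowers htz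
    have h2 : t ^ q = 1 := Subtype.ext (hMexp t t.2)
    have h3 : orderOf t ∣ q := orderOf_dvd_of_pow_eq_one h2
    rw [h1] at h3
    rcases (Nat.dvd_prime hq).mp h3 with h4 | h4
    · exfalso
      have h5 : 1 < Nat.card M := Finite.one_lt_card
      omega
    · exact h4
  have htpow : ∀ m ∈ M, ∃ k : ℕ, m = (t : G) ^ k := by
    intro m hm
    obtain ⟨k, hk⟩ := ht ⟨m, hm⟩
    refine ⟨k, ?_⟩
    have h1 := congrArg Subtype.val hk
    simpa using h1.symm
  have htq : (t : G) ^ q = 1 := hMexp t t.2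
  -- γ
  have hirrγ : ∀ W : AddSubgroup (Additive N),
      (∀ w ∈ W, conjEnd N (t : G) w ∈ W) → W = ⊥ ∨ W = ⊤ := by
    intro W hW
    apply hirrV W
    intro m hm w hw
    obtain ⟨k, rfl⟩ := htpow m hm
    rw [map_pow]
    clear hm
    induction k with
    | zero => simpa using hw
    | succ k ih =>
      rw [pow_succ']
      exact hW _ ih
  have hγq : conjEnd N (t : G) ^ q = 1 := by rw [← map_pow, htq, map_one]
  refine ⟨hcardM, ?_, ?_, ?_⟩
  · intro i hi hid hdvd
    obtain ⟨c, hc⟩ := hdvd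
    have hpos : 0 < p ^ i := pow_pos hp.pos i
    have h1 : p ^ i = q * c + 1 := by omega
    have h2 : conjEnd N (t : G) ^ (p ^ i) = conjEnd N (t : G) := by
      rw [h1, pow_succ, pow_mul, hγq, one_pow, one_mul]
    have h3 := le_of_pow_eq_self p d hp hcardV hexpV (conjEnd N (t : G)) hirrγ i hi h2
    omega
  · obtain ⟨Z, hZ, hZd⟩ := exists_index_dvd_of_normalizes p d hp hcardV (conjEnd N (t : G)) hirrγ
      ((conjEnd N).comp H.subtype) (by
        intro g
        obtain ⟨j, hj⟩ := htpow _ (hMnorm g g.2 t t.2)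
        refine ⟨j, ?_⟩
        change conjEnd N (g : G) * conjEnd N (t : G) = conjEnd N (t : G) ^ j * conjEnd N (g : G)
        rw [← map_mul, ← map_pow, ← map_mul, ← hj]
        congr 1
        group)
    have hZM : Z = M.subgroupOf H := by
      ext g
      rw [hZ, Subgroup.mem_subgroupOf]
      change conjEnd N (g : G) * conjEnd N (t : G) = conjEnd N (t : G) * conjEnd N (g : G) ↔ _
      constructor
      · intro h
        rw [← map_mul, ← map_mul] at h
        have h1 := hfaith _ (H.mul_mem g.2 (hMH t.2)) _ (H.mul_mem (hMH t.2) g.2) h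
        apply hself _ g.2
        intro m hm
        obtain ⟨k, rfl⟩ := htpow m hm
        exact ((Commute.pow_right (show Commute (g : G) (t : G) from h1) k)).eq
      · intro h
        rw [← map_mul, ← map_mul, hMc _ h _ t.2]
    have h1 := Subgroup.card_mul_index Z
    have h2 : Nat.card Z = q := by
      rw [hZM, ← hcardM]
      exact Nat.card_congr (Subgroup.subgroupOfEquivOfLe hMH).toEquiv
    rw [h2] at h1
    rw [← h1]
    exact Nat.mul_dvd_mul_left q hZd
  · -- H / M is cyclic via Aut(M)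
    haveI hMHn : (M.subgroupOf H).Normal := by
      rw [Subgroup.normal_subgroupOf_iff hMH]
      intro h k hh hk
      exact hMnorm k hk h hh
    have hcardMH : Nat.card (M.subgroupOf H) = q := by
      rw [← hcardM]
      exact Nat.card_congr (Subgroup.subgroupOfEquivOfLe hMH).toEquiv
    haveI : IsCyclic (M.subgroupOf H) :=
      isCyclic_of_surjective (Subgroup.subgroupOfEquivOfLe hMH).symm
        (Subgroup.subgroupOfEquivOfLe hMH).symm.surjective
    haveI : Fact (Nat.card (M.subgroupOf H)).Prime := ⟨by rw [hcardMH]; exact hq⟩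
    haveI : IsCyclic (MulAut (M.subgroupOf H)) :=
      isCyclic_of_injective (IsCyclic.mulAutMulEquiv (M.subgroupOf H)).toMonoidHom
        (IsCyclic.mulAutMulEquiv (M.subgroupOf H)).injective
    let φ : H →* MulAut (M.subgroupOf H) := MulAut.conjNormal
    obtain ⟨y, hy⟩ := IsCyclic.exists_generator (α := φ.range)
    obtain ⟨h₀, hh₀⟩ := y.2
    have hker : ∀ g : H, φ g = 1 → (g : G) ∈ M := by
      intro g hg
      apply hself _ g.2
      intro m hm
      have h1 : φ g ⟨⟨m, hMH hm⟩, hm⟩ = ⟨⟨m, hMH hm⟩, hm⟩ := by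
        rw [hg]
        rfl
      have h2 := congrArg (fun x : M.subgroupOf H => ((x : H) : G)) h1
      simp only [φ, MulAut.conjNormal_apply, Subgroup.coe_mul, Subgroup.coe_inv] at h2
      have h3 : (g : G) * m = ((g : G) * m * (g : G)⁻¹) * g := by group
      rw [h3, h2]
    refine ⟨h₀, h₀.2, le_antisymm ?_ (sup_le hMH (by
      rw [Subgroup.zpowers_le]
      exact h₀.2))⟩
    intro x hx
    have h1 : (⟨φ ⟨x, hx⟩, ⟨⟨x, hx⟩, rfl⟩⟩ : φ.range) ∈ Subgroup.zpowers y := hy _
    obtain ⟨k, hk⟩ := Subgroup.mem_zpowers_iff.mp h1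
    have h2 : φ h₀ ^ k = φ ⟨x, hx⟩ := by
      have h3 := congrArg Subtype.val hk
      rw [Subgroup.coe_zpow] at h3
      rw [hh₀]
      exact h3
    have h3 : φ (⟨x, hx⟩ * (h₀ ^ k)⁻¹) = 1 := by
      rw [map_mul, map_inv, map_zpow, h2, mul_inv_cancel]
    have h4 := hker _ h3
    have h5 : x = (x * ((h₀ : G) ^ k)⁻¹) * (h₀ : G) ^ k := by group
    rw [h5]
    apply Subgroup.mul_mem_sup
    · simpa using h4
    · exact Subgroup.zpow_mem_zpowers _ k

end Cfsg.Agent.Lib.helper62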