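import Mathlib
import Cfsg.Agent.Lib.helper90.GaschutzYen

set_option autoImplicit false

namespace Cfsg.Agent.Lib.helper62.T97

open Cfsg.Agent.Lib.helper27 Cfsg.Agent.Lib.helper66 Cfsg.Agent.Lib.helper38
  Cfsg.Agent.Lib.helper1

open scoped Pointwise

/-- PIECE FRAT. -/
theorem exists_invol_centralizing {G : Type*} [Group G] [Finite G] (Q N : Subgroup G) [Q.Normal]
    [N.Normal] (hQ : IsPGroup 2 Q) (hQN : Q ≤ N) (hodd : Odd (Q.relIndex N))
    (hinv : ∀ g : G, g * g = 1 → g ∈ Q ∧ ∀ x ∈ Q, x * g = g * x)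
    (heven : Even Q.index) :
    ∃ z : G, z ≠ 1 ∧ z * z = 1 ∧ ∀ n ∈ N, n * z = z * n := by
  classical
  have : Fact (Nat.Prime 2) := ⟨Nat.prime_two⟩
  have hQn : Q.Normal := inferInstance
  obtain ⟨k, hk⟩ := IsPGroup.iff_card.mp hQ
  have hNcop : (Q.relIndex N).Coprime 2 := (Nat.coprime_two_left.mpr hodd).symm
  have hcopQN : (Nat.card (Q.subgroupOf N)).Coprime (Q.subgroupOf N).index := by
    rw [card_subgroupOf_of_le hQN, hk]
    exact Nat.Coprime.pow_left k hNcop.symm
  obtain ⟨K', hK'⟩ := Subgroup.exists_right_complement'_of_coprime hcopQN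
  set K : Subgroup G := K'.map N.subtype with hKdef
  have hKN : K ≤ N := Subgroup.map_subtype_le K'
  have hKcard : Nat.card K = Q.relIndex N := by
    rw [hKdef, card_map_subtype, ← hK'.symm.index_eq_card]
    rfl
  have hKcop : (Nat.card K).Coprime 2 := hKcard ▸ hNcop
  have hQKcop : (Nat.card Q).Coprime (Nat.card K) := by
    rw [hk]; exact Nat.Coprime.pow_left k hKcop.symm
  have hQK : Q ⊓ K = ⊥ := (Subgroup.disjoint_of_coprime_natCard hQKcop).eq_bot
  have hQKsup : Q ⊔ K = N := by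
    have h1 := congrArg (Subgroup.map N.subtype) hK'.sup_eq_top
    rw [Subgroup.map_sup, Subgroup.subgroupOf_map_subtype, ← MonoidHom.range_eq_map,
      Subgroup.range_subtype, inf_eq_left.mpr hQN] at h1
    exact h1
  set L := Subgroup.normalizer (K : Set G) with hLdef
  have hsolv : Group.IsSolvable Q := by
    have := hQ.isNilpotent
    infer_instance
  have hKnQ : K ≤ Subgroup.normalizer (Q : Set G) := by
    rw [Subgroup.normalizer_eq_top]; exact le_top
  have hfrat : Q ⊔ L = ⊤ := by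
    rw [eq_top_iff]
    intro g _
    have hcg : Nat.card (MulAut.conj g • K : Subgroup G) = Nat.card K := card_conj_smul g K
    have hdK : Q ⊓ MulAut.conj g • K = ⊥ :=
      (Subgroup.disjoint_of_coprime_natCard (by rw [hcg]; exact hQKcop)).eq_bot
    have hsup : Q ⊔ K = Q ⊔ MulAut.conj g • K := by
      have h1 : MulAut.conj g • (Q ⊔ K) = MulAut.conj g • Q ⊔ MulAut.conj g • K :=
        Subgroup.smul_sup _ _ _
      rw [Subgroup.Normal.conj_smul_eq_self g Q, hQKsup,
        Subgroup.Normal.conj_smul_eq_self g N] at h1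
      rw [hQKsup]; exact h1
    obtain ⟨n, hnQ, hn⟩ := sz_conj_internal Q K (MulAut.conj g • K) hKnQ hQK hdK hsup hQKcop
      (Or.inl hsolv)
    have h2 : MulAut.conj (n⁻¹ * g) • K = K := by
      rw [← conj_smul_conj_smul, ← hn, conj_smul_conj_smul, inv_mul_cancel, map_one, one_smul]
    have h3 : n⁻¹ * g ∈ L := mem_normalizer_of_conj_smul_eq h2
    have h4 : g = n * (n⁻¹ * g) := by group
    rw [h4]
    exact Subgroup.mul_mem_sup hnQ h3
  have hdvdL : 2 ∣ Nat.card L := by
    have h1 : Q.relIndex L = Nat.card (G ⧸ Q) := by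
      rw [← Subgroup.relIndex_sup_left, hfrat, Subgroup.relIndex_top_right,
        Subgroup.index_eq_card]
    have h2 : 2 ∣ Nat.card (G ⧸ Q) := by
      rw [← Subgroup.index_eq_card]; exact even_iff_two_dvd.mp heven
    exact (h1 ▸ h2).trans (Subgroup.relIndex_dvd_card Q L)
  obtain ⟨x, hx⟩ := exists_prime_orderOf_dvd_card' 2 hdvdL
  have hxo : orderOf (x : G) = 2 := by rw [Subgroup.orderOf_coe]; exact hx
  have hx2 : (x : G) * (x : G) = 1 := by
    rw [← pow_two, ← hxo]; exact pow_orderOf_eq_one _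
  have hx1 : (x : G) ≠ 1 := by
    intro h; rw [h, orderOf_one] at hxo; omega
  obtain ⟨hxQ, hxc⟩ := hinv _ hx2
  have hxK : ∀ c ∈ K, c * (x : G) = (x : G) * c := by
    intro c hc
    have h1 : (x : G) * c * (x : G)⁻¹ ∈ K := (Subgroup.mem_normalizer_iff.mp x.2 c).mp hc
    have h2 : (x : G) * c * (x : G)⁻¹ * c⁻¹ ∈ K := K.mul_mem h1 (K.inv_mem hc)
    have h3 : (x : G) * c * (x : G)⁻¹ * c⁻¹ ∈ Q := by
      have h : (x : G) * c * (x : G)⁻¹ * c⁻¹ = (x : G) * (c * (x : G)⁻¹ * c⁻¹) := by group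
      rw [h]
      exact Q.mul_mem hxQ (hQn.conj_mem _ (Q.inv_mem hxQ) c)
    have h4 : (x : G) * c * (x : G)⁻¹ * c⁻¹ ∈ Q ⊓ K := ⟨h3, h2⟩
    rw [hQK, Subgroup.mem_bot] at h4
    have h5 : (x : G) * c * (x : G)⁻¹ * c⁻¹ * (c * (x : G)) = c * (x : G) := by rw [h4, one_mul]
    rw [← h5]; group
  refine ⟨x, hx1, hx2, ?_⟩
  intro n hn
  have hle : Q ⊔ K ≤ Subgroup.centralizer ({(x : G)} : Set G) := by
    refine sup_le ?_ ?_
    · intro c hc
      rw [Subgroup.mem_centralizer_iff]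
      intro h hh
      rw [Set.mem_singleton_iff] at hh
      rw [hh]
      exact (hxc c hc).symm
    · intro c hc
      rw [Subgroup.mem_centralizer_iff]
      intro h hh
      rw [Set.mem_singleton_iff] at hh
      rw [hh]
      exact (hxK c hc).symm
  rw [← hQKsup] at hn
  exact (Subgroup.mem_centralizer_iff.mp (hle hn) x rfl).symm

end Cfsg.Agent.Lib.helper62.T97
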