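import Mathlib

set_option autoImplicit false

namespace Cfsg.Agent.Lib.helper62.T97

/-- PIECE YS. -/
theorem exists_solvable_aut_transitive {G : Type*} [Group G] [Finite G] (hG : Group.IsSolvable G)
    (S : Sylow 2 G) (O : Subgroup G) [O.Normal] (hO : Odd (Nat.card O))
    (hSO : ((S : Subgroup G) ⊔ O).Normal) :
    ∃ Y : Subgroup (MulAut ↥(S : Subgroup G)), Group.IsSolvable Y ∧
      ∀ x y : ↥(S : Subgroup G), IsConj (x : G) (y : G) → ∃ a ∈ Y, a x = y := by
  classical
  have := hSO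
  have : Fact (Nat.Prime 2) := ⟨Nat.prime_two⟩
  have hfr : Subgroup.normalizer ((S : Subgroup G) : Set G) ⊔ ((S : Subgroup G) ⊔ O) = ⊤ :=
    Sylow.normalizer_sup_eq_top' S le_sup_left
  have hdisj : ∀ g : G, g ∈ (S : Subgroup G) → g ∈ O → g = 1 := by
    intro g hgS hgO
    obtain ⟨k, hk⟩ := S.isPGroup' ⟨g, hgS⟩
    have hk' : g ^ 2 ^ k = 1 := by simpa [Subtype.ext_iff] using hk
    have h1 : orderOf g ∣ 2 ^ k := orderOf_dvd_of_pow_eq_one hk'
    have h2 : orderOf g ∣ Nat.card O := by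
      have := orderOf_dvd_natCard (⟨g, hgO⟩ : O)
      rwa [Subgroup.orderOf_mk] at this
    have h3 : orderOf g = 1 := by
      have hc : Nat.Coprime (2 ^ k) (Nat.card O) :=
        Nat.Coprime.pow_left k (Nat.coprime_two_left.mpr hO)
      exact Nat.eq_one_of_dvd_coprimes hc h1 h2
    exact orderOf_eq_one_iff.mp h3
  refine ⟨(S : Subgroup G).normalizerMonoidHom.range, ?_, ?_⟩
  · exact Group.isSolvable_of_surjective
      (f := (S : Subgroup G).normalizerMonoidHom.rangeRestrict)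
      (MonoidHom.rangeRestrict_surjective _)
  · intro x y hxy
    obtain ⟨g, hg⟩ := isConj_iff.mp hxy
    have hgt : g ∈ ((Subgroup.normalizer ((S : Subgroup G) : Set G) ⊔ ((S : Subgroup G) ⊔ O) :
        Subgroup G) : Set G) := by rw [hfr]; trivial
    rw [Subgroup.mul_normal] at hgt
    obtain ⟨n, hn, t, ht, rfl⟩ := Set.mem_mul.mp hgt
    have ht' : t ∈ (((S : Subgroup G) ⊔ O : Subgroup G) : Set G) := ht
    rw [Subgroup.mul_normal] at ht'
    obtain ⟨s, hs, o, ho, rfl⟩ := Set.mem_mul.mp ht'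
    have hns : n * s ∈ Subgroup.normalizer ((S : Subgroup G) : Set G) :=
      mul_mem hn (Subgroup.le_normalizer hs)
    -- (n s)⁻¹ y (n s) = o x o⁻¹ ∈ S
    have h1 : o * (x : G) * o⁻¹ = (n * s)⁻¹ * (y : G) * (n * s) := by
      rw [← hg]; group
    have h2 : o * (x : G) * o⁻¹ ∈ (S : Subgroup G) := by
      rw [h1]
      exact (Subgroup.mem_normalizer_iff''.mp hns _).mp y.2
    have h3 : (x : G)⁻¹ * (o * (x : G) * o⁻¹) = 1 := by
      apply hdisj
      · exact mul_mem (inv_mem x.2) h2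
      · have : (x : G)⁻¹ * (o * (x : G) * o⁻¹) = ((x : G)⁻¹ * o * ((x : G)⁻¹)⁻¹) * o⁻¹ := by group
        rw [this]
        exact mul_mem (‹O.Normal›.conj_mem o ho _) (inv_mem ho)
    have h4 : o * (x : G) * o⁻¹ = (x : G) := by
      have := congrArg (fun z => (x : G) * z) h3
      simpa using this
    refine ⟨(S : Subgroup G).normalizerMonoidHom ⟨n * s, hns⟩, ⟨_, rfl⟩, ?_⟩
    apply Subtype.ext
    have h5 : (n * s) * (x : G) * (n * s)⁻¹ = (y : G) := by
      rw [← hg]
      have : n * (s * o) * (x : G) * (n * (s * o))⁻¹ = (n * s) * (o * (x : G) * o⁻¹) * (n * s)⁻¹ := by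
        group
      rw [this, h4]
    exact h5

end Cfsg.Agent.Lib.helper62.T97
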