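import Mathlib
import Cfsg.Agent.Lib.helper62.DerOrders
import Cfsg.Agent.Lib.helper62.OneClassDer

set_option autoImplicit false

namespace Cfsg.Agent.Lib.helper62

open MulAction

/-- Two elements of distinct prime orders in a factor `T` of a nonabelian minimal normal
subgroup. -/
theorem exists_two_prime_orders {G : Type*} [Group G] [Finite G] (N : Subgroup G)
    [hN : N.Normal] (hmin : ∀ K : Subgroup G, K.Normal → K ≠ ⊥ → K ≤ N → K = N)
    (hnab : ¬ ∀ a ∈ N, ∀ b ∈ N, a * b = b * a)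
    (T C : Subgroup G) (hTN : T ≤ N) (hTbot : T ≠ ⊥)
    (hcomm : ∀ t ∈ T, ∀ c ∈ C, t * c = c * t)
    (hdecomp : ∀ n ∈ N, ∃ t ∈ T, ∃ c ∈ C, n = t * c) :
    ∃ q₁ q₂ : ℕ, q₁.Prime ∧ q₂.Prime ∧ q₁ ≠ q₂ ∧
      ∃ t₁ ∈ T, ∃ t₂ ∈ T, orderOf t₁ = q₁ ∧ orderOf t₂ = q₂ := by
  obtain ⟨x, hxT, hx1⟩ : ∃ x ∈ T, x ≠ 1 := by
    obtain ⟨x, hx⟩ := (Subgroup.ne_bot_iff_exists_ne_one).mp hTbot
    exact ⟨x, x.2, fun h => hx (Subtype.ext h)⟩
  have hox : orderOf x ≠ 1 := fun h => hx1 (orderOf_eq_one_iff.mp h)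
  have hox0 : orderOf x ≠ 0 := (orderOf_pos x).ne'
  obtain ⟨q₁, hq₁, hq₁d⟩ := Nat.exists_prime_and_dvd hox
  obtain ⟨y, hyT, hy⟩ :=
    exists_orderOf_ne_prime_pow N hmin hnab T C hTN hTbot hcomm hdecomp q₁ hq₁
  have hoy0 : orderOf y ≠ 0 := (orderOf_pos y).ne'
  obtain ⟨q₂, hq₂, hq₂d, hne⟩ : ∃ q₂ : ℕ, q₂.Prime ∧ q₂ ∣ orderOf y ∧ q₂ ≠ q₁ := by
    by_contra hcon
    push Not at hcon
    exact hy ⟨_, Nat.eq_prime_pow_of_unique_prime_dvd hoy0 (fun {d} hd hdd => hcon d hd hdd)⟩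
  exact ⟨q₁, q₂, hq₁, hq₂, hne.symm, x ^ (orderOf x / q₁), T.pow_mem hxT _,
    y ^ (orderOf y / q₂), T.pow_mem hyT _, orderOf_pow_orderOf_div hox0 hq₁d,
    orderOf_pow_orderOf_div hoy0 hq₂d⟩

theorem orderOf_conj_eq {G : Type*} [Group G] (g x : G) : orderOf (g * x * g⁻¹) = orderOf x := by
  have := orderOf_injective (MulAut.conj g).toMonoidHom (MulAut.conj g).injective x
  simpa using this

section
variable {G : Type*} [Group G] {Ω : Type*} [MulAction G Ω]

/-- Three pairwise non-conjugate derangements `t₁`, `t₂`, `t₁ * c₂`. -/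
theorem three_classes_aux (T C : Subgroup G)
    (hcomm : ∀ t ∈ T, ∀ c ∈ C, t * c = c * t) (hTC : ∀ x ∈ T, x ∈ C → x = 1)
    (hconjTC : ∀ g : G, (∀ t ∈ T, g * t * g⁻¹ ∈ T) ∨ (∀ t ∈ T, g * t * g⁻¹ ∈ C))
    (hderT : ∀ t ∈ T, t ≠ 1 → ∀ ω : Ω, t • ω ≠ ω)
    (q₁ q₂ : ℕ) (hq₁ : q₁.Prime) (hq₂ : q₂.Prime) (hne : q₁ ≠ q₂)
    (t₁ t₂ c₂ : G) (ht₁ : t₁ ∈ T) (ht₂ : t₂ ∈ T) (hc₂ : c₂ ∈ C)
    (ho₁ : orderOf t₁ = q₁) (ho₂ : orderOf t₂ = q₂) (hoc : orderOf c₂ = q₂) :
    ∃ d₁ d₂ d₃ : G, (∀ ω : Ω, d₁ • ω ≠ ω) ∧ (∀ ω : Ω, d₂ • ω ≠ ω) ∧ (∀ ω : Ω, d₃ • ω ≠ ω) ∧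
      (¬ ∃ g : G, g * d₁ * g⁻¹ = d₂) ∧ (¬ ∃ g : G, g * d₁ * g⁻¹ = d₃) ∧
      (¬ ∃ g : G, g * d₂ * g⁻¹ = d₃) := by
  have ht₁1 : t₁ ≠ 1 := by
    intro h
    rw [h, orderOf_one] at ho₁
    exact hq₁.one_lt.ne ho₁
  have ht₂1 : t₂ ≠ 1 := by
    intro h
    rw [h, orderOf_one] at ho₂
    exact hq₂.one_lt.ne ho₂
  have hc₂1 : c₂ ≠ 1 := by
    intro h
    rw [h, orderOf_one] at hoc
    exact hq₂.one_lt.ne hoc
  have hnot : ∀ t ∈ T, ¬ ∃ g : G, g * t * g⁻¹ = t₁ * c₂ := by
    rintro t ht ⟨g, hg⟩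
    rcases hconjTC g with h | h
    · have h1 : t₁ * c₂ ∈ T := by rw [← hg]; exact h t ht
      have h2 : c₂ ∈ T := by
        have := T.mul_mem (T.inv_mem ht₁) h1
        simpa using this
      exact hc₂1 (hTC c₂ h2 hc₂)
    · have h1 : t₁ * c₂ ∈ C := by rw [← hg]; exact h t ht
      have h2 : t₁ ∈ C := by
        have := C.mul_mem h1 (C.inv_mem hc₂)
        simpa using this
      exact ht₁1 (hTC t₁ ht₁ h2)
  refine ⟨t₁, t₂, t₁ * c₂, hderT t₁ ht₁ ht₁1, hderT t₂ ht₂ ht₂1, ?_, ?_, hnot t₁ ht₁,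
    hnot t₂ ht₂⟩
  · intro ω hω
    have h1 : (t₁ * c₂) ^ q₂ = t₁ ^ q₂ := by
      have hc : Commute t₁ c₂ := hcomm t₁ ht₁ c₂ hc₂
      rw [hc.mul_pow, ← hoc, pow_orderOf_eq_one, mul_one]
    have h2 : t₁ ^ q₂ ≠ 1 := by
      intro h
      have h3 := orderOf_dvd_of_pow_eq_one h
      rw [ho₁] at h3
      exact hne ((Nat.prime_dvd_prime_iff_eq hq₁ hq₂).mp h3)
    apply hderT (t₁ ^ q₂) (T.pow_mem ht₁ _) h2 ω
    rw [← h1]
    have h4 : t₁ * c₂ ∈ stabilizer G ω := hω
    exact Subgroup.pow_mem _ h4 q₂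
  · rintro ⟨g, hg⟩
    apply hne
    rw [← ho₁, ← ho₂, ← hg, orderOf_conj_eq]

/-- A finite faithful primitive group with a nonabelian minimal normal subgroup which is not
almost simple has at least three conjugacy classes of derangements. -/
theorem exists_three_derangements_nonconj [Finite G] [Finite Ω] [Nontrivial Ω]
    [IsPreprimitive G Ω]
    (hfaith : ∀ g : G, (∀ x : Ω, g • x = x) → g = 1)
    (N : Subgroup G) [hN : N.Normal] (hNbot : N ≠ ⊥)
    (hmin : ∀ K : Subgroup G, K.Normal → K ≠ ⊥ → K ≤ N → K = N)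
    (hnab : ¬ ∀ a ∈ N, ∀ b ∈ N, a * b = b * a)
    (hnas : ¬ ∃ T : Subgroup G, T.Normal ∧ IsSimpleGroup T ∧ ¬ IsMulCommutative T ∧
      Subgroup.centralizer (T : Set G) = ⊥) :
    ∃ d₁ d₂ d₃ : G, (∀ ω : Ω, d₁ • ω ≠ ω) ∧ (∀ ω : Ω, d₂ • ω ≠ ω) ∧ (∀ ω : Ω, d₃ • ω ≠ ω) ∧
      (¬ ∃ g : G, g * d₁ * g⁻¹ = d₂) ∧ (¬ ∃ g : G, g * d₁ * g⁻¹ = d₃) ∧
      (¬ ∃ g : G, g * d₂ * g⁻¹ = d₃) := by
  obtain ⟨α⟩ := (inferInstance : Nonempty Ω)
  have htrN := normal_transitive_of_faithful_prim hfaith N hNbot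
  have hZ : ∀ x ∈ N, x ∈ Subgroup.centralizer (N : Set G) → x = 1 := by
    intro x hx hxc
    by_contra hx1
    have h3 : N ⊓ Subgroup.centralizer (N : Set G) = N := by
      apply hmin _ inferInstance _ inf_le_left
      intro hbot
      have h4 : x ∈ N ⊓ Subgroup.centralizer (N : Set G) := ⟨hx, hxc⟩
      rw [hbot, Subgroup.mem_bot] at h4
      exact hx1 h4
    apply hnab
    intro a ha b hb
    have h4 : b ∈ N ⊓ Subgroup.centralizer (N : Set G) := by
      rw [h3]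
      exact hb
    exact h4.2 a ha
  by_cases hs : IsSimpleGroup N
  · have hC : Subgroup.centralizer (N : Set G) ≠ ⊥ := by
      intro hC
      apply hnas
      refine ⟨N, hN, hs, ?_, hC⟩
      intro hc
      apply hnab
      intro a ha b hb
      have h1 := hc.is_comm.comm (⟨a, ha⟩ : N) ⟨b, hb⟩
      exact congrArg Subtype.val h1
    have htrC := normal_transitive_of_faithful_prim hfaith (Subgroup.centralizer (N : Set G)) hC
    have hreg : ∀ n ∈ N, ∀ x : Ω, n • x = x → n = 1 := by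
      intro n hn x hx
      apply centralizer_semiregular hfaith (Subgroup.centralizer (N : Set G)) htrC n ?_ x hx
      intro c hc
      exact (hc n hn).symm
    have hregC : ∀ c ∈ Subgroup.centralizer (N : Set G), ∀ x : Ω, c • x = x → c = 1 :=
      fun c hc x hx => centralizer_semiregular hfaith N htrN c hc x hx
    obtain ⟨q₁, q₂, hq₁, hq₂, hne, t₁, ht₁, t₂, ht₂, ho₁, ho₂⟩ :=
      exists_two_prime_orders N hmin hnab N ⊥ le_rfl hNbot
        (fun t _ c hc => by rw [Subgroup.mem_bot.mp hc, mul_one, one_mul])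
        (fun n hn => ⟨n, hn, 1, Subgroup.one_mem _, (mul_one n).symm⟩)
    have hcard : Nat.card (Subgroup.centralizer (N : Set G)) = Nat.card N := by
      rw [card_eq_of_regular _ htrC hregC α, card_eq_of_regular N htrN hreg α]
    have hq₂d : q₂ ∣ Nat.card (Subgroup.centralizer (N : Set G)) := by
      rw [hcard, ← ho₂]
      have h1 : orderOf (⟨t₂, ht₂⟩ : N) = orderOf t₂ := Subgroup.orderOf_mk t₂ ht₂
      rw [← h1]
      exact orderOf_dvd_natCard _
    haveI : Fact q₂.Prime := ⟨hq₂⟩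
    obtain ⟨c, hc⟩ := exists_prime_orderOf_dvd_card' q₂ hq₂d
    have hc' : orderOf (c : G) = q₂ := by rw [Subgroup.orderOf_coe]; exact hc
    exact three_classes_aux N (Subgroup.centralizer (N : Set G))
      (fun t ht c hc => hc t ht) hZ (fun g => Or.inl (fun t ht => hN.conj_mem t ht g))
      (fun t ht ht1 ω hω => ht1 (hreg t ht ω hω)) q₁ q₂ hq₁ hq₂ hne t₁ t₂ c ht₁ ht₂ c.2
      ho₁ ho₂ hc'
  · obtain ⟨T, C, hTN, hCN, hTbot, hcomm, hTC, hdecomp, hTinv, hconjTC, ⟨g₀, t₀, ht₀, hg₀⟩⟩ :=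
      exists_TC_of_minimal_normal N hmin hnab hs
    have hg₀C : ∀ s ∈ T, g₀ * s * g₀⁻¹ ∈ C := by
      intro s hs
      rcases hconjTC g₀ with h | h
      · exact absurd (h t₀ ht₀) hg₀
      · exact h s hs
    obtain ⟨q₁, q₂, hq₁, hq₂, hne, t₁, ht₁, t₂, ht₂, ho₁, ho₂⟩ :=
      exists_two_prime_orders N hmin hnab T C hTN hTbot hcomm hdecomp
    -- the projection of the point stabilizer to `T`
    let R : Subgroup G :=
      { carrier := {t | t ∈ T ∧ ∃ c ∈ C, t * c ∈ stabilizer G α}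
        mul_mem' := by
          rintro t t' ⟨ht, c, hc, htc⟩ ⟨ht', c', hc', htc'⟩
          refine ⟨T.mul_mem ht ht', c * c', C.mul_mem hc hc', ?_⟩
          have h1 : t * t' * (c * c') = (t * c) * (t' * c') := by
            rw [mul_assoc, ← mul_assoc t' c c', hcomm t' ht' c hc]
            simp only [mul_assoc]
          rw [h1]
          exact Subgroup.mul_mem _ htc htc'
        one_mem' := ⟨T.one_mem, 1, C.one_mem, by rw [mul_one]; exact Subgroup.one_mem _⟩
        inv_mem' := by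
          rintro t ⟨ht, c, hc, htc⟩
          refine ⟨T.inv_mem ht, c⁻¹, C.inv_mem hc, ?_⟩
          have h1 : t⁻¹ * c⁻¹ = (t * c)⁻¹ := by
            rw [mul_inv_rev, ← hcomm t⁻¹ (T.inv_mem ht) c⁻¹ (C.inv_mem hc)]
          rw [h1]
          exact Subgroup.inv_mem _ htc }
    have hRT : R ≤ T := fun t ht => ht.1
    by_cases hR : R = T
    · have hKnorm : ∀ n ∈ N, ∀ x ∈ T, x • α = α → (n * x * n⁻¹) • α = α := by
        intro n hn x hx hxα
        obtain ⟨s, hs, c, hc, rfl⟩ := hdecomp n hn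
        have hsR : s ∈ R := by rw [hR]; exact hs
        obtain ⟨_, c', hc', hsc'⟩ := hsR
        have h1 : s * c * x * (s * c)⁻¹ = (s * c') * x * (s * c')⁻¹ := by
          have e1 : s * c * x * (s * c)⁻¹ = s * x * s⁻¹ := by
            rw [mul_inv_rev, mul_assoc s c x, ← hcomm x hx c hc]
            simp only [mul_assoc, mul_inv_cancel_left]
          have e2 : s * c' * x * (s * c')⁻¹ = s * x * s⁻¹ := by
            rw [mul_inv_rev, mul_assoc s c' x, ← hcomm x hx c' hc']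
            simp only [mul_assoc, mul_inv_cancel_left]
          rw [e1, e2]
        rw [h1]
        have h2 : s * c' * x * (s * c')⁻¹ ∈ stabilizer G α :=
          Subgroup.mul_mem _ (Subgroup.mul_mem _ hsc' hxα) (Subgroup.inv_mem _ hsc')
        exact h2
      have hK : ∀ x ∈ T, x • α = α → x = 1 := by
        intro x hx hxα
        apply hfaith
        intro γ
        obtain ⟨n, hn, rfl⟩ := htrN α γ
        have h1 := hKnorm n⁻¹ (N.inv_mem hn) x hx hxα
        rw [inv_inv, mul_smul, mul_smul, inv_smul_eq_iff] at h1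
        exact h1
      have hderT : ∀ t ∈ T, t ≠ 1 → ∀ ω : Ω, t • ω ≠ ω := by
        intro t ht ht1 ω hω
        apply ht1
        obtain ⟨n, hn, rfl⟩ := htrN α ω
        have h1 : n⁻¹ * t * n ∈ T := by
          have := hTinv n⁻¹ (N.inv_mem hn) t ht
          simpa using this
        have h2 : (n⁻¹ * t * n) • α = α := by
          rw [mul_smul, mul_smul, inv_smul_eq_iff]
          exact hω
        have h3 := hK _ h1 h2
        have h5 : t = n * (n⁻¹ * t * n) * n⁻¹ := by group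
        rw [h5, h3, mul_one, mul_inv_cancel]
      exact three_classes_aux T C hcomm hTC hconjTC hderT q₁ q₂ hq₁ hq₂ hne t₁ t₂
        (g₀ * t₂ * g₀⁻¹) ht₁ ht₂ (hg₀C t₂ ht₂) ho₁ ho₂ (by rw [orderOf_conj_eq, ho₂])
    · obtain ⟨t, ht, htR⟩ : ∃ t ∈ T, ∀ g ∈ T, g⁻¹ * t * g ∉ R := by
        by_contra hcon
        push Not at hcon
        exact hR (eq_of_forall_conj_mem R T hRT hcon)
      have hder : ∀ y ∈ C, ∀ ω : Ω, (t * y) • ω ≠ ω := by
        intro y hy ω hω
        obtain ⟨n, hn, rfl⟩ := htrN α ω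
        obtain ⟨s, hs, c, hc, rfl⟩ := hdecomp n hn
        apply htR s hs
        refine ⟨T.mul_mem (T.mul_mem (T.inv_mem hs) ht) hs, c⁻¹ * y * c,
          C.mul_mem (C.mul_mem (C.inv_mem hc) hy) hc, ?_⟩
        have h1 : s⁻¹ * t * s * (c⁻¹ * y * c) = (s * c)⁻¹ * (t * y) * (s * c) := by
          have e1 : s⁻¹ * t * s * (c⁻¹ * y * c) = c⁻¹ * (s⁻¹ * t * s) * (y * c) := by
            rw [← hcomm (s⁻¹ * t * s) (T.mul_mem (T.mul_mem (T.inv_mem hs) ht) hs) c⁻¹
              (C.inv_mem hc)]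
            simp only [mul_assoc]
          have e2 : s * y = y * s := hcomm s hs y hy
          rw [e1, mul_inv_rev]
          have e3 : (c⁻¹ * s⁻¹ * (t * y) * (s * c) : G) = c⁻¹ * (s⁻¹ * t * (y * s)) * c := by
            simp only [mul_assoc]
          rw [e3, ← e2]
          simp only [mul_assoc]
        rw [h1]
        change ((s * c)⁻¹ * (t * y) * (s * c)) • α = α
        rw [mul_smul, mul_smul, inv_smul_eq_iff]
        exact hω
      have ht1 : t ≠ 1 := by
        intro h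
        apply hder 1 C.one_mem α
        rw [h, mul_one, one_smul]
      -- an element of `T` whose order differs from that of `t`
      obtain ⟨s, hs, hs1, hso⟩ : ∃ s ∈ T, s ≠ 1 ∧ orderOf s ≠ orderOf t := by
        by_contra hcon
        push Not at hcon
        have h1 : orderOf t₁ = orderOf t := hcon t₁ ht₁ (by
          intro h
          rw [h, orderOf_one] at ho₁
          exact hq₁.one_lt.ne ho₁)
        have h2 : orderOf t₂ = orderOf t := hcon t₂ ht₂ (by
          intro h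
          rw [h, orderOf_one] at ho₂
          exact hq₂.one_lt.ne ho₂)
        exact hne (by rw [← ho₁, ← ho₂, h1, h2])
      have hnotT : ∀ y ∈ C, y ≠ 1 → ¬ ∃ g : G, g * t * g⁻¹ = t * y := by
        rintro y hy hy1 ⟨g, hg⟩
        rcases hconjTC g with h | h
        · have h1 : t * y ∈ T := by rw [← hg]; exact h t ht
          have h2 : y ∈ T := by
            have := T.mul_mem (T.inv_mem ht) h1
            simpa using this
          exact hy1 (hTC y h2 hy)
        · have h1 : t * y ∈ C := by rw [← hg]; exact h t ht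
          have h2 : t ∈ C := by
            have := C.mul_mem h1 (C.inv_mem hy)
            simpa using this
          exact ht1 (hTC t ht h2)
      have ht'1 : g₀ * t * g₀⁻¹ ≠ 1 := by
        intro h
        apply ht1
        have h5 : t = g₀⁻¹ * (g₀ * t * g₀⁻¹) * g₀ := by group
        rw [h5, h, mul_one, inv_mul_cancel]
      have hy₂1 : g₀ * s * g₀⁻¹ ≠ 1 := by
        intro h
        apply hs1
        have h5 : s = g₀⁻¹ * (g₀ * s * g₀⁻¹) * g₀ := by group
        rw [h5, h, mul_one, inv_mul_cancel]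
      refine ⟨t, t * (g₀ * t * g₀⁻¹), t * (g₀ * s * g₀⁻¹), ?_, hder _ (hg₀C t ht),
        hder _ (hg₀C s hs), hnotT _ (hg₀C t ht) ht'1, hnotT _ (hg₀C s hs) hy₂1, ?_⟩
      · intro ω hω
        exact hder 1 C.one_mem ω (by rw [mul_one]; exact hω)
      · rintro ⟨g, hg⟩
        -- a = g t g⁻¹, b = g t' g⁻¹
        have hab : (g * t * g⁻¹) * ((g * g₀) * t * (g * g₀)⁻¹) = t * (g₀ * s * g₀⁻¹) := by
          rw [← hg]
          group
        have hy₂C := hg₀C s hs
        have hyo : orderOf (g₀ * s * g₀⁻¹) = orderOf s := orderOf_conj_eq g₀ s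
        generalize g₀ * s * g₀⁻¹ = y₂ at hab hy₂C hy₂1 hg hyo
        have hoy : orderOf y₂ ≠ orderOf t → False := by
          intro hoy
          rcases hconjTC g with ha | ha <;> rcases hconjTC (g * g₀) with hb | hb
          · -- both in T
            have h1 : t * y₂ ∈ T := by
              rw [← hab]
              exact T.mul_mem (ha t ht) (hb t ht)
            have h2 : y₂ ∈ T := by
              have := T.mul_mem (T.inv_mem ht) h1
              simpa using this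
            exact hy₂1 (hTC y₂ h2 hy₂C)
          · -- a ∈ T, b ∈ C
            have h1 : t⁻¹ * (g * t * g⁻¹) = y₂ * ((g * g₀) * t * (g * g₀)⁻¹)⁻¹ := by
              rw [eq_mul_inv_iff_mul_eq, mul_assoc, hab, inv_mul_cancel_left]
            have h2 : t⁻¹ * (g * t * g⁻¹) ∈ T := T.mul_mem (T.inv_mem ht) (ha t ht)
            have h3 : t⁻¹ * (g * t * g⁻¹) ∈ C := by
              rw [h1]
              exact C.mul_mem hy₂C (C.inv_mem (hb t ht))
            have h4 := hTC _ h2 h3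
            rw [h4] at h1
            have h5 : y₂ = (g * g₀) * t * (g * g₀)⁻¹ := mul_inv_eq_one.mp h1.symm
            apply hoy
            rw [h5, orderOf_conj_eq]
          · -- a ∈ C, b ∈ T
            have hc : (g * t * g⁻¹) * ((g * g₀) * t * (g * g₀)⁻¹) =
                ((g * g₀) * t * (g * g₀)⁻¹) * (g * t * g⁻¹) :=
              (hcomm _ (hb t ht) _ (ha t ht)).symm
            rw [hc] at hab
            have h1 : t⁻¹ * ((g * g₀) * t * (g * g₀)⁻¹) = y₂ * (g * t * g⁻¹)⁻¹ := by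
              rw [eq_mul_inv_iff_mul_eq, mul_assoc, hab, inv_mul_cancel_left]
            have h2 : t⁻¹ * ((g * g₀) * t * (g * g₀)⁻¹) ∈ T :=
              T.mul_mem (T.inv_mem ht) (hb t ht)
            have h3 : t⁻¹ * ((g * g₀) * t * (g * g₀)⁻¹) ∈ C := by
              rw [h1]
              exact C.mul_mem hy₂C (C.inv_mem (ha t ht))
            have h4 := hTC _ h2 h3
            rw [h4] at h1
            have h5 : y₂ = g * t * g⁻¹ := mul_inv_eq_one.mp h1.symm
            apply hoy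
            rw [h5, orderOf_conj_eq]
          · -- both in C
            have h1 : t * y₂ ∈ C := by
              rw [← hab]
              exact C.mul_mem (ha t ht) (hb t ht)
            have h2 : t ∈ C := by
              have := C.mul_mem h1 (C.inv_mem hy₂C)
              simpa using this
            exact ht1 (hTC t ht h2)
        apply hoy
        rw [hyo]
        exact hso

/-- If all nonidentity elements of the transitive abelian normal subgroup `N` are conjugate in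
`G`, then `G` is 2-transitive. -/
theorem two_trans_of_abelian_conj
    (N : Subgroup G) [hN : N.Normal] (htr : ∀ x y : Ω, ∃ n ∈ N, n • x = y)
    (hNc : ∀ a ∈ N, ∀ b ∈ N, a * b = b * a)
    (hconj : ∀ n ∈ N, n ≠ 1 → ∀ n' ∈ N, n' ≠ 1 → ∃ g : G, g * n * g⁻¹ = n') :
    ∀ a b c d : Ω, a ≠ b → c ≠ d → ∃ g : G, g • a = c ∧ g • b = d := by
  intro a b c d hab hcd
  obtain ⟨n, hn, hna⟩ := htr a b
  obtain ⟨n', hn', hn'c⟩ := htr c d
  have hn1 : n ≠ 1 := by
    intro h; rw [h, one_smul] at hna; exact hab hna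
  have hn'1 : n' ≠ 1 := by
    intro h; rw [h, one_smul] at hn'c; exact hcd hn'c
  obtain ⟨g, hg⟩ := hconj n hn hn1 n' hn' hn'1
  obtain ⟨m, hm, hmc⟩ := htr (g • a) c
  refine ⟨m * g, by rw [mul_smul, hmc], ?_⟩
  have h1 : (m * g) * n = n' * (m * g) := by
    have h2 : m * n' = n' * m := hNc m hm n' hn'
    calc (m * g) * n = m * (g * n * g⁻¹) * g := by group
      _ = m * n' * g := by rw [hg]
      _ = n' * m * g := by rw [h2]
      _ = n' * (m * g) := by group
  rw [← hna, ← mul_smul, h1, mul_smul, mul_smul, hmc, hn'c]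

/-- If all derangements lie in the regular normal subgroup `N`, then no nonidentity element
fixes two points. -/
theorem fix_le_one_of_derangements_mem [Finite G]
    (N : Subgroup G) [hN : N.Normal] (htr : ∀ x y : Ω, ∃ n ∈ N, n • x = y)
    (hreg : ∀ n ∈ N, ∀ x : Ω, n • x = x → n = 1)
    (hder : ∀ d : G, (∀ ω : Ω, d • ω ≠ ω) → d ∈ N) :
    ∀ g : G, g ≠ 1 → ∀ a b : Ω, a ≠ b → g • a = a → g • b ≠ b := by
  intro g hg1 a b hab hga hgb
  obtain ⟨n, hn, hna⟩ := htr a b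
  have hn1 : n ≠ 1 := by
    intro h; rw [h, one_smul] at hna; exact hab hna
  have hginv : g⁻¹ • a = a := by rw [inv_smul_eq_iff, hga]
  have hgn : g * n * g⁻¹ = n := by
    have h1 : (n⁻¹ * (g * n * g⁻¹)) • a = a := by
      rw [mul_smul, mul_smul, mul_smul, hginv, hna, hgb, ← hna, inv_smul_smul]
    have h2 := hreg _ (N.mul_mem (N.inv_mem hn) (hN.conj_mem n hn g)) a h1
    rw [inv_mul_eq_one] at h2
    exact h2.symm
  let f : N → N := fun y => ⟨g * y * g⁻¹ * (y : G)⁻¹,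
    N.mul_mem (hN.conj_mem y y.2 g) (N.inv_mem y.2)⟩
  have hf : ¬ Function.Injective f := by
    intro hinj
    have h1 : f ⟨n, hn⟩ = f 1 := by
      apply Subtype.ext
      change g * n * g⁻¹ * n⁻¹ = g * 1 * g⁻¹ * 1⁻¹
      rw [hgn]; group
    have h2 := hinj h1
    exact hn1 (congrArg Subtype.val h2)
  have hf' : ¬ Function.Surjective f := fun h => hf (Finite.injective_iff_surjective.mpr h)
  simp only [Function.Surjective] at hf'
  push Not at hf'
  obtain ⟨n₀, hn₀⟩ := hf'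
  have hx : ∀ ω : Ω, ((n₀ : G)⁻¹ * g) • ω ≠ ω := by
    intro ω hω
    obtain ⟨y, hy, rfl⟩ := htr a ω
    apply hn₀ ⟨y, hy⟩
    apply Subtype.ext
    change g * y * g⁻¹ * y⁻¹ = n₀
    have h1 : (y⁻¹ * ((n₀ : G)⁻¹ * (g * y * g⁻¹))) • a = a := by
      rw [mul_smul, mul_smul, mul_smul, mul_smul, hginv, inv_smul_eq_iff, ← mul_smul,
        ← mul_smul]
      rw [mul_smul] at hω
      rw [mul_smul, mul_smul]
      exact hω
    have h2 := hreg _ (N.mul_mem (N.inv_mem hy)
      (N.mul_mem (N.inv_mem n₀.2) (hN.conj_mem y hy g))) a h1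
    have h3 : g * y * g⁻¹ = (n₀ : G) * y := by
      have h4 : (n₀ : G) * y * (y⁻¹ * ((n₀ : G)⁻¹ * (g * y * g⁻¹))) = g * y * g⁻¹ := by group
      rw [← h4, h2, mul_one]
    rw [h3, mul_inv_cancel_right]
  have h1 := hder _ hx
  have h2 : g ∈ N := by
    have h3 : g = (n₀ : G) * ((n₀ : G)⁻¹ * g) := by group
    rw [h3]
    exact N.mul_mem n₀.2 h1
  exact hg1 (hreg g h2 a hga)

/-- Counting: if the nonidentity elements of the regular abelian normal subgroup `N` of a
Frobenius group form exactly two conjugacy classes, then `|N| = 2 |G_α| + 1`. -/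
theorem card_stabilizer_of_two_classes [Finite G]
    (N : Subgroup G) [hN : N.Normal] (htr : ∀ x y : Ω, ∃ n ∈ N, n • x = y)
    (hreg : ∀ n ∈ N, ∀ x : Ω, n • x = x → n = 1)
    (hNc : ∀ a ∈ N, ∀ b ∈ N, a * b = b * a)
    (hfrob : ∀ g : G, g ≠ 1 → ∀ a b : Ω, a ≠ b → g • a = a → g • b ≠ b)
    (a b : G) (ha : a ∈ N) (hb : b ∈ N) (ha1 : a ≠ 1) (hb1 : b ≠ 1)
    (hab : ¬ ∃ g : G, g * a * g⁻¹ = b)
    (hall : ∀ n ∈ N, n ≠ 1 → (∃ g : G, g * a * g⁻¹ = n) ∨ (∃ g : G, g * b * g⁻¹ = n))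
    (α : Ω) : Nat.card N = 2 * Nat.card (stabilizer G α) + 1 := by
  have hH : ∀ x ∈ N, ∀ g : G, ∃ h ∈ stabilizer G α, h * x * h⁻¹ = g * x * g⁻¹ := by
    intro x hx g
    obtain ⟨m, hm, hmα⟩ := htr (g • α) α
    refine ⟨m * g, by rw [mem_stabilizer_iff, mul_smul, hmα], ?_⟩
    have h1 : m * (g * x * g⁻¹) = (g * x * g⁻¹) * m := hNc m hm _ (hN.conj_mem x hx g)
    calc m * g * x * (m * g)⁻¹ = m * (g * x * g⁻¹) * m⁻¹ := by group
      _ = (g * x * g⁻¹) * m * m⁻¹ := by rw [h1]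
      _ = g * x * g⁻¹ := by group
  let ψ : Option (stabilizer G α ⊕ stabilizer G α) → N := fun o =>
    match o with
    | none => 1
    | some (Sum.inl h) => ⟨h * a * (h : G)⁻¹, hN.conj_mem a ha h⟩
    | some (Sum.inr h) => ⟨h * b * (h : G)⁻¹, hN.conj_mem b hb h⟩
  have hinjaux : ∀ x : G, x ∈ N → x ≠ 1 → ∀ h h' : stabilizer G α,
      (h : G) * x * (h : G)⁻¹ = h' * x * (h' : G)⁻¹ → h = h' := by
    intro x hx hx1 h h' hh
    have hu : ((h' : G)⁻¹ * h) * x = x * ((h' : G)⁻¹ * h) := by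
      calc ((h' : G)⁻¹ * h) * x = (h' : G)⁻¹ * ((h : G) * x * (h : G)⁻¹) * h := by group
        _ = (h' : G)⁻¹ * (h' * x * (h' : G)⁻¹) * h := by rw [hh]
        _ = x * ((h' : G)⁻¹ * h) := by group
    have hxα : x • α ≠ α := fun h0 => hx1 (hreg x hx α h0)
    have hhα : (h : G) • α = α := h.2
    have hh'α : (h' : G) • α = α := h'.2
    have huα : ((h' : G)⁻¹ * h) • α = α := by
      rw [mul_smul, hhα, inv_smul_eq_iff, hh'α]
    have hu2 : ((h' : G)⁻¹ * h) • (x • α) = x • α := by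
      rw [← mul_smul, hu, mul_smul, huα]
    by_contra hne
    have hu1 : (h' : G)⁻¹ * h ≠ 1 := by
      intro h0
      apply hne
      rw [inv_mul_eq_one] at h0
      exact Subtype.ext h0.symm
    exact hfrob _ hu1 α (x • α) (Ne.symm hxα) huα hu2
  have hcross : ∀ h h' : stabilizer G α, (h : G) * a * (h : G)⁻¹ ≠ h' * b * (h' : G)⁻¹ := by
    intro h h' hh
    apply hab
    refine ⟨(h' : G)⁻¹ * h, ?_⟩
    calc (h' : G)⁻¹ * h * a * ((h' : G)⁻¹ * h)⁻¹ = (h' : G)⁻¹ * ((h : G) * a * (h : G)⁻¹) * h' := by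
          group
      _ = (h' : G)⁻¹ * (h' * b * (h' : G)⁻¹) * h' := by rw [hh]
      _ = b := by group
  have hψ : Function.Bijective ψ := by
    constructor
    · intro o o' hoo
      rcases o with _ | (h | h) <;> rcases o' with _ | (h' | h')
      · rfl
      · exfalso
        have h1 : (1 : G) = h' * a * (h' : G)⁻¹ := congrArg Subtype.val hoo
        exact ha1 (conj_eq_one_iff.mp h1.symm)
      · exfalso
        have h1 : (1 : G) = h' * b * (h' : G)⁻¹ := congrArg Subtype.val hoo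
        exact hb1 (conj_eq_one_iff.mp h1.symm)
      · exfalso
        have h1 : (h : G) * a * (h : G)⁻¹ = 1 := congrArg Subtype.val hoo
        exact ha1 (conj_eq_one_iff.mp h1)
      · have h1 : (h : G) * a * (h : G)⁻¹ = h' * a * (h' : G)⁻¹ := congrArg Subtype.val hoo
        rw [hinjaux a ha ha1 h h' h1]
      · exfalso
        have h1 : (h : G) * a * (h : G)⁻¹ = h' * b * (h' : G)⁻¹ := congrArg Subtype.val hoo
        exact hcross h h' h1
      · exfalso
        have h1 : (h : G) * b * (h : G)⁻¹ = 1 := congrArg Subtype.val hoo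
        exact hb1 (conj_eq_one_iff.mp h1)
      · exfalso
        have h1 : (h : G) * b * (h : G)⁻¹ = h' * a * (h' : G)⁻¹ := congrArg Subtype.val hoo
        exact hcross h' h h1.symm
      · have h1 : (h : G) * b * (h : G)⁻¹ = h' * b * (h' : G)⁻¹ := congrArg Subtype.val hoo
        rw [hinjaux b hb hb1 h h' h1]
    · intro n
      by_cases hn1 : (n : G) = 1
      · exact ⟨none, Subtype.ext hn1.symm⟩
      · rcases hall n n.2 hn1 with ⟨g, hg⟩ | ⟨g, hg⟩
        · obtain ⟨h, hh, hhx⟩ := hH a ha g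
          exact ⟨some (Sum.inl ⟨h, hh⟩), Subtype.ext (by rw [← hg]; exact hhx)⟩
        · obtain ⟨h, hh, hhx⟩ := hH b hb g
          exact ⟨some (Sum.inr ⟨h, hh⟩), Subtype.ext (by rw [← hg]; exact hhx)⟩
  have hcard := Nat.card_congr (Equiv.ofBijective ψ hψ)
  rw [← hcard, Finite.card_option, Nat.card_sum]
  ring

end

end Cfsg.Agent.Lib.helper62
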