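import Mathlib

set_option autoImplicit false

namespace Cfsg.Agent.Lib.helper62

open Polynomial

/-- In `(ZMod p)[X]`: `∑ i < p^k, X^i = (X - 1)^(p^k - 1)`. -/
theorem geom_sum_X_char (p : ℕ) [Fact p.Prime] (k : ℕ) :
    (∑ i ∈ Finset.range (p ^ k), (X : (ZMod p)[X]) ^ i) = (X - 1) ^ (p ^ k - 1) := by
  have hp : 0 < p ^ k := Nat.pos_of_ne_zero (pow_ne_zero _ (Fact.out : p.Prime).ne_zero)
  have h1 : (∑ i ∈ Finset.range (p ^ k), (X : (ZMod p)[X]) ^ i) * (X - 1)
      = (X - 1) ^ (p ^ k - 1) * (X - 1) := by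
    rw [geom_sum_mul, ← pow_succ, Nat.sub_add_cancel hp, sub_pow_char_pow, one_pow]
  have hne : (X - 1 : (ZMod p)[X]) ≠ 0 := by
    have := X_sub_C_ne_zero (1 : ZMod p)
    simpa using this
  exact mul_right_cancel₀ hne h1

/-- A linear endomorphism `c` of a finite-dimensional `ZMod p`-space with `c ^ (p^r) = 1`
satisfies `∑ i < p^k, c^i = 0` as soon as `p^k` exceeds the dimension. -/
theorem sum_pow_eq_zero_of_pow_eq_one {p : ℕ} [Fact p.Prime] {V : Type*} [AddCommGroup V]
    [Module (ZMod p) V] [Module.Finite (ZMod p) V] (c : Module.End (ZMod p) V) (r : ℕ)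
    (hc : c ^ (p ^ r) = 1) (k : ℕ) (hk : Module.finrank (ZMod p) V < p ^ k) :
    ∑ i ∈ Finset.range (p ^ k), c ^ i = 0 := by
  have hnil : IsNilpotent (c - 1) := by
    refine ⟨p ^ r, ?_⟩
    have h := congrArg (aeval c)
      (sub_pow_char_pow (R := (ZMod p)[X]) (p := p) (n := r) (x := X) (y := 1))
    simp only [map_pow, map_sub, aeval_X, map_one, one_pow] at h
    rw [h, hc, sub_self]
  have h0 : (c - 1) ^ Module.finrank (ZMod p) V = 0 := by
    have h := (c - 1).aeval_self_charpoly
    rw [hnil.charpoly_eq_X_pow_finrank] at h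
    simpa using h
  have h := congrArg (aeval c) (geom_sum_X_char p k)
  simp only [map_sum, map_pow, aeval_X, map_sub, map_one] at h
  rw [h]
  obtain ⟨d, hd⟩ : ∃ d, p ^ k - 1 = Module.finrank (ZMod p) V + d :=
    Nat.exists_eq_add_of_le (by omega)
  rw [hd, pow_add, h0, zero_mul]

/-- Auxiliary version of `twisted_pow_eq_one` with the module structure as an instance. -/
theorem twisted_pow_eq_one_aux {A : Type*} [CommGroup A] [Finite A] (p m : ℕ) [Fact p.Prime]
    [Module (ZMod p) (Additive A)] (hcard : Nat.card A = p ^ m) (c : MulAut A) (r : ℕ)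
    (hc : c ^ (p ^ r) = 1) (k : ℕ) (hk : m < p ^ k) (a : A) (b : ℕ → A) (hb0 : b 0 = 1)
    (hb : ∀ i, b (i + 1) = c (b i) * a) : b (p ^ k) = 1 := by
  have : Finite (Additive A) := inferInstanceAs (Finite A)
  have : Module.Finite (ZMod p) (Additive A) := Module.Finite.of_finite
  have hfr : Module.finrank (ZMod p) (Additive A) = m := by
    have h := Module.natCard_eq_pow_finrank (K := ZMod p) (V := Additive A)
    rw [Nat.card_zmod] at h
    have h2 : Nat.card (Additive A) = Nat.card A := rfl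
    rw [h2, hcard] at h
    exact (Nat.pow_right_injective (Fact.out : p.Prime).two_le h).symm
  let Φ : MulAut A →* Module.End (ZMod p) (Additive A) :=
    { toFun := fun c => (MonoidHom.toAdditive c.toMonoidHom).toZModLinearMap p
      map_one' := LinearMap.ext fun x => rfl
      map_mul' := fun x y => LinearMap.ext fun x => rfl }
  have hΦ : (Φ c) ^ (p ^ r) = 1 := by rw [← map_pow, hc, map_one]
  have hsum := sum_pow_eq_zero_of_pow_eq_one (Φ c) r hΦ k (by rw [hfr]; exact hk)
  have key : ∀ i, Additive.ofMul (b i)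
      = (∑ j ∈ Finset.range i, (Φ c) ^ j) (Additive.ofMul a) := by
    intro i
    induction i with
    | zero => simp [hb0]
    | succ i ih =>
      rw [Finset.sum_range_succ', hb]
      have h1 : (∑ j ∈ Finset.range i, (Φ c) ^ (j + 1))
          = Φ c * ∑ j ∈ Finset.range i, (Φ c) ^ j := by
        rw [Finset.mul_sum]
        exact Finset.sum_congr rfl (fun j _ => pow_succ' _ _)
      rw [h1, LinearMap.add_apply, Module.End.mul_apply, ← ih, pow_zero, Module.End.one_apply]
      rfl
  have h := key (p ^ k)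
  rw [hsum] at h
  simpa using h

/-- Group version: `A` elementary abelian of order `p^m`, `c` an automorphism of `p`-power
order, `p^k > m`. Then the "twisted power" `b (p^k)` is trivial, where `b 0 = 1`,
`b (i+1) = c (b i) * a`. -/
theorem twisted_pow_eq_one {A : Type*} [CommGroup A] [Finite A] (p m : ℕ) [Fact p.Prime]
    (hexp : ∀ a : A, a ^ p = 1) (hcard : Nat.card A = p ^ m) (c : MulAut A) (r : ℕ)
    (hc : c ^ (p ^ r) = 1) (k : ℕ) (hk : m < p ^ k) (a : A) (b : ℕ → A) (hb0 : b 0 = 1)
    (hb : ∀ i, b (i + 1) = c (b i) * a) : b (p ^ k) = 1 :=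
  @twisted_pow_eq_one_aux A _ _ p m _
    (AddCommGroup.zmodModule (n := p) (fun x => congrArg Additive.ofMul (hexp x.toMul)))
    hcard c r hc k hk a b hb0 hb

end Cfsg.Agent.Lib.helper62
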