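import Mathlib
import Cfsg.Agent.S0035
import Cfsg.Agent.S0042
import Cfsg.Agent.Lib.helper24.SzField
import Cfsg.Agent.Lib.helper54.CHZSolv
import Cfsg.Agent.Lib.helper1.Fpf

/-!
Doubly transitive groups with a regular normal subgroup in which no nonidentity element fixes
three points but some nonidentity element fixes two: the degree is `2 ^ p` with `p` prime.
-/

namespace Cfsg.Agent.Lib.helper62

/-- In a regular action, an element fixing a point is trivial. -/
theorem zf_reg_eq_one {G Ω : Type*} [Group G] [MulAction G Ω] (N : Subgroup G)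
    (hNr : ∀ a : Ω, MulAction.stabilizer N a = ⊥) {x : G} (hx : x ∈ N) {a : Ω} (h : x • a = a) :
    x = 1 := by
  have h1 : (⟨x, hx⟩ : N) ∈ MulAction.stabilizer N a := by
    rw [MulAction.mem_stabilizer_iff]; exact h
  rw [hNr a, Subgroup.mem_bot] at h1
  exact congrArg Subtype.val h1

/-- The regular normal subgroup has exponent two. -/
theorem zf_sq_eq_one {G Ω : Type*} [Group G] [MulAction G Ω]
    (h2 : MulAction.IsMultiplyPretransitive G Ω 2)
    (h3 : ∀ g : G, ∀ a b c : Ω, a ≠ b → b ≠ c → a ≠ c → g • a = a → g • b = b → g • c = c → g = 1)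
    (hfix : ∃ g : G, g ≠ 1 ∧ ∃ a b : Ω, a ≠ b ∧ g • a = a ∧ g • b = b)
    (N : Subgroup G) [hNn : N.Normal]
    (hNr : ∀ a : Ω, MulAction.stabilizer N a = ⊥) :
    ∀ x ∈ N, x * x = 1 := by
  intro x hx
  by_cases hx1 : x = 1
  · rw [hx1, mul_one]
  obtain ⟨g0, hg0, a', b', ha'b', hg0a, hg0b⟩ := hfix
  have hxa : x • a' ≠ a' := fun h => hx1 (zf_reg_eq_one N hNr hx h)
  rw [MulAction.is_two_pretransitive_iff] at h2
  obtain ⟨h, hha, hhb⟩ := h2 (a := a') (b := b') (c := a') (d := x • a') ha'b' (Ne.symm hxa)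
  have hk1 : h * g0 * h⁻¹ ≠ 1 := by
    intro h1
    apply hg0
    have e1 : g0 = h⁻¹ * (h * g0 * h⁻¹) * h := by group
    rw [e1, h1]; group
  have hia : h⁻¹ • a' = a' := by rw [inv_smul_eq_iff, hha]
  have hib : h⁻¹ • (x • a') = b' := by rw [inv_smul_eq_iff, hhb]
  have hka : (h * g0 * h⁻¹) • a' = a' := by
    rw [mul_smul, mul_smul, hia, hg0a, hha]
  have hkb : (h * g0 * h⁻¹) • (x • a') = x • a' := by
    rw [mul_smul, mul_smul, hib, hg0b, hhb]
  generalize h * g0 * h⁻¹ = k at hk1 hka hkb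
  have hkia : k⁻¹ • a' = a' := by rw [inv_smul_eq_iff, hka]
  have hcomm : k * x = x * k := by
    have hmem : x⁻¹ * (k * x * k⁻¹) ∈ N := N.mul_mem (N.inv_mem hx) (hNn.conj_mem x hx k)
    have hfixa : (x⁻¹ * (k * x * k⁻¹)) • a' = a' := by
      rw [mul_smul, mul_smul, mul_smul, hkia, hkb, inv_smul_smul]
    have h4 := zf_reg_eq_one N hNr hmem hfixa
    have h5 : k * x * k⁻¹ = x := by
      have := congrArg (fun t => x * t) h4
      simpa using this
    calc k * x = k * x * k⁻¹ * k := by group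
      _ = x * k := by rw [h5]
  have hkc : k • (x • (x • a')) = x • (x • a') := by
    rw [← mul_smul, hcomm, mul_smul, hkb]
  by_contra hxx
  have hne : a' ≠ x • (x • a') := by
    intro h5
    apply hxx
    apply zf_reg_eq_one N hNr (N.mul_mem hx hx) (a := a')
    rw [mul_smul]; exact h5.symm
  have hne2 : x • a' ≠ x • (x • a') := by
    intro h5
    exact hxa (smul_left_cancel x h5).symm
  exact hk1 (h3 k a' (x • a') (x • (x • a')) (Ne.symm hxa) hne2 hne hka hkb hkc)

open scoped Pointwise in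
/-- The Frobenius kernel of a point stabilizer. -/
theorem zf_exists_kernel {G Ω : Type*} [Group G] [Finite G] [MulAction G Ω]
    (h2 : MulAction.IsMultiplyPretransitive G Ω 2)
    (h3 : ∀ g : G, ∀ a b c : Ω, a ≠ b → b ≠ c → a ≠ c → g • a = a → g • b = b → g • c = c → g = 1)
    (a b : Ω) (hab : a ≠ b) (hK : ∃ g : G, g ≠ 1 ∧ g • a = a ∧ g • b = b)
    (hc : ∃ c : Ω, c ≠ a ∧ c ≠ b) :
    ∃ M : Subgroup G, (∀ m ∈ M, m • a = a) ∧
      (∀ m ∈ M, m ≠ 1 → ∀ c : Ω, c ≠ a → m • c ≠ c) ∧
      (∀ c : Ω, c ≠ a → ∃ m ∈ M, m • b = c) ∧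
      Group.IsNilpotent M ∧
      (∀ h : G, h • a = a → ∀ m ∈ M, h * m * h⁻¹ ∈ M) := by
  rw [MulAction.is_two_pretransitive_iff] at h2
  let Ha : Subgroup G := MulAction.stabilizer G a
  let K : Subgroup Ha := MulAction.stabilizer Ha b
  have hmemHa : ∀ x : G, x ∈ Ha ↔ x • a = a := fun x => MulAction.mem_stabilizer_iff
  have hmemK : ∀ x : Ha, x ∈ K ↔ (x : G) • b = b := fun x => MulAction.mem_stabilizer_iff
  have hFrob : Cfsg.IsFrobeniusComplement K := by
    refine ⟨?_, ?_, ?_⟩
    · obtain ⟨g, hg1, hga, hgb⟩ := hK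
      intro hbot
      have h1 : (⟨g, (hmemHa g).mpr hga⟩ : Ha) ∈ K := (hmemK _).mpr hgb
      rw [hbot, Subgroup.mem_bot] at h1
      exact hg1 (congrArg Subtype.val h1)
    · obtain ⟨c, hca, hcb⟩ := hc
      obtain ⟨h, hha, hhb⟩ := h2 (a := a) (b := b) (c := a) (d := c) hab (Ne.symm hca)
      intro htop
      have h1 : (⟨h, (hmemHa h).mpr hha⟩ : Ha) ∈ K := by rw [htop]; exact Subgroup.mem_top _
      rw [hmemK] at h1
      exact hcb (hhb.symm.trans h1)
    · intro g hg
      rw [eq_bot_iff]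
      intro x hx
      rw [Subgroup.mem_inf] at hx
      obtain ⟨hx1, hx2⟩ := hx
      rw [Cfsg.Agent.Lib.helper84.mem_conj_smul_iff, hmemK] at hx2
      rw [hmemK] at hx1
      rw [hmemK] at hg
      have hxg : (x : G) • ((g : G) • b) = (g : G) • b := by
        have h5 : ((g : G)⁻¹ * (x : G) * (g : G)) • b = b := hx2
        rw [mul_smul, mul_smul, inv_smul_eq_iff] at h5
        exact h5
      have hga : (g : G) • a = a := (hmemHa _).mp g.2
      have hxa : (x : G) • a = a := (hmemHa _).mp x.2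
      have hne1 : b ≠ (g : G) • b := fun h => hg h.symm
      have hne2 : a ≠ (g : G) • b := by
        intro h
        apply hab
        have h6 : (g : G) • a = (g : G) • b := hga.trans h
        exact smul_left_cancel _ h6
      have h7 := h3 (x : G) a b ((g : G) • b) hab hne1 hne2 hxa hx1 hxg
      rw [Subgroup.mem_bot]
      exact Subtype.ext h7
  obtain ⟨M0, hM0c, hM0n, hM0K⟩ := Cfsg.Agent.S0035.result K hFrob
  obtain ⟨M1, hM1c, -, hM1nil⟩ := Cfsg.Agent.S0042.result K hFrob
  have hM10 : M1 = M0 := SetLike.coe_injective (hM1c.trans hM0c.symm)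
  rw [hM10] at hM1nil
  have hker : ∀ x : Ha, x ∈ M0 → x ≠ 1 → ∀ g : Ha, x ∉ MulAut.conj g • K := by
    intro x hx hx1
    have h1 : x ∈ (M0 : Set Ha) := hx
    rw [hM0c] at h1
    rcases h1 with h | h
    · exact absurd h hx1
    · exact h
  refine ⟨M0.map Ha.subtype, ?_, ?_, ?_, ?_, ?_⟩
  · rintro m ⟨x, -, rfl⟩
    exact (hmemHa _).mp x.2
  · rintro m ⟨x, hx, rfl⟩ hm1 c hca hfix
    have hx1 : x ≠ 1 := by
      intro h; apply hm1; rw [h]; rfl
    obtain ⟨g, hga, hgb⟩ := h2 (a := a) (b := b) (c := a) (d := c) hab (Ne.symm hca)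
    apply hker x hx hx1 ⟨g, (hmemHa g).mpr hga⟩
    rw [Cfsg.Agent.Lib.helper84.mem_conj_smul_iff, hmemK]
    show (g⁻¹ * (x : G) * g) • b = b
    rw [mul_smul, mul_smul, hgb, inv_smul_eq_iff]
    exact hfix.trans hgb.symm
  · intro c hca
    obtain ⟨g, hga, hgb⟩ := h2 (a := a) (b := b) (c := a) (d := c) hab (Ne.symm hca)
    obtain ⟨⟨⟨m, hm⟩, ⟨κ, hκ⟩⟩, hmk⟩ := hM0K.2 ⟨g, (hmemHa g).mpr hga⟩
    refine ⟨(m : G), ⟨m, hm, rfl⟩, ?_⟩
    have h1 : (m : G) * (κ : G) = g := congrArg Subtype.val hmk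
    rw [← hgb, ← h1, mul_smul, (hmemK κ).mp hκ]
  · have := hM1nil
    exact Group.nilpotent_of_mulEquiv
      (M0.equivMapOfInjective Ha.subtype (Subgroup.subtype_injective Ha))
  · intro h hha m hm
    obtain ⟨x, hx, rfl⟩ := hm
    exact ⟨⟨h, (hmemHa h).mpr hha⟩ * x * ⟨h, (hmemHa h).mpr hha⟩⁻¹, hM0n.conj_mem x hx _, rfl⟩

/-- A nilpotent group of odd order acting fixed-point-freely on an abelian normal subgroup is
commutative. -/
theorem zf_comm_of_fpf_nilpotent {G : Type*} [Group G] [Finite G] (V M : Subgroup G)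
    [hVn : V.Normal]
    (hVc : ∀ a ∈ V, ∀ b ∈ V, a * b = b * a) (hV : V ≠ ⊥)
    (hfpf : ∀ m ∈ M, m ≠ 1 → ∀ w ∈ V, m * w * m⁻¹ = w → w = 1)
    (hodd : Odd (Nat.card M)) (hnil : Group.IsNilpotent M) :
    ∀ x ∈ M, ∀ y ∈ M, x * y = y * x := by
  classical
  have hsyl : ∀ (p : ℕ) [Fact p.Prime] (P : Sylow p M), ∀ u v : (P : Subgroup M),
      u * v = v * u := by
    intro p _ P
    have hcyc : IsCyclic (P : Subgroup M) := by
      apply Cfsg.Agent.Lib.helper54.isCyclic_of_forall_abelian_isCyclic (p := p)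
      · have hdvd : Nat.card (P : Subgroup M) ∣ Nat.card M := Subgroup.card_subgroup_dvd_card _
        exact hodd.of_dvd_nat hdvd
      · exact P.isPGroup'
      · intro A hA
        let ι : (P : Subgroup M) →* G := M.subtype.comp (P : Subgroup M).subtype
        have hι : Function.Injective ι := fun x y h => Subtype.ext (Subtype.ext h)
        have hcycA' : IsCyclic (A.map ι) := by
          apply Cfsg.Agent.Lib.helper1.fpf_abelian_cyclic (A.map ι) V hVc hV
          · intro g _
            rw [Subgroup.normalizer_eq_top]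
            exact Subgroup.mem_top g
          · rintro g ⟨x, hx, rfl⟩ hg1 w hw hfixw
            exact hfpf (ι x) (x : M).2 hg1 w hw hfixw
          · rintro g ⟨x, hx, rfl⟩ g' ⟨y, hy, rfl⟩
            rw [← map_mul, ← map_mul, hA x hx y hy]
        exact isCyclic_of_surjective (A.equivMapOfInjective ι hι).symm.toMonoidHom
          (A.equivMapOfInjective ι hι).symm.surjective
    obtain ⟨g, hg⟩ := IsCyclic.exists_generator (α := (P : Subgroup M))
    intro u v
    obtain ⟨i, rfl⟩ := Subgroup.mem_zpowers_iff.mp (hg u)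
    obtain ⟨j, rfl⟩ := Subgroup.mem_zpowers_iff.mp (hg v)
    exact (Commute.zpow_zpow_self g i j).eq
  have hall : ∀ u v : M, u * v = v * u := by
    obtain ⟨e⟩ := ((Group.isNilpotent_of_finite_tfae (G := M)).out 0 4).mp hnil
    intro u v
    have h1 : e.symm u * e.symm v = e.symm v * e.symm u := by
      funext p P
      have : Fact (Nat.Prime (p : ℕ)) := ⟨Nat.prime_of_mem_primeFactors p.2⟩
      exact hsyl p P _ _
    have h2 := congrArg e h1
    simpa using h2
  intro x hx y hy
  exact congrArg Subtype.val (hall ⟨x, hx⟩ ⟨y, hy⟩)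

/-- Main theorem: the degree is `2 ^ p` with `p` prime. -/
theorem zf_card_eq_two_pow_prime {G Ω : Type*} [Group G]
    [MulAction G Ω] [Fintype Ω] [FaithfulSMul G Ω] (h2 : MulAction.IsMultiplyPretransitive G Ω 2)
    (h3 : ∀ g : G, ∀ a b c : Ω, a ≠ b → b ≠ c → a ≠ c → g • a = a → g • b = b → g • c = c → g = 1)
    (hfix : ∃ g : G, g ≠ 1 ∧ ∃ a b : Ω, a ≠ b ∧ g • a = a ∧ g • b = b)
    (N : Subgroup G) [hNn : N.Normal] (hNt : MulAction.IsPretransitive N Ω)
    (hNr : ∀ a : Ω, MulAction.stabilizer N a = ⊥) :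
    ∃ p : ℕ, p.Prime ∧ Fintype.card Ω = 2 ^ p := by
  classical
  have : Finite G := Finite.of_injective (MulAction.toPermHom G Ω) MulAction.toPerm_injective
  have hsq := zf_sq_eq_one h2 h3 hfix N hNr
  obtain ⟨g0, hg0, a, b, hab, hg0a, hg0b⟩ := hfix
  -- `N` is commutative
  have hNc : ∀ x ∈ N, ∀ y ∈ N, x * y = y * x := by
    intro x hx y hy
    have h1 := hsq (x * y) (N.mul_mem hx hy)
    have hxi : x⁻¹ = x := inv_eq_of_mul_eq_one_left (hsq x hx)
    have hyi : y⁻¹ = y := inv_eq_of_mul_eq_one_left (hsq y hy)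
    calc x * y = (x * y)⁻¹ := (inv_eq_of_mul_eq_one_left h1).symm
      _ = y⁻¹ * x⁻¹ := mul_inv_rev x y
      _ = y * x := by rw [hxi, hyi]
  have hφinj : ∀ x ∈ N, ∀ y ∈ N, x • a = y • a → x = y := by
    intro x hx y hy h
    have h1 : (y⁻¹ * x) • a = a := by rw [mul_smul, h, inv_smul_smul]
    have h4 := zf_reg_eq_one N hNr (N.mul_mem (N.inv_mem hy) hx) h1
    exact (inv_mul_eq_one.mp h4).symm
  have hφsurj : ∀ c : Ω, ∃ x ∈ N, x • a = c := by
    intro c
    obtain ⟨n, hn⟩ := hNt.exists_smul_eq a c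
    exact ⟨n, n.2, hn⟩
  have hcardN : Nat.card N = Fintype.card Ω := by
    rw [← Nat.card_eq_fintype_card]
    apply Nat.card_congr
    exact Equiv.ofBijective (fun n : N => (n : G) • a)
      ⟨fun x y h => Subtype.ext (hφinj x x.2 y y.2 h), fun c => by
        obtain ⟨x, hx, hxc⟩ := hφsurj c
        exact ⟨⟨x, hx⟩, hxc⟩⟩
  have hNp : IsPGroup 2 N := by
    intro x
    refine ⟨1, ?_⟩
    rw [pow_one, pow_two]
    exact Subtype.ext (hsq x x.2)
  obtain ⟨k, hk⟩ := hNp.exists_card_eq
  have hΩk : Fintype.card Ω = 2 ^ k := by rw [← hcardN, hk]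
  have hk0 : k ≠ 0 := by
    rintro rfl
    have h1 : 1 < Fintype.card Ω := Fintype.one_lt_card_iff.mpr ⟨a, b, hab⟩
    rw [hΩk] at h1
    simp at h1
  have hthird : ∃ c : Ω, c ≠ a ∧ c ≠ b := by
    by_contra hcon
    push Not at hcon
    apply hg0
    apply FaithfulSMul.eq_of_smul_eq_smul (α := Ω)
    intro c
    rw [one_smul]
    by_cases hca : c = a
    · rw [hca, hg0a]
    · rw [hcon c hca, hg0b]
  obtain ⟨M, hMa, hMfree, hMtr, hMnil, hMnorm⟩ :=
    zf_exists_kernel h2 h3 a b hab ⟨g0, hg0, hg0a, hg0b⟩ hthird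
  have hconj_a : ∀ h : G, h • a = a → ∀ y : G, (h * y * h⁻¹) • a = h • (y • a) := by
    intro h hh y
    have h1 : h⁻¹ • a = a := by rw [inv_smul_eq_iff, hh]
    rw [mul_smul, mul_smul, h1]
  have hMcard : Nat.card M + 1 = Fintype.card Ω := by
    let f : M → {c : Ω // c ≠ a} := fun m => ⟨(m : G) • b, by
      intro h
      apply hab
      have h1 : (m : G) • b = (m : G) • a := h.trans (hMa m m.2).symm
      exact (smul_left_cancel _ h1).symm⟩
    have hf : Function.Bijective f := by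
      constructor
      · intro m m' h
        have h1 : (m : G) • b = (m' : G) • b := congrArg Subtype.val h
        have h4 : ((m' : G)⁻¹ * (m : G)) • b = b := by rw [mul_smul, h1, inv_smul_smul]
        by_contra hne
        have hne' : (m' : G)⁻¹ * (m : G) ≠ 1 := by
          intro h5
          apply hne
          exact Subtype.ext (inv_mul_eq_one.mp h5).symm
        exact hMfree _ (M.mul_mem (M.inv_mem m'.2) m.2) hne' b (Ne.symm hab) h4
      · rintro ⟨c, hc⟩
        obtain ⟨m, hm, hmc⟩ := hMtr c hc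
        exact ⟨⟨m, hm⟩, Subtype.ext hmc⟩
    have h1 : Nat.card M = Nat.card {c : Ω // c ≠ a} := Nat.card_congr (Equiv.ofBijective f hf)
    have h4 : Nat.card {c : Ω // c ≠ a} = Fintype.card Ω - 1 := by
      rw [Nat.card_eq_fintype_card, Fintype.card_subtype_compl, Fintype.card_subtype_eq]
    have h5 : 0 < Fintype.card Ω := Fintype.card_pos_iff.mpr ⟨a⟩
    omega
  have hModd : Odd (Nat.card M) := by
    have he : Even (2 ^ k) := Nat.even_pow.mpr ⟨even_two, hk0⟩
    rw [← hΩk, ← hMcard] at he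
    exact Nat.not_even_iff_odd.mp (Nat.even_add_one.mp he)
  have hfpf : ∀ m ∈ M, m ≠ 1 → ∀ w ∈ N, m * w * m⁻¹ = w → w = 1 := by
    intro m hm hm1 w hw hcw
    by_contra hw1
    have hwa : w • a ≠ a := fun h => hw1 (zf_reg_eq_one N hNr hw h)
    apply hMfree m hm hm1 (w • a) hwa
    rw [← hconj_a m (hMa m hm), hcw]
  have hNbot : N ≠ ⊥ := by
    intro h
    obtain ⟨x, hx, hxb⟩ := hφsurj b
    rw [h, Subgroup.mem_bot] at hx
    rw [hx, one_smul] at hxb
    exact hab hxb
  have hMc := zf_comm_of_fpf_nilpotent N M hNc hNbot hfpf hModd hMnil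
  -- the field structure
  let cj : G → (N →* N) := fun h => (MulAut.conjNormal h : MulAut N).toMonoidHom
  have hcj : ∀ (h : G) (y : N), ((cj h y : N) : G) = h * y * h⁻¹ :=
    fun h y => MulAut.conjNormal_apply h y
  let T : Set (N →* N) := {f | ∃ m ∈ M, f = cj m}
  have hT : ∀ f ∈ T, ∀ g ∈ T, ∀ x, f (g x) = g (f x) := by
    rintro _ ⟨m, hm, rfl⟩ _ ⟨m', hm', rfl⟩ x
    apply Subtype.ext
    rw [hcj, hcj, hcj, hcj]
    have h1 := hMc m hm m' hm'
    calc m * (m' * ↑x * m'⁻¹) * m⁻¹ = (m * m') * ↑x * (m * m')⁻¹ := by group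
      _ = (m' * m) * ↑x * (m' * m)⁻¹ := by rw [h1]
      _ = m' * (m * ↑x * m⁻¹) * m'⁻¹ := by group
  have htr : ∀ x y : N, x ≠ 1 → y ≠ 1 → ∃ f ∈ T, f x = y := by
    intro x y hx hy
    have hxa : (x : G) • a ≠ a := fun h => hx (Subtype.ext (zf_reg_eq_one N hNr x.2 h))
    have hya : (y : G) • a ≠ a := fun h => hy (Subtype.ext (zf_reg_eq_one N hNr y.2 h))
    obtain ⟨m1, hm1, h1⟩ := hMtr _ hxa
    obtain ⟨m2, hm2, h4⟩ := hMtr _ hya
    refine ⟨cj (m2 * m1⁻¹), ⟨m2 * m1⁻¹, M.mul_mem hm2 (M.inv_mem hm1), rfl⟩, ?_⟩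
    apply Subtype.ext
    apply hφinj _ (cj (m2 * m1⁻¹) x).2 _ y.2
    have h5 : (m2 * m1⁻¹) • a = a := by
      rw [mul_smul, inv_smul_eq_iff.mpr (hMa m1 hm1).symm, hMa m2 hm2]
    rw [hcj, hconj_a _ h5, mul_smul, ← h1, inv_smul_smul, h4]
  have hinj : ∀ f ∈ T, Function.Injective f := by
    rintro _ ⟨m, hm, rfl⟩
    exact (MulAut.conjNormal m : MulAut N).injective
  obtain ⟨x0, hx0a⟩ : ∃ x0 : N, (x0 : G) • a = b := by
    obtain ⟨x, hx, hxb⟩ := hφsurj b
    exact ⟨⟨x, hx⟩, hxb⟩
  have hx01 : x0 ≠ 1 := by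
    intro h
    rw [h, Subgroup.coe_one, one_smul] at hx0a
    exact hab hx0a
  have : Fact (Nat.Prime 2) := ⟨Nat.prime_two⟩
  letI : Fintype (GaloisField 2 k) := Fintype.ofFinite _
  have hF : Fintype.card (GaloisField 2 k) = Nat.card N := by
    rw [hk, ← Nat.card_eq_fintype_card]
    exact GaloisField.card 2 k hk0
  obtain ⟨e, he, hadd, hsc, hsc'⟩ :=
    Cfsg.Agent.Lib.helper24.field_of_regular (A := N)
      (fun x y => Subtype.ext (hNc x x.2 y y.2)) T hT htr hinj ⟨x0, hx01⟩ hF
  have he1 : e 1 = 0 := by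
    have h1 := hadd 1 1
    rw [mul_one] at h1
    simpa using h1
  have hc0 : e x0 ≠ 0 := by
    intro h
    apply hx01
    exact he.1 (h.trans he1.symm)
  let E : N ≃ GaloisField 2 k :=
    (Equiv.ofBijective e he).trans (Equiv.mulRight₀ (e x0)⁻¹ (inv_ne_zero hc0))
  have hE : ∀ y, E y = e y * (e x0)⁻¹ := fun y => rfl
  have hEadd : ∀ x y, E (x * y) = E x + E y := by
    intro x y
    rw [hE, hE, hE, hadd, add_mul]
  have hE1 : E 1 = 0 := by rw [hE, he1, zero_mul]
  have hEx0 : E x0 = 1 := by rw [hE, mul_inv_cancel₀ hc0]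
  have hEsc : ∀ m ∈ M, ∃ c : GaloisField 2 k, ∀ y, E (cj m y) = c * E y := by
    intro m hm
    obtain ⟨c, hc⟩ := hsc (cj m) ⟨m, hm, rfl⟩
    exact ⟨c, fun y => by rw [hE, hE, hc, mul_assoc]⟩
  have hEsc' : ∀ c : GaloisField 2 k, c ≠ 0 → ∃ m ∈ M, ∀ y, E (cj m y) = c * E y := by
    intro c hc
    obtain ⟨f, ⟨m, hm, rfl⟩, hf⟩ := hsc' c hc
    exact ⟨m, hm, fun y => by rw [hE, hE, hf, mul_assoc]⟩
  -- the action of the two-point stabilizer on the field
  let act : G → GaloisField 2 k → GaloisField 2 k := fun h c => E (cj h (E.symm c))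
  have hcj_one : ∀ y : N, cj 1 y = y := by
    intro y
    apply Subtype.ext
    rw [hcj]
    group
  have hcj_mul : ∀ (h h' : G) (y : N), cj (h * h') y = cj h (cj h' y) := by
    intro h h' y
    apply Subtype.ext
    rw [hcj, hcj, hcj]
    group
  have hact_one : ∀ c, act 1 c = c := by
    intro c
    show E (cj 1 (E.symm c)) = c
    rw [hcj_one, Equiv.apply_symm_apply]
  have hact_mul : ∀ h h' c, act (h * h') c = act h (act h' c) := by
    intro h h' c
    show E (cj (h * h') (E.symm c)) = E (cj h (E.symm (E (cj h' (E.symm c)))))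
    rw [Equiv.symm_apply_apply, hcj_mul]
  have hEsymm0 : E.symm 0 = 1 := by rw [Equiv.symm_apply_eq, hE1]
  have hEsymm1 : E.symm 1 = x0 := by rw [Equiv.symm_apply_eq, hEx0]
  have hEsymm_add : ∀ c d, E.symm (c + d) = E.symm c * E.symm d := by
    intro c d
    rw [Equiv.symm_apply_eq, hEadd, Equiv.apply_symm_apply, Equiv.apply_symm_apply]
  have hact_zero : ∀ h, act h 0 = 0 := by
    intro h
    show E (cj h (E.symm 0)) = 0
    rw [hEsymm0, map_one, hE1]
  have hact_add : ∀ h c d, act h (c + d) = act h c + act h d := by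
    intro h c d
    show E (cj h (E.symm (c + d))) = E (cj h (E.symm c)) + E (cj h (E.symm d))
    rw [hEsymm_add, map_mul, hEadd]
  have hcj_x0 : ∀ h : G, h • a = a → h • b = b → cj h x0 = x0 := by
    intro h hha hhb
    apply Subtype.ext
    apply hφinj _ (cj h x0).2 _ x0.2
    rw [hcj, hconj_a h hha, hx0a, hhb]
  have hact_one' : ∀ h : G, h • a = a → h • b = b → act h 1 = 1 := by
    intro h hha hhb
    show E (cj h (E.symm 1)) = 1
    rw [hEsymm1, hcj_x0 h hha hhb, hEx0]
  have hact_mul' : ∀ h : G, h • a = a → h • b = b → ∀ c d, act h (c * d) = act h c * act h d := by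
    intro h hha hhb c d
    by_cases hc : c = 0
    · rw [hc, zero_mul, hact_zero, zero_mul]
    obtain ⟨m, hm, hmc⟩ := hEsc' c hc
    obtain ⟨c', hc'⟩ := hEsc (h * m * h⁻¹) (hMnorm h hha m hm)
    have key : ∀ d, act h (c * d) = c' * act h d := by
      intro d
      show E (cj h (E.symm (c * d))) = c' * E (cj h (E.symm d))
      have h1 : E.symm (c * d) = cj m (E.symm d) := by
        rw [Equiv.symm_apply_eq, hmc, Equiv.apply_symm_apply]
      rw [h1, ← hc']
      congr 1
      apply Subtype.ext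
      rw [hcj, hcj, hcj, hcj]
      group
    have h1 := key 1
    rw [mul_one, hact_one' h hha hhb, mul_one] at h1
    rw [key d, h1]
  have hact_fix : ∀ h : G, h ≠ 1 → h • a = a → h • b = b → ∀ c, act h c = c → c = 0 ∨ c = 1 := by
    intro h hh1 hha hhb c hc
    have h1 : cj h (E.symm c) = E.symm c := by
      apply E.injective
      rw [Equiv.apply_symm_apply]
      exact hc
    generalize hy : E.symm c = y at h1
    have hcy : c = E y := by rw [← hy, Equiv.apply_symm_apply]
    have h4 : h • ((y : G) • a) = (y : G) • a := by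
      rw [← hconj_a h hha, ← hcj, h1]
    by_cases hya : (y : G) • a = a
    · left
      have h5 : y = 1 := Subtype.ext (zf_reg_eq_one N hNr y.2 hya)
      rw [hcy, h5, hE1]
    · by_cases hyb : (y : G) • a = b
      · right
        have h5 : y = x0 := Subtype.ext (hφinj _ y.2 _ x0.2 (hyb.trans hx0a.symm))
        rw [hcy, h5, hEx0]
      · exfalso
        exact hh1 (h3 h a b ((y : G) • a) hab (Ne.symm hyb) (Ne.symm hya) hha hhb h4)
  have hact_faith : ∀ h h' : G, h • a = a → h' • a = a → (∀ c, act h c = act h' c) → h = h' := by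
    intro h h' hha hha' hall
    apply FaithfulSMul.eq_of_smul_eq_smul (α := Ω)
    intro c
    obtain ⟨y, hy, rfl⟩ := hφsurj c
    have h1 : cj h ⟨y, hy⟩ = cj h' ⟨y, hy⟩ := by
      apply E.injective
      have h4 := hall (E ⟨y, hy⟩)
      have h5 : ∀ h'' : G, act h'' (E ⟨y, hy⟩) = E (cj h'' ⟨y, hy⟩) := by
        intro h''
        show E (cj h'' (E.symm (E ⟨y, hy⟩))) = E (cj h'' ⟨y, hy⟩)
        rw [Equiv.symm_apply_apply]
      rw [h5, h5] at h4
      exact h4
    have h4 : h * y * h⁻¹ = h' * y * h'⁻¹ := by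
      have h5 := congrArg Subtype.val h1
      rw [hcj, hcj] at h5
      exact h5
    rw [← hconj_a h hha, ← hconj_a h' hha', h4]
  -- every nonidentity element of the two-point stabilizer has order `k`
  have hord : ∀ κ : G, κ ≠ 1 → κ • a = a → κ • b = b → orderOf κ = k := by
    intro κ hκ1 hκa hκb
    have hZa : ∀ z : Subgroup.zpowers κ, (z : G) • a = a := by
      rintro ⟨z, hz⟩
      have h1 : Subgroup.zpowers κ ≤ MulAction.stabilizer G a := by
        rw [Subgroup.zpowers_le]
        exact hκa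
      exact h1 hz
    have hZb : ∀ z : Subgroup.zpowers κ, (z : G) • b = b := by
      rintro ⟨z, hz⟩
      have h1 : Subgroup.zpowers κ ≤ MulAction.stabilizer G b := by
        rw [Subgroup.zpowers_le]
        exact hκb
      exact h1 hz
    letI : MulSemiringAction (Subgroup.zpowers κ) (GaloisField 2 k) :=
      { smul := fun z c => act (z : G) c
        one_smul := fun c => hact_one c
        mul_smul := fun z z' c => hact_mul (z : G) (z' : G) c
        smul_zero := fun z => hact_zero (z : G)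
        smul_add := fun z c d => hact_add (z : G) c d
        smul_one := fun z => hact_one' (z : G) (hZa z) (hZb z)
        smul_mul := fun z c d => hact_mul' (z : G) (hZa z) (hZb z) c d }
    have hfaith : FaithfulSMul (Subgroup.zpowers κ) (GaloisField 2 k) :=
      ⟨fun {z z'} h => Subtype.ext (hact_faith z z' (hZa z) (hZa z') h)⟩
    letI : Fintype (Subgroup.zpowers κ) := Fintype.ofFinite _
    letI : Fintype (FixedPoints.subfield (Subgroup.zpowers κ) (GaloisField 2 k)) :=
      Fintype.ofFinite _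
    have hArtin := FixedPoints.finrank_eq_card (Subgroup.zpowers κ) (GaloisField 2 k)
    have hset : ((FixedPoints.subfield (Subgroup.zpowers κ) (GaloisField 2 k) :
        Subfield (GaloisField 2 k)) : Set (GaloisField 2 k)) = {0, 1} := by
      ext c
      constructor
      · intro hc
        have h1 : act κ c = c := hc ⟨κ, Subgroup.mem_zpowers κ⟩
        rcases hact_fix κ hκ1 hκa hκb c h1 with h | h
        · left; exact h
        · right; exact h
      · rintro (rfl | rfl)
        · exact (FixedPoints.subfield (Subgroup.zpowers κ) (GaloisField 2 k)).zero_mem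
        · exact (FixedPoints.subfield (Subgroup.zpowers κ) (GaloisField 2 k)).one_mem
    have hsub : Nat.card (FixedPoints.subfield (Subgroup.zpowers κ) (GaloisField 2 k)) = 2 := by
      have h1 : Nat.card (FixedPoints.subfield (Subgroup.zpowers κ) (GaloisField 2 k)) =
          Set.ncard ((FixedPoints.subfield (Subgroup.zpowers κ) (GaloisField 2 k) :
            Subfield (GaloisField 2 k)) : Set (GaloisField 2 k)) := rfl
      rw [h1, hset, Set.ncard_pair zero_ne_one]
    have hcardF := Module.card_eq_pow_finrank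
      (K := FixedPoints.subfield (Subgroup.zpowers κ) (GaloisField 2 k)) (V := GaloisField 2 k)
    rw [hArtin, ← Nat.card_eq_fintype_card
      (α := FixedPoints.subfield (Subgroup.zpowers κ) (GaloisField 2 k)), hsub, hF, hk] at hcardF
    have h1 := Nat.pow_right_injective (le_refl 2) hcardF
    rw [h1, ← Nat.card_eq_fintype_card, Nat.card_zpowers]
  have hk2 : orderOf g0 = k := hord g0 hg0 hg0a hg0b
  refine ⟨k, ?_, hΩk⟩
  rw [Nat.prime_def]
  refine ⟨?_, ?_⟩
  · by_contra hlt
    have h1 : k = 1 := by omega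
    rw [h1, orderOf_eq_one_iff] at hk2
    exact hg0 hk2
  · intro d hd
    by_contra hcon
    push Not at hcon
    obtain ⟨hd1, hdk⟩ := hcon
    have hdpos : 0 < d := Nat.pos_of_dvd_of_pos hd (Nat.pos_of_ne_zero hk0)
    have hdlt : d < k := lt_of_le_of_ne (Nat.le_of_dvd (Nat.pos_of_ne_zero hk0) hd) hdk
    have hpow1 : g0 ^ d ≠ 1 := by
      intro h
      have h1 := orderOf_dvd_of_pow_eq_one h
      rw [hk2] at h1
      exact absurd (Nat.le_of_dvd hdpos h1) (not_le.mpr hdlt)
    have hpa : (g0 ^ d) • a = a := by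
      have h1 : g0 ^ d ∈ MulAction.stabilizer G a :=
        (MulAction.stabilizer G a).pow_mem hg0a d
      exact h1
    have hpb : (g0 ^ d) • b = b := by
      have h1 : g0 ^ d ∈ MulAction.stabilizer G b :=
        (MulAction.stabilizer G b).pow_mem hg0b d
      exact h1
    have h1 := hord (g0 ^ d) hpow1 hpa hpb
    obtain ⟨e', he'⟩ := hd
    have h4 : (g0 ^ d) ^ e' = 1 := by rw [← pow_mul, ← he', ← hk2, pow_orderOf_eq_one]
    have h5 := orderOf_dvd_of_pow_eq_one h4
    rw [h1] at h5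
    have he'pos : 0 < e' := by
      rcases Nat.eq_zero_or_pos e' with h | h
      · rw [h, mul_zero] at he'
        exact absurd he' hk0
      · exact h
    have h6 := Nat.le_of_dvd he'pos h5
    have h7 : 2 ≤ d := by omega
    nlinarith

end Cfsg.Agent.Lib.helper62
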